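import Cfsg.Agent.Lib.OvalPlane.ThreeMod
import Cfsg.Agent.Lib.TwoTransPlane.Geom
import Mathlib.GroupTheory.SpecificGroups.Alternating

set_option autoImplicit false
set_option linter.unusedSectionVars false
set_option linter.unusedVariables false
set_option linter.style.haveILetI false

/-!
The alternating group of degree seven fixes no oval in a plane of order `3` modulo `4`; the main
result in that case.
-/

namespace CfsgLib.OvalPlane

open CfsgLib.TTP Equiv

universe u v w

/-- Permutations of seven points used against `A₇`. -/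
def altW : alternatingGroup (Fin 7) := ⟨swap 4 5 * swap 5 6, Equiv.Perm.mem_alternatingGroup.mpr (by decide)⟩

def altZ₁ : alternatingGroup (Fin 7) := ⟨swap 0 1 * swap 2 3, Equiv.Perm.mem_alternatingGroup.mpr (by decide)⟩

def altZ₂ : alternatingGroup (Fin 7) := ⟨swap 0 2 * swap 1 3, Equiv.Perm.mem_alternatingGroup.mpr (by decide)⟩

def altZ₃ : alternatingGroup (Fin 7) := ⟨swap 0 3 * swap 1 2, Equiv.Perm.mem_alternatingGroup.mpr (by decide)⟩

def altU₁ : alternatingGroup (Fin 7) := ⟨swap 0 1 * swap 4 5, Equiv.Perm.mem_alternatingGroup.mpr (by decide)⟩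

def altU₂ : alternatingGroup (Fin 7) := ⟨swap 0 2 * swap 4 5, Equiv.Perm.mem_alternatingGroup.mpr (by decide)⟩

def altU₃ : alternatingGroup (Fin 7) := ⟨swap 0 3 * swap 4 5, Equiv.Perm.mem_alternatingGroup.mpr (by decide)⟩

variable {P : Type u} {L : Type v} {π : Pl P L} {G : Type w} [Group G] [Finite P] [Finite L]
variable {A : Act π G} (O : Oval A)

include O in
/-- An element inverted by a homology commuting with another homology fixes only its centre and axis. -/
theorem fix_sub_of_inverted {z u w : G} {cz cu : P} {az au : L} (Hz : Hom A z cz az) (Hu : Hom A u cu au)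
    (hne : z ≠ u) (hzu : z * u = u * z) (hwz : w * z = z * w) (hinv : u * w * u = w⁻¹) (hnc : w * u ≠ u * w)
    {Y : P} (hY : A.p w Y = Y) : Y = cz ∨ π.I Y az := by
  have hwcz : A.p w cz = cz := (Hz.comm_iff_fix O).mp hwz
  by_cases hYu : A.p u Y = Y
  · rcases Hu.fix_cases hYu with rfl | hYa
    · exact absurd ((Hu.comm_iff_fix O).mpr hY) hnc
    refine Or.inl ?_
    by_contra hYc
    refine hnc ((Hu.comm_iff_fix_axis O).mpr ?_)
    have h := A.fix_join hYc hY hwcz
    rwa [π.join_eq hYc hYa (Hu.centre_on O Hz hne.symm hzu.symm)] at h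
  · refine Or.inr ?_
    have hY' : A.p w (A.p u Y) = A.p u Y := by
      have e : w * u = u * w⁻¹ := by
        rw [← hinv, ← mul_assoc, ← mul_assoc, Hu.sq, one_mul]
      rw [← A.p_mul, e, A.p_mul]
      conv_lhs => rw [← hY, A.p_inv_apply]
    set l := π.join Y (A.p u Y) with hl
    have hwl : A.l w l = l := A.fix_join (Ne.symm hYu) hY hY'
    have hul : A.l u l = l := by
      rw [hl, A.map_join u (Ne.symm hYu), ← A.p_mul, Hu.sq, map_one]
      exact π.join_eq hYu (π.join_right _ _) (π.join_left _ _)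
    have hcl : π.I cu l := (A.fixed_line Hu.mem Hu.ne hul).resolve_left fun e =>
      hYu (Hu.fix_on (e ▸ π.join_left Y _))
    have hcu : π.I cu az := Hz.centre_on O Hu hne hzu
    have hwaz : A.l w az = az := (Hz.comm_iff_fix_axis O).mp hwz
    rcases eq_or_ne l az with e | e
    · exact e ▸ π.join_left Y _
    · have h := A.fix_meet e hwl hwaz
      rw [π.meet_eq e hcl hcu] at h
      exact absurd ((Hu.comm_iff_fix O).mpr h) hnc

section Three

variable [Finite G] (hperf : commutator G = ⊤) (hn : π.n % 4 = 3)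

include O hperf hn in
theorem not_altSeven (e : G ≃* alternatingGroup (Fin 7)) : False := by
  classical
  haveI : Fact (Nat.Prime 3) := ⟨Nat.prime_three⟩
  have key : ∀ {x y : alternatingGroup (Fin 7)}, x = y → e.symm x = e.symm y := fun h => congrArg _ h
  set w := e.symm altW
  set z₁ := e.symm altZ₁
  set z₂ := e.symm altZ₂
  set z₃ := e.symm altZ₃
  have hinv : ∀ x : alternatingGroup (Fin 7), x * x = 1 → x ≠ 1 → IsHom A (e.symm x) := fun x h1 h2 =>
    all_hom O hperf hn (by rw [← map_mul, h1, map_one]) fun h => h2 (e.symm.injective (h.trans (map_one _).symm))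
  obtain ⟨c₁, a₁, H₁⟩ := hinv altZ₁ (by decide) (by decide)
  obtain ⟨c₂, a₂, H₂⟩ := hinv altZ₂ (by decide) (by decide)
  obtain ⟨c₃, a₃, H₃⟩ := hinv altZ₃ (by decide) (by decide)
  have hfix : ∀ (z u : alternatingGroup (Fin 7)) {cz : P} {az : L}, Hom A (e.symm z) cz az → u * u = 1 → u ≠ 1 →
      z ≠ u → z * u = u * z → altW * z = z * altW → u * altW * u = altW⁻¹ → altW * u ≠ u * altW →
      ∀ Y, A.p w Y = Y → Y = cz ∨ π.I Y az := by
    intro z u cz az Hz h1 h2 h3 h4 h5 h6 h7 Y hY
    obtain ⟨cu, au, Hu⟩ := hinv u h1 h2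
    refine fix_sub_of_inverted O Hz Hu (fun h => h3 (e.symm.injective h)) (by rw [← map_mul, ← map_mul, h4])
      (by rw [← map_mul, ← map_mul, h5]) (by rw [← map_mul, ← map_mul, ← map_inv, h6]) ?_ hY
    rw [← map_mul, ← map_mul]
    exact fun h => h7 (e.symm.injective h)
  have f₁ := hfix altZ₁ altU₁ H₁ (by decide) (by decide) (by decide) (by decide) (by decide) (by decide) (by decide)
  have f₂ := hfix altZ₂ altU₂ H₂ (by decide) (by decide) (by decide) (by decide) (by decide) (by decide) (by decide)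
  have f₃ := hfix altZ₃ altU₃ H₃ (by decide) (by decide) (by decide) (by decide) (by decide) (by decide) (by decide)
  have n12 : z₁ ≠ z₂ := fun h => absurd (e.symm.injective h) (by decide)
  have n13 : z₁ ≠ z₃ := fun h => absurd (e.symm.injective h) (by decide)
  have c12 : π.I c₂ a₁ := H₁.centre_on O H₂ n12 (by rw [← map_mul, ← map_mul]; exact key (by decide))
  have c13 : π.I c₃ a₁ := H₁.centre_on O H₃ n13 (by rw [← map_mul, ← map_mul]; exact key (by decide))
  have c23 : π.I c₃ a₂ := H₂.centre_on O H₃ (fun h => absurd (e.symm.injective h) (by decide))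
    (by rw [← map_mul, ← map_mul]; exact key (by decide))
  have hne12 : a₁ ≠ a₂ := fun h => n12 (H₁.eq_of_axis O (h ▸ H₂))
  have htri : ∀ Y, A.p w Y = Y → Y = c₁ ∨ Y = c₂ ∨ Y = c₃ := by
    intro Y hY
    rcases f₁ Y hY with h | h
    · exact Or.inl h
    rcases f₂ Y hY with h' | h'
    · exact Or.inr (Or.inl h')
    · exact Or.inr (Or.inr (π.eq_of_two_lines hne12 h c13 h' c23))
  have hw3 : w ^ 3 = 1 := by rw [← map_pow, show altW ^ 3 = 1 by decide, map_one]
  have hwc : ∀ (z : alternatingGroup (Fin 7)) {c : P} {a : L}, Hom A (e.symm z) c a → altW * z = z * altW →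
      A.p w c = c ∧ A.l w a = a := fun z c a H h => by
    have h' : w * e.symm z = e.symm z * w := by rw [← map_mul, ← map_mul, h]
    exact ⟨(H.comm_iff_fix O).mp h', (H.comm_iff_fix_axis O).mp h'⟩
  -- the oval
  have hO := A.card_modEq w hw3 O.pts fun x => O.mem_iff w
  have hO0 : {x | x ∈ O.pts ∧ A.p w x = x} = ∅ := Set.eq_empty_of_forall_notMem fun x hx => by
    rcases htri x hx.2 with rfl | rfl | rfl
    exacts [H₁.centre_notMem O hx.1, H₂.centre_notMem O hx.1, H₃.centre_notMem O hx.1]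
  rw [hO0, Set.ncard_empty, O.card] at hO
  -- the axis
  have ha := A.card_modEq w hw3 {x | π.I x a₁} fun x => by
    have h := A.inc w x a₁
    rwa [(hwc altZ₁ H₁ (by decide)).2] at h
  have ha2 : {x | x ∈ {x | π.I x a₁} ∧ A.p w x = x} = {c₂, c₃} := by
    ext x
    simp only [Set.mem_ofPred_eq, Set.mem_insert_iff, Set.mem_singleton_iff]
    constructor
    · rintro ⟨hx, hxw⟩
      rcases htri x hxw with rfl | h
      · exact absurd hx H₁.off
      · exact h
    · rintro (rfl | rfl)
      exacts [⟨c12, (hwc altZ₂ H₂ (by decide)).1⟩, ⟨c13, (hwc altZ₃ H₃ (by decide)).1⟩]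
  rw [ha2, Set.ncard_pair (fun h => absurd (e.symm.injective (H₂.eq_of_centre O (h.symm ▸ H₃))) (by decide)),
    ← Nat.card_coe_set_eq] at ha
  have hline : Nat.card {x | π.I x a₁} = π.n + 1 := π.card_line a₁
  rw [hline] at ha
  unfold Nat.ModEq at hO ha
  omega

include O hperf hn in
/-- The theorem for planes of order `3` modulo `4`. -/
theorem main_three [IsSimpleGroup G] (hG : ¬ IsMulCommutative G) :
    ∃ (F : Type) (_ : Field F) (_ : Fintype F), Odd (Fintype.card F) ∧
      Nonempty (G ≃* Matrix.ProjectiveSpecialLinearGroup (Fin 2) F) := by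
  haveI : Fact (Nat.Prime 2) := ⟨Nat.prime_two⟩
  obtain ⟨S⟩ : Nonempty (Sylow 2 G) := inferInstance
  obtain ⟨a, ha, b, hb, ha2, hb2, ha1, hb1, hab, habc⟩ := exists_klein hG S
  haveI := S.2
  haveI : Nontrivial (S : Subgroup G) := ⟨⟨⟨a, ha⟩, 1, fun h => ha1 (congrArg Subtype.val h)⟩⟩
  obtain ⟨z, hzS, hz2, hz1, hzc⟩ : ∃ z ∈ (S : Subgroup G), z * z = 1 ∧ z ≠ 1 ∧
      ∀ g ∈ (S : Subgroup G), g * z = z * g := by
    haveI := S.2.center_nontrivial
    obtain ⟨z, hz⟩ := exists_prime_orderOf_dvd_card' 2 (show 2 ∣ Nat.card (Subgroup.center (S : Subgroup G)) by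
      obtain ⟨k, hk⟩ := (S.2.to_subgroup (Subgroup.center (S : Subgroup G))).exists_card_eq
      rw [hk]
      refine dvd_pow_self 2 fun h => ?_
      rw [h, pow_zero] at hk
      have := Finite.one_lt_card (α := Subgroup.center (S : Subgroup G))
      omega)
    refine ⟨((z : (S : Subgroup G)) : G), (z : (S : Subgroup G)).2, ?_, fun h => ?_, fun g hg =>
      congrArg Subtype.val (Subgroup.mem_center_iff.mp z.2 ⟨g, hg⟩)⟩
    · have := pow_orderOf_eq_one z
      rw [hz, pow_two] at this
      exact congrArg (fun y : Subgroup.center (S : Subgroup G) => ((y : (S : Subgroup G)) : G)) this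
    · have : z = 1 := Subtype.ext (Subtype.ext h)
      rw [this, orderOf_one] at hz
      omega
  obtain ⟨u, huS, hu2, hu1, huz⟩ : ∃ u ∈ (S : Subgroup G), u * u = 1 ∧ u ≠ 1 ∧ u ≠ z := by
    by_cases h : a = z
    exacts [⟨b, hb, hb2, hb1, fun h' => hab (h.trans h'.symm)⟩, ⟨a, ha, ha2, ha1, h⟩]
  rcases sylow_cases S hu2 hu1 huS hzS hz2 hz1 (Ne.symm huz) (hzc u huS)
    (small_centralizer O hperf hn S hz2 hz1 hzc hu2 hu1 huz huS) with ⟨k, hk, hS⟩ | hQD
  · exact (psl_or_alt hG S hk hS).resolve_right fun ⟨e⟩ => not_altSeven O hperf hn e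
  · exact (not_quasiDihedral O hperf hn S hQD).elim

end Three

end CfsgLib.OvalPlane
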