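import Cfsg.Agent.Lib.TwoTransPlane.Sub

set_option autoImplicit false
set_option linter.unusedSectionVars false
set_option linter.unusedVariables false
set_option linter.style.haveILetI false

/-!
Ovals of planes of odd order: tangents, the theorem of Qvist, poles of chords, and groups of
collineations preserving an oval.
-/

namespace CfsgLib.OvalPlane

open CfsgLib.TTP

universe u v w

variable {P : Type u} {L : Type v} {π : Pl P L} {G : Type w} [Group G]

/-- An oval of a plane of odd order invariant under a group of collineations. -/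
structure Oval (A : Act π G) where
  pts : Set P
  card : pts.ncard = π.n + 1
  arc : ∀ (l : L) (x y z : P), x ∈ pts → y ∈ pts → z ∈ pts → π.I x l → π.I y l → π.I z l →
    x = y ∨ x = z ∨ y = z
  inv : ∀ (g : G) (x : P), x ∈ pts → A.p g x ∈ pts
  odd : Odd π.n

variable [Finite P] [Finite L] {A : Act π G} (O : Oval A)

namespace Oval

theorem mem_iff (g : G) {x : P} : A.p g x ∈ O.pts ↔ x ∈ O.pts :=
  ⟨fun h => by simpa [A.p_inv_apply] using O.inv g⁻¹ _ h, O.inv g x⟩

include O in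
theorem three_le : 3 ≤ π.n := by
  have := π.one_lt_n
  obtain ⟨k, hk⟩ := O.odd
  omega

theorem two_of_line {l : L} {x y z : P} (hx : x ∈ O.pts) (hy : y ∈ O.pts) (hz : z ∈ O.pts) (hxy : x ≠ y)
    (hxl : π.I x l) (hyl : π.I y l) (hzl : π.I z l) : z = x ∨ z = y := by
  rcases O.arc l x y z hx hy hz hxl hyl hzl with h | h | h
  exacts [absurd h hxy, Or.inl h.symm, Or.inr h.symm]

theorem nc {x y z : P} (hx : x ∈ O.pts) (hy : y ∈ O.pts) (hz : z ∈ O.pts) (hxy : x ≠ y) (hxz : x ≠ z)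
    (hyz : y ≠ z) : π.NC x y z :=
  ⟨hxy, hxz, hyz, fun a ha hb hc => by
    rcases O.arc a x y z hx hy hz ha hb hc with h | h | h <;> contradiction⟩

/-- Four points of the oval form a quadrangle. -/
theorem quad_of_four {S : Set P} {x y z t : P} (hx : x ∈ O.pts) (hy : y ∈ O.pts) (hz : z ∈ O.pts) (ht : t ∈ O.pts)
    (hxS : x ∈ S) (hyS : y ∈ S) (hzS : z ∈ S) (htS : t ∈ S) (hxy : x ≠ y) (hxz : x ≠ z) (hxt : x ≠ t)
    (hyz : y ≠ z) (hyt : y ≠ t) (hzt : z ≠ t) : π.Quad S :=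
  ⟨x, y, z, t, hxS, hyS, hzS, htS, O.nc hx hy hz hxy hxz hyz, O.nc hx hy ht hxy hxt hyt,
    O.nc hx hz ht hxz hxt hzt, O.nc hy hz ht hyz hyt hzt⟩

theorem quad_of_card {S : Set P} (h : 4 ≤ (O.pts ∩ S).ncard) : π.Quad S := by
  classical
  obtain ⟨T, hT, hT4⟩ := Set.exists_subset_card_eq h
  obtain ⟨x, hx⟩ := (Set.ncard_pos).mp (show 0 < T.ncard by omega)
  have h3 : (T \ {x}).ncard = 3 := by rw [Set.ncard_sdiff_singleton_of_mem hx]; omega
  obtain ⟨y, z, t, hyz, hyt, hzt, e⟩ := Set.ncard_eq_three.mp h3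
  have hy : y ∈ T \ {x} := by rw [e]; simp
  have hz : z ∈ T \ {x} := by rw [e]; simp
  have ht : t ∈ T \ {x} := by rw [e]; simp
  exact O.quad_of_four (hT hx).1 (hT hy.1).1 (hT hz.1).1 (hT ht.1).1 (hT hx).2 (hT hy.1).2 (hT hz.1).2
    (hT ht.1).2 (fun e' => hy.2 e'.symm) (fun e' => hz.2 e'.symm) (fun e' => ht.2 e'.symm) hyz hyt hzt

/-- A tangent exists at each point. -/
theorem exists_tangent {x : P} (hx : x ∈ O.pts) :
    ∃ t, (π.I x t ∧ ∀ y ∈ O.pts, π.I y t → y = x) ∧ ∀ a, π.I x a → (∀ y ∈ O.pts, π.I y a → y = x) → a = t := by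
  classical
  set sec : Set L := (fun y => π.join x y) '' (O.pts \ {x}) with hsec
  set pen : Set L := {a | π.I x a} with hpen
  have h1 : sec.ncard = π.n := by
    rw [hsec, Set.InjOn.ncard_image, Set.ncard_sdiff_singleton_of_mem hx, O.card, Nat.add_sub_cancel]
    intro y hy z hz e
    simp only at e
    rcases O.two_of_line hx hy.1 hz.1 (Ne.symm hy.2) (π.join_left x y) (π.join_right x y)
      (e ▸ π.join_right x z) with h | h
    · exact absurd h hz.2
    · exact h.symm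
  have h2 : pen.ncard = π.n + 1 := by rw [← Nat.card_coe_set_eq]; exact π.card_pencil x
  have hsub : sec ⊆ pen := by
    rintro _ ⟨y, -, rfl⟩
    exact π.join_left x y
  have h3 : (pen \ sec).ncard = 1 := by rw [Set.ncard_sdiff hsub, h1, h2]; omega
  obtain ⟨t, ht⟩ := Set.ncard_eq_one.mp h3
  have htm : t ∈ pen \ sec := by rw [ht]; rfl
  refine ⟨t, ⟨htm.1, fun y hy hyt => ?_⟩, fun a ha hall => ?_⟩
  · by_contra hne
    exact htm.2 ⟨y, ⟨hy, hne⟩, π.join_eq (Ne.symm hne) htm.1 hyt⟩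
  · have : a ∈ pen \ sec := ⟨ha, by
      rintro ⟨y, hy, rfl⟩
      exact hy.2 (hall y hy.1 (π.join_right x y))⟩
    rw [ht] at this
    exact this

/-- The tangent at a point of the oval. -/
noncomputable def tg (x : P) : L := by
  classical exact if h : x ∈ O.pts then (O.exists_tangent h).choose else π.join x x

theorem tg_left {x : P} (hx : x ∈ O.pts) : π.I x (O.tg x) := by
  rw [tg, dif_pos hx]; exact (O.exists_tangent hx).choose_spec.1.1

theorem tg_only {x y : P} (hx : x ∈ O.pts) (hy : y ∈ O.pts) (h : π.I y (O.tg x)) : y = x := by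
  rw [tg, dif_pos hx] at h; exact (O.exists_tangent hx).choose_spec.1.2 y hy h

theorem tg_eq {x : P} {a : L} (hx : x ∈ O.pts) (ha : π.I x a) (h : ∀ y ∈ O.pts, π.I y a → y = x) :
    a = O.tg x := by
  rw [tg, dif_pos hx]; exact (O.exists_tangent hx).choose_spec.2 a ha h

theorem tg_ne {x y : P} (hx : x ∈ O.pts) (hy : y ∈ O.pts) (hxy : x ≠ y) : O.tg x ≠ O.tg y :=
  fun e => hxy (O.tg_only hy hx (e ▸ O.tg_left hx))

theorem tg_map (g : G) {x : P} (hx : x ∈ O.pts) : A.l g (O.tg x) = O.tg (A.p g x) := by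
  refine O.tg_eq (O.inv g x hx) ((A.inc g _ _).mpr (O.tg_left hx)) fun y hy hyt => ?_
  have h1 : π.I (A.p g⁻¹ y) (O.tg x) := by rw [← A.inc g, A.p_apply_inv]; exact hyt
  rw [← O.tg_only hx (O.inv _ _ hy) h1, A.p_apply_inv]

/-- The second intersection of the line through `c` and `y`. -/
noncomputable def oth (c y : P) : P := by
  classical exact if h : ∃ z ∈ O.pts, z ≠ y ∧ π.I z (π.join c y) then h.choose else y

theorem oth_mem (c : P) {y : P} (hy : y ∈ O.pts) : O.oth c y ∈ O.pts := by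
  rw [oth]; split_ifs with h
  · exact h.choose_spec.1
  · exact hy

theorem oth_on (c : P) {y : P} : π.I (O.oth c y) (π.join c y) := by
  rw [oth]; split_ifs with h
  · exact h.choose_spec.2.2
  · exact π.join_right c y

theorem oth_eq {c y z : P} (hc : c ∉ O.pts) (hy : y ∈ O.pts) (hz : z ∈ O.pts) (hzy : z ≠ y) {a : L}
    (hca : π.I c a) (hya : π.I y a) (hza : π.I z a) : O.oth c y = z := by
  have ha : π.join c y = a := π.join_eq (fun e => hc (e ▸ hy)) hca hya
  have hex : ∃ z ∈ O.pts, z ≠ y ∧ π.I z (π.join c y) := ⟨z, hz, hzy, ha ▸ hza⟩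
  rw [oth, dif_pos hex]
  have hs := hex.choose_spec
  rcases O.two_of_line hy hz hs.1 hzy.symm (π.join_right c y) (ha ▸ hza) hs.2.2 with h | h
  · exact absurd h hs.2.1
  · exact h

theorem oth_self_iff {c y : P} (hc : c ∉ O.pts) (hy : y ∈ O.pts) : O.oth c y = y ↔ π.I c (O.tg y) := by
  constructor
  · intro h
    have : π.join c y = O.tg y := O.tg_eq hy (π.join_right c y) fun z hz hzl => by
      by_contra hne
      exact hne ((O.oth_eq hc hy hz hne (π.join_left c y) (π.join_right c y) hzl).symm.trans h)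
    exact this ▸ π.join_left c y
  · intro h
    rw [oth, dif_neg]
    rintro ⟨z, hz, hne, hzl⟩
    refine hne (O.tg_only hy hz ?_)
    rwa [π.join_eq (show c ≠ y from fun e => hc (e ▸ hy)) h (O.tg_left hy)] at hzl

theorem oth_oth {c y : P} (hc : c ∉ O.pts) (hy : y ∈ O.pts) : O.oth c (O.oth c y) = y := by
  by_cases h : O.oth c y = y
  · rw [h, h]
  · exact O.oth_eq hc (O.oth_mem c hy) hy (Ne.symm h) (π.join_left c y) (O.oth_on c) (π.join_right c y)

/-- The points of contact of the tangents through a point. -/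
def cont (c : P) : Set P := {x | x ∈ O.pts ∧ π.I c (O.tg x)}

theorem cont_even {c : P} (hc : c ∉ O.pts) : Even (O.cont c).ncard := by
  classical
  haveI := Fintype.ofFinite ↥O.pts
  let σ : Equiv.Perm ↥O.pts :=
    ⟨fun y => ⟨O.oth c y, O.oth_mem c y.2⟩, fun y => ⟨O.oth c y, O.oth_mem c y.2⟩,
      fun y => Subtype.ext (O.oth_oth hc y.2), fun y => Subtype.ext (O.oth_oth hc y.2)⟩
  have h1 : σ ^ 2 ^ 1 = 1 := Equiv.ext fun y => by
    rw [pow_one, pow_two]; exact Subtype.ext (O.oth_oth hc y.2)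
  haveI : Fact (Nat.Prime 2) := ⟨Nat.prime_two⟩
  have h2 := Equiv.Perm.card_compl_support_modEq h1
  have e : (O.cont c).ncard = σ.supportᶜ.card := by
    rw [← Set.ncard_coe_finset, ← Set.ncard_image_of_injective _ Subtype.val_injective]
    congr 1
    ext x
    simp only [cont, Set.mem_ofPred_eq, Set.mem_image, Finset.coe_compl, Set.mem_compl_iff,
      Finset.mem_coe, Equiv.Perm.mem_support, not_not]
    constructor
    · rintro ⟨hx, hxc⟩
      exact ⟨⟨x, hx⟩, Subtype.ext ((O.oth_self_iff hc hx).mpr hxc), rfl⟩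
    · rintro ⟨⟨y, hy⟩, hfix, rfl⟩
      exact ⟨hy, (O.oth_self_iff hc hy).mp (congrArg Subtype.val hfix)⟩
  have hO : Even (Fintype.card ↥O.pts) := by
    rw [← Nat.card_eq_fintype_card, Nat.card_coe_set_eq, O.card]
    exact O.odd.add_one
  rw [e, Nat.even_iff]
  rw [Nat.even_iff] at hO
  exact (show σ.supportᶜ.card % 2 = Fintype.card ↥O.pts % 2 from h2).trans hO

/-- Qvist: a point off the oval is on at most two tangents. -/
theorem cont_eq_pair {c x y : P} (hc : c ∉ O.pts) (hx : x ∈ O.cont c) (hy : y ∈ O.cont c) (hxy : x ≠ y) :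
    O.cont c = {x, y} := by
  classical
  refine Set.Subset.antisymm (fun z hz => ?_) (Set.insert_subset hx (Set.singleton_subset_iff.mpr hy))
  by_contra hne
  simp only [Set.mem_insert_iff, Set.mem_singleton_iff, not_or] at hne
  set t := O.tg x with ht
  -- every point of `t` other than `x` is on another tangent
  have hmaps : {p | π.I p t ∧ p ≠ x} ⊆ (fun w => π.meet t (O.tg w)) '' (O.pts \ {x}) := by
    rintro p ⟨hp, hpx⟩
    have hpO : p ∉ O.pts := fun h => hpx (O.tg_only hx.1 h hp)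
    have hxp : x ∈ O.cont p := ⟨hx.1, hp⟩
    have h2 : 1 < (O.cont p).ncard := by
      have h := O.cont_even hpO
      have h' : 0 < (O.cont p).ncard := (Set.ncard_pos).mpr ⟨x, hxp⟩
      obtain ⟨k, hk⟩ := h
      omega
    obtain ⟨w, hw, hwx⟩ := Set.exists_ne_of_one_lt_ncard h2 x
    exact ⟨w, ⟨hw.1, hwx⟩, π.meet_eq (O.tg_ne hx.1 hw.1 hwx.symm) hp hw.2⟩
  have h1 : {p | π.I p t ∧ p ≠ x}.ncard = π.n := by
    rw [← Nat.card_coe_set_eq]; exact π.card_line_erase (O.tg_left hx.1)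
  have h2 : (O.pts \ {x}).ncard = π.n := by
    rw [Set.ncard_sdiff_singleton_of_mem hx.1, O.card, Nat.add_sub_cancel]
  have h3 := (Set.ncard_le_ncard hmaps).trans (Set.ncard_image_le (Set.toFinite _))
  have hinj : Set.InjOn (fun w => π.meet t (O.tg w)) (O.pts \ {x}) := by
    refine (Set.ncard_image_iff (Set.toFinite _)).mp (le_antisymm (Set.ncard_image_le (Set.toFinite _)) ?_)
    rw [h2, ← h1]
    exact Set.ncard_le_ncard hmaps
  refine hne.2 (hinj ⟨hz.1, hne.1⟩ ⟨hy.1, hxy.symm⟩ ?_)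
  show π.meet t (O.tg z) = π.meet t (O.tg y)
  rw [π.meet_eq (O.tg_ne hx.1 hz.1 (Ne.symm hne.1)) hx.2 hz.2, π.meet_eq (O.tg_ne hx.1 hy.1 hxy) hx.2 hy.2]

theorem cont_cases {c : P} (hc : c ∉ O.pts) :
    O.cont c = ∅ ∨ ∃ x y, x ≠ y ∧ x ∈ O.pts ∧ y ∈ O.pts ∧ O.cont c = {x, y} := by
  rcases Set.eq_empty_or_nonempty (O.cont c) with h | ⟨x, hx⟩
  · exact Or.inl h
  have h2 : 1 < (O.cont c).ncard := by
    have h' : 0 < (O.cont c).ncard := (Set.ncard_pos).mpr ⟨x, hx⟩
    obtain ⟨k, hk⟩ := O.cont_even hc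
    omega
  obtain ⟨y, hy, hyx⟩ := Set.exists_ne_of_one_lt_ncard h2 x
  exact Or.inr ⟨x, y, hyx.symm, hx.1, hy.1, O.cont_eq_pair hc hx hy hyx.symm⟩

/-- The pole of a chord. -/
noncomputable def pole (x y : P) : P := π.meet (O.tg x) (O.tg y)

theorem pole_notMem {x y : P} (hx : x ∈ O.pts) (hy : y ∈ O.pts) (hxy : x ≠ y) : O.pole x y ∉ O.pts :=
  fun h => hxy ((O.tg_only hx h (π.meet_left _ _)).symm.trans (O.tg_only hy h (π.meet_right _ _)))

theorem cont_pole {x y : P} (hx : x ∈ O.pts) (hy : y ∈ O.pts) (hxy : x ≠ y) : O.cont (O.pole x y) = {x, y} :=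
  O.cont_eq_pair (O.pole_notMem hx hy hxy) ⟨hx, π.meet_left _ _⟩ ⟨hy, π.meet_right _ _⟩ hxy

theorem pole_eq {c x y : P} (hx : x ∈ O.pts) (hy : y ∈ O.pts) (hxy : x ≠ y) (hcx : π.I c (O.tg x))
    (hcy : π.I c (O.tg y)) : O.pole x y = c := π.meet_eq (O.tg_ne hx hy hxy) hcx hcy

theorem pole_map (g : G) {x y : P} (hx : x ∈ O.pts) (hy : y ∈ O.pts) (hxy : x ≠ y) :
    A.p g (O.pole x y) = O.pole (A.p g x) (A.p g y) := by
  rw [pole, pole, A.map_meet g (O.tg_ne hx hy hxy), O.tg_map g hx, O.tg_map g hy]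

theorem pole_comm {x y : P} (hx : x ∈ O.pts) (hy : y ∈ O.pts) (hxy : x ≠ y) : O.pole x y = O.pole y x :=
  O.pole_eq hx hy hxy (π.meet_right _ _) (π.meet_left _ _)

/-- A group of collineations of the oval is faithful on it. -/
theorem eq_one_of_fix {g : G} (h : ∀ x ∈ O.pts, A.p g x = x) : g = 1 := by
  classical
  have h2 : 1 < O.pts.ncard := by rw [O.card]; have := O.three_le; omega
  obtain ⟨x, hx⟩ := (Set.ncard_pos).mp (show 0 < O.pts.ncard by omega)
  obtain ⟨y, hy, hyx⟩ := Set.exists_ne_of_one_lt_ncard h2 x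
  have hc : ∀ z ∈ O.pts, g ∈ A.central z := fun z hz => A.mem_central.mpr fun a ha => by
    by_cases hall : ∀ t ∈ O.pts, π.I t a → t = z
    · rw [O.tg_eq hz ha hall, O.tg_map g hz, h z hz]
    · push Not at hall
      obtain ⟨t, ht, hta, htz⟩ := hall
      rw [← π.join_eq htz.symm ha hta, A.map_join g htz.symm, h z hz, h t ht]
  exact A.two_centres (hc x hx) (hc y hy) hyx.symm

theorem eq_of_eq {g k : G} (h : ∀ x ∈ O.pts, A.p g x = A.p k x) : g = k := by
  refine inv_mul_eq_one.mp (O.eq_one_of_fix (g := g⁻¹ * k) fun x hx => ?_)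
  rw [A.p_mul, ← h x hx, A.p_inv_apply]

end Oval

end CfsgLib.OvalPlane
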