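import Cfsg.Agent.S0215
import Cfsg.Agent.S0204
import Cfsg.Agent.S0483
import Cfsg.Agent.S3224
import Cfsg.Agent.Lib.GW.Conseq.CentralFour.Pair
import Mathlib.GroupTheory.SpecificGroups.KleinFour

set_option autoImplicit false
set_option linter.unusedSectionVars false
set_option linter.style.haveILetI false

/-!
Sylow 2-subgroups of simple groups used for collineation groups of ovals.
-/

namespace CfsgLib.OvalPlane

open Cfsg
open scoped commutatorElement

universe w

variable {G : Type w} [Group G] [Finite G] [IsSimpleGroup G]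

theorem commutator_eq_top_of_simple (hG : ¬ IsMulCommutative G) : commutator G = ⊤ := by
  refine ((inferInstance : (commutator G).Normal).eq_bot_or_eq_top).resolve_left fun h => hG ⟨⟨fun a b => ?_⟩⟩
  have hm : ⁅a, b⁆ ∈ commutator G := Subgroup.commutator_mem_commutator (Subgroup.mem_top a) (Subgroup.mem_top b)
  rw [h, Subgroup.mem_bot] at hm
  exact commutatorElement_eq_one_iff_mul_comm.1 hm

theorem four_le_card (hG : ¬ IsMulCommutative G) : 4 ≤ Nat.card G := by
  haveI : Fact (Nat.Prime 2) := ⟨Nat.prime_two⟩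
  obtain ⟨E, hE⟩ := Cfsg.Agent.S0204.result (G := G) fun h => hG ⟨⟨fun a b => by
    letI := IsCyclic.commGroup (α := G)
    exact mul_comm a b⟩⟩
  rw [← hE.card_four]
  exact Subgroup.card_le_card_group E

/-- Every Sylow 2-subgroup contains a four-group. -/
theorem exists_klein (hG : ¬ IsMulCommutative G) (S : Sylow 2 G) :
    ∃ a ∈ (S : Subgroup G), ∃ b ∈ (S : Subgroup G), a * a = 1 ∧ b * b = 1 ∧ a ≠ 1 ∧ b ≠ 1 ∧ a ≠ b ∧
      a * b = b * a := by
  haveI : Fact (Nat.Prime 2) := ⟨Nat.prime_two⟩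
  obtain ⟨E, hE⟩ := Cfsg.Agent.S0204.result (G := G) fun h => hG ⟨⟨fun a b => by
    letI := IsCyclic.commGroup (α := G)
    exact mul_comm a b⟩⟩
  haveI := hE
  obtain ⟨T, hT⟩ := (IsPGroup.of_card (n := 2) (by rw [hE.card_four]; norm_num) : IsPGroup 2 E).exists_le_sylow
  obtain ⟨g, hg⟩ := MulAction.exists_smul_eq G T S
  have hmem : ∀ e ∈ E, g * e * g⁻¹ ∈ (S : Subgroup G) := fun e he => by
    rw [← hg, Sylow.coe_subgroup_smul]
    exact ⟨e, hT he, by simp [MulAut.conj_apply]⟩
  haveI : Nontrivial E := Finite.one_lt_card_iff_nontrivial.mp (by rw [hE.card_four]; norm_num)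
  obtain ⟨x, hx⟩ := exists_ne (1 : E)
  obtain ⟨y, hy1, hyx⟩ : ∃ y : E, y ≠ 1 ∧ y ≠ x := by
    by_contra! h
    have : Nat.card E ≤ 2 := (Nat.card_le_card_of_surjective (fun i : Fin 2 => ![1, x] i) fun e => by
      rcases eq_or_ne e 1 with rfl | he
      · exact ⟨0, rfl⟩
      · exact ⟨1, (h e he).symm⟩).trans (by simp)
    rw [hE.card_four] at this
    omega
  have hne : ∀ {e f : E}, e ≠ f → g * (e : G) * g⁻¹ ≠ g * f * g⁻¹ := fun h h' =>
    h (Subtype.ext (mul_left_cancel (mul_right_cancel h')))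
  have hmul : ∀ e f : E, g * (e : G) * g⁻¹ * (g * f * g⁻¹) = g * ((e * f : E) : G) * g⁻¹ := fun e f => by
    rw [Subgroup.coe_mul]; group
  refine ⟨_, hmem _ x.2, _, hmem _ y.2, ?_, ?_, ?_, ?_, hne hyx.symm, ?_⟩
  · rw [hmul, IsKleinFour.mul_self]; simp
  · rw [hmul, IsKleinFour.mul_self]; simp
  · simpa using hne hx
  · simpa using hne hy1
  · rw [hmul, hmul]
    congr 3
    exact mul_comm_of_exponent_two hE.exponent_two x y

/-- An involution of a Sylow 2-subgroup has another conjugate in it. -/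
theorem exists_fused (hG : ¬ IsMulCommutative G) (S : Sylow 2 G) {u : G} (hu : orderOf u = 2)
    (huS : u ∈ (S : Subgroup G)) : ∃ g : G, g * u * g⁻¹ ∈ (S : Subgroup G) ∧ g * u * g⁻¹ ≠ u := by
  by_contra! h
  obtain ⟨N, hN, hodd, hcomm⟩ := Cfsg.Agent.S0215.result S u hu huS h
  haveI := hN
  rcases hN.eq_bot_or_eq_top with e | e
  · have hc : u ∈ Subgroup.center G := Subgroup.mem_center_iff.mpr fun g => by
      have := hcomm g
      rw [e, Subgroup.mem_bot] at this
      have h2 : u * g = g * u := by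
        calc u * g = u * g * u⁻¹ * g⁻¹ * (g * u) := by group
          _ = g * u := by rw [this, one_mul]
      exact h2.symm
    rcases (inferInstance : (Subgroup.center G).Normal).eq_bot_or_eq_top with e' | e'
    · rw [e', Subgroup.mem_bot] at hc
      rw [hc, orderOf_one] at hu
      omega
    · exact hG ⟨⟨fun a b => (Subgroup.mem_center_iff.mp (e' ▸ Subgroup.mem_top a) b).symm⟩⟩
  · rw [e, Subgroup.card_top] at hodd
    have h2 : 2 ∣ Nat.card G := hu ▸ orderOf_dvd_natCard u
    exact (Nat.not_even_iff_odd.mpr hodd) (even_iff_two_dvd.mpr h2)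

/-- The shape of a Sylow subgroup with an involution of small centraliser. -/
theorem sylow_cases (S : Sylow 2 G) {u : G} (hu : u * u = 1) (hu1 : u ≠ 1)
    (huS : u ∈ (S : Subgroup G)) {v : G} (hvS : v ∈ (S : Subgroup G)) (hv : v * v = 1) (hv1 : v ≠ 1) (huv : v ≠ u)
    (hcomm : u * v = v * u)
    (h : ∀ x ∈ (S : Subgroup G), x * u = u * x → x = 1 ∨ x = u ∨ x = v ∨ x = u * v) :
    (∃ n, 2 ≤ n ∧ Nonempty ((S : Subgroup G) ≃* DihedralGroup n)) ∨ IsQuasiDihedral (S : Subgroup G) := by
  haveI : Fact (Nat.Prime 2) := ⟨Nat.prime_two⟩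
  set u' : (S : Subgroup G) := ⟨u, huS⟩
  have hu' : orderOf u' = 2 := orderOf_eq_prime (Subtype.ext (by simpa [pow_two] using hu))
    fun e => hu1 (congrArg Subtype.val e)
  have hC : Nat.card ↥(Subgroup.centralizer ({u'} : Set ↥(S : Subgroup G))) = 4 := by
    have hmem : ∀ i : Fin 4, ![(1 : (S : Subgroup G)), u', ⟨v, hvS⟩, u' * ⟨v, hvS⟩] i ∈
        Subgroup.centralizer ({u'} : Set ↥(S : Subgroup G)) := by
      intro i
      rw [Subgroup.mem_centralizer_singleton_iff]
      fin_cases i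
      · simp
      · rfl
      · exact Subtype.ext hcomm.symm
      · refine Subtype.ext ?_
        show u * v * u = u * (u * v)
        rw [mul_assoc, hcomm]
    rw [← Nat.card_fin 4]
    refine (Nat.card_congr (Equiv.ofBijective (fun i => ⟨_, hmem i⟩) ⟨?_, ?_⟩)).symm
    · have h12 : u * v ≠ 1 := fun e => huv (by
        rw [← mul_left_cancel (e.trans hu.symm)])
      have h13 : u * v ≠ u := fun e => hv1 (mul_left_cancel (e.trans (mul_one u).symm))
      have h14 : u * v ≠ v := fun e => hu1 (mul_right_cancel (e.trans (one_mul v).symm))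
      intro i j e
      have e' := congrArg (fun x : ↥(Subgroup.centralizer ({u'} : Set ↥(S : Subgroup G))) => ((x : ↥(S : Subgroup G)) : G)) e
      fin_cases i <;> fin_cases j <;> first
        | rfl
        | exact absurd e' (Ne.symm hu1) | exact absurd e' (Ne.symm hv1) | exact absurd e' (Ne.symm h12)
        | exact absurd e' hu1 | exact absurd e' (Ne.symm huv) | exact absurd e' (Ne.symm h13)
        | exact absurd e' hv1 | exact absurd e' huv | exact absurd e' (Ne.symm h14)
        | exact absurd e' h12 | exact absurd e' h13 | exact absurd e' h14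
    · rintro ⟨x, hx⟩
      rw [Subgroup.mem_centralizer_singleton_iff] at hx
      rcases h x x.2 (congrArg Subtype.val hx) with e | e | e | e
      exacts [⟨0, Subtype.ext (Subtype.ext e.symm)⟩, ⟨1, Subtype.ext (Subtype.ext e.symm)⟩,
        ⟨2, Subtype.ext (Subtype.ext e.symm)⟩, ⟨3, Subtype.ext (Subtype.ext e.symm)⟩]
  rcases Cfsg.Agent.S3224.result S.2 u' hu' hC with ⟨n, ⟨e⟩⟩ | h' | h4
  · refine Or.inl ⟨n, ?_, ⟨e⟩⟩
    have h1 : Nat.card (DihedralGroup n) = 2 * n := DihedralGroup.nat_card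
    have h2 : 4 ≤ Nat.card (S : Subgroup G) := hC ▸ Subgroup.card_le_card_group _
    rw [Nat.card_congr e.toEquiv, h1] at h2
    omega
  · exact Or.inr h'
  · have htop : Subgroup.centralizer ({u'} : Set ↥(S : Subgroup G)) = ⊤ :=
      Subgroup.eq_top_of_card_eq _ (hC.trans h4.symm)
    haveI : Nontrivial (S : Subgroup G) := ⟨⟨u', 1, fun e => hu1 (congrArg Subtype.val e)⟩⟩
    haveI : IsKleinFour (S : Subgroup G) := by
      have hsq : ∀ x : (S : Subgroup G), x * x = 1 := by
        intro x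
        have hx : x ∈ Subgroup.centralizer ({u'} : Set ↥(S : Subgroup G)) := htop ▸ Subgroup.mem_top x
        rw [Subgroup.mem_centralizer_singleton_iff] at hx
        refine Subtype.ext ?_
        rcases h x x.2 (congrArg Subtype.val hx) with e | e | e | e <;> rw [Subgroup.coe_mul, e]
        · simp
        · simpa using hu
        · simpa using hv
        · show u * v * (u * v) = 1
          rw [mul_assoc, ← mul_assoc v u, ← hcomm, mul_assoc u v v, hv, mul_one, hu]
      exact ⟨h4, Monoid.exponent_eq_prime_iff (hp := Nat.prime_two) |>.mpr fun x hx =>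
        orderOf_eq_prime (by rw [pow_two]; exact hsq x) hx⟩
    exact Or.inl ⟨2, le_rfl, IsKleinFour.nonempty_mulEquiv⟩

/-- With a dihedral Sylow subgroup the group is `PSL₂(q)` or `A₇`. -/
theorem psl_or_alt (hG : ¬ IsMulCommutative G) (S : Sylow 2 G) {n : ℕ} (hn : 2 ≤ n)
    (hS : Nonempty ((S : Subgroup G) ≃* DihedralGroup n)) :
    (∃ (F : Type) (_ : Field F) (_ : Fintype F), Odd (Fintype.card F) ∧
      Nonempty (G ≃* Matrix.ProjectiveSpecialLinearGroup (Fin 2) F)) ∨ Nonempty (G ≃* alternatingGroup (Fin 7)) := by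
  haveI : Group.IsPerfect G := ⟨commutator_eq_top_of_simple hG⟩
  have heven : Even (Nat.card G) := by
    obtain ⟨e⟩ := hS
    rw [even_iff_two_dvd]
    refine Dvd.dvd.trans ?_ (S : Subgroup G).card_subgroup_dvd_card
    rw [Nat.card_congr e.toEquiv, DihedralGroup.nat_card]
    exact Nat.dvd_mul_right 2 n
  let e₀ : G ⧸ Cfsg.oddCore G ≃* G :=
    (QuotientGroup.quotientMulEquivOfEq (CfsgLib.CentralFour.oddCore_eq_bot heven)).trans QuotientGroup.quotientBot
  rcases Cfsg.Agent.S0483.result S n hn hS with ⟨F, hF, hFt, hodd, -, ⟨f⟩⟩ | ⟨f⟩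
  · exact Or.inl ⟨F, hF, hFt, hodd, ⟨e₀.symm.trans f⟩⟩
  · obtain ⟨g⟩ := f
    exact Or.inr ⟨e₀.symm.trans g⟩

end CfsgLib.OvalPlane
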