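import Cfsg.Agent.Lib.OvalPlane.Basic

set_option autoImplicit false
set_option linter.unusedSectionVars false
set_option linter.unusedVariables false
set_option linter.style.haveILetI false

/-!
Involutions preserving an oval: homologies, Baer involutions, and the parity of their fixed points.
-/

namespace CfsgLib.OvalPlane

open CfsgLib.TTP

universe u v w

variable {P : Type u} {L : Type v} {π : Pl P L} {G : Type w} [Group G] [Finite P] [Finite L]

/-- An involutory homology with centre `c` and axis `a`. -/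
structure Hom (A : Act π G) (u : G) (c : P) (a : L) : Prop where
  sq : u * u = 1
  ne : u ≠ 1
  mem : u ∈ A.PC c a
  off : ¬ π.I c a

/-- An involutory homology. -/
def IsHom (A : Act π G) (u : G) : Prop := ∃ c a, Hom A u c a

/-- An involution fixing a quadrangle. -/
structure Baer (A : Act π G) (u : G) : Prop where
  sq : u * u = 1
  ne : u ≠ 1
  quad : π.Quad {x | A.p u x = x}

theorem inv_eq_self {u : G} (h : u * u = 1) : u⁻¹ = u := inv_eq_of_mul_eq_one_right h

theorem Fx_zpowers (A : Act π G) (u : G) : A.Fx (Subgroup.zpowers u) = {x | A.p u x = x} := by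
  ext x
  refine ⟨fun h => h u (Subgroup.mem_zpowers u), fun h g hg => ?_⟩
  have : Subgroup.zpowers u ≤ A.stP x := Subgroup.zpowers_le.mpr h
  exact this hg

theorem mem_Fl_zpowers (A : Act π G) (u : G) (a : L) : a ∈ A.Fl (Subgroup.zpowers u) ↔ A.l u a = a := by
  rw [Act.Fl, Fx_zpowers]; exact Iff.rfl

variable {A : Act π G} (O : Oval A)

namespace Hom

variable {O} {u : G} {c : P} {a : L}

theorem fix_centre (h : Hom A u c a) : A.p u c = c := A.central_le_stP c h.mem.2

theorem fix_line (h : Hom A u c a) {l : L} (hl : π.I c l) : A.l u l = l := A.mem_central.mp h.mem.2 l hl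

theorem fix_on (h : Hom A u c a) {x : P} (hx : π.I x a) : A.p u x = x := A.mem_axial.mp h.mem.1 x hx

theorem fix_cases (h : Hom A u c a) {x : P} (hx : A.p u x = x) : x = c ∨ π.I x a := A.fixed_point h.mem h.ne hx

theorem map (h : Hom A u c a) (g : G) : Hom A (g * u * g⁻¹) (A.p g c) (A.l g a) where
  sq := by rw [show g * u * g⁻¹ * (g * u * g⁻¹) = g * (u * u) * g⁻¹ by group, h.sq]; group
  ne := fun e => h.ne (by simpa using e)
  mem := A.PC_conj h.mem
  off := fun e => h.off ((A.inc g c a).mp e)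

theorem centre_unique (h : Hom A u c a) {c' : P} {a' : L} (h' : Hom A u c' a') : c' = c := by
  by_contra hne
  exact h.ne (A.two_centres h'.mem.2 h.mem.2 hne)

theorem axis_unique (h : Hom A u c a) {c' : P} {a' : L} (h' : Hom A u c' a') : a' = a := by
  by_contra hne
  exact h.ne (A.two_axes h'.mem.1 h.mem.1 hne)

theorem centre_notMem (O : Oval A) (h : Hom A u c a) : c ∉ O.pts := fun hc => h.ne (O.eq_one_of_fix fun y hy => by
  rcases eq_or_ne y c with rfl | hyc
  · exact h.fix_centre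
  have h1 : π.I (A.p u y) (π.join c y) := by
    rw [← h.fix_line (π.join_left c y), A.inc]; exact π.join_right c y
  rcases O.two_of_line hc hy (O.inv u y hy) hyc.symm (π.join_left c y) (π.join_right c y) h1 with e | e
  · exact absurd ((A.p u).injective (e.trans h.fix_centre.symm)) hyc
  · exact e)

theorem apply_eq (O : Oval A) (h : Hom A u c a) {x : P} (hx : x ∈ O.pts) : A.p u x = O.oth c x := by
  have hc := h.centre_notMem O
  have h1 : π.I (A.p u x) (π.join c x) := by
    rw [← h.fix_line (π.join_left c x), A.inc]; exact π.join_right c x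
  by_cases hfix : A.p u x = x
  · rw [hfix]
    by_contra hne
    set z := O.oth c x with hz
    have hzO := O.oth_mem c hx
    have hzfix : A.p u z = z := by
      have h2 : π.I (A.p u z) (π.join c x) := by
        rw [← h.fix_line (π.join_left c x), A.inc]; exact O.oth_on c
      rcases O.two_of_line hx hzO (O.inv u z hzO) hne (π.join_right c x) (O.oth_on c) h2 with e | e
      · exact absurd ((A.p u).injective (e.trans hfix.symm)) (Ne.symm hne)
      · exact e
    have hxa : π.I x a := (h.fix_cases hfix).resolve_left fun e => hc (e ▸ hx)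
    have hza : π.I z a := (h.fix_cases hzfix).resolve_left fun e => hc (e ▸ hzO)
    exact h.off (π.eq_of_two_points hne (π.join_right c x) (O.oth_on c) hxa hza ▸ π.join_left c x)
  · exact (O.oth_eq hc hx (O.inv u x hx) hfix (π.join_left c x) (π.join_right c x) h1).symm

theorem fix_iff (O : Oval A) (h : Hom A u c a) {x : P} (hx : x ∈ O.pts) : A.p u x = x ↔ π.I c (O.tg x) := by
  rw [h.apply_eq O hx, O.oth_self_iff (h.centre_notMem O) hx]

theorem fix_eq_cont (O : Oval A) (h : Hom A u c a) : {x | x ∈ O.pts ∧ A.p u x = x} = O.cont c :=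
  Set.ext fun x => ⟨fun hx => ⟨hx.1, (h.fix_iff O hx.1).mp hx.2⟩, fun hx => ⟨hx.1, (h.fix_iff O hx.1).mpr hx.2⟩⟩

/-- A homology preserving the oval is determined by its centre. -/
theorem eq_of_centre (O : Oval A) (h : Hom A u c a) {u' : G} {a' : L} (h' : Hom A u' c a') : u = u' :=
  O.eq_of_eq fun x hx => by rw [h.apply_eq O hx, h'.apply_eq O hx]

theorem comm_iff_fix (O : Oval A) (h : Hom A u c a) {g : G} : g * u = u * g ↔ A.p g c = c := by
  constructor
  · intro hg
    have h1 := h.map g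
    rw [hg, mul_inv_cancel_right] at h1
    exact h.centre_unique h1
  · intro hg
    have h1 := h.map g
    rw [hg] at h1
    have := h1.eq_of_centre O h
    exact mul_inv_eq_iff_eq_mul.mp this

/-- A homology preserving the oval is determined by its axis. -/
theorem eq_of_axis (O : Oval A) (h : Hom A u c a) {u' : G} {c' : P} (h' : Hom A u' c' a) : u = u' := by
  by_contra hne
  have hg : u * u' ∈ A.axial a := mul_mem h.mem.1 h'.mem.1
  obtain ⟨d, hd⟩ := A.exists_centre hg
  have hg1 : u * u' ≠ 1 := fun e => hne (by rw [eq_inv_of_mul_eq_one_left e, inv_eq_self h'.sq])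
  by_cases hda : π.I d a
  · have hline : ∀ y, π.I (A.p (u * u') y) (π.join d y) := fun y => by
      rw [← A.mem_central.mp hd _ (π.join_left d y), A.inc]; exact π.join_right d y
    have h2 : u * u' * (u * u') = 1 := O.eq_one_of_fix fun y hy => by
      rw [A.p_mul]
      set z := A.p (u * u') y with hz
      rcases eq_or_ne z y with e | e
      · rw [e, ← hz]; exact e
      have hzO : z ∈ O.pts := O.inv _ y hy
      have hj : π.I z (π.join d y) := hline y
      have hjz : π.I (A.p (u * u') z) (π.join d y) := by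
        rw [← A.mem_central.mp hd _ (π.join_left d y), A.inc]; exact hj
      rcases O.two_of_line hy hzO (O.inv _ z hzO) (Ne.symm e) (π.join_right d y) hj hjz with e' | e'
      · exact e'
      · exact absurd ((A.p (u * u')).injective (e'.trans hz)) e
    exact A.inv_odd h2 hg1 O.odd ⟨hg, hd⟩ hda
  · have key : ∀ {v : G} {e : P}, Hom A v e a → v * (u * u') * v⁻¹ = (u * u')⁻¹ → d = e := by
      intro v e hv hinv
      have h1 : (u * u')⁻¹ ∈ A.central (A.p v d) := hinv ▸ A.central_conj (g := v) hd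
      have h2 : A.p v d = d := by
        by_contra hne'
        exact hg1 (inv_eq_one.mp (A.two_centres h1 (inv_mem hd) hne'))
      exact (hv.fix_cases h2).resolve_right hda
    have hc : d = c := key h (by rw [mul_inv_rev, inv_eq_self h.sq, inv_eq_self h'.sq, ← mul_assoc, h.sq, one_mul])
    have hc' : d = c' := key h' (by
      rw [mul_inv_rev, inv_eq_self h.sq, inv_eq_self h'.sq, mul_assoc, mul_assoc, h'.sq, mul_one])
    subst hc hc'
    exact hne (h.eq_of_centre O h')

theorem comm_iff_fix_axis (O : Oval A) (h : Hom A u c a) {g : G} : g * u = u * g ↔ A.l g a = a := by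
  constructor
  · intro hg
    have h1 := h.map g
    rw [hg, mul_inv_cancel_right] at h1
    exact h.axis_unique h1
  · intro hg
    have h1 := h.map g
    rw [hg] at h1
    exact mul_inv_eq_iff_eq_mul.mp (h1.eq_of_axis O h)

/-- The centre of one of two commuting homologies is on the axis of the other. -/
theorem centre_on (O : Oval A) (h : Hom A u c a) {u' : G} {c' : P} {a' : L} (h' : Hom A u' c' a')
    (hne : u ≠ u') (hc : u * u' = u' * u) : π.I c' a := by
  refine (h.fix_cases ((h'.comm_iff_fix O).mp hc)).resolve_left ?_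
  rintro rfl
  exact hne (h.eq_of_centre O h')

end Hom

/-- An involution is a homology or fixes a quadrangle. -/
theorem hom_or_baer (O : Oval A) {u : G} (hu : u * u = 1) (hu1 : u ≠ 1) : IsHom A u ∨ Baer A u := by
  by_cases hq : π.Quad {x | A.p u x = x}
  · exact Or.inr ⟨hu, hu1, hq⟩
  · obtain ⟨c, a, h⟩ := A.inv_persp hu hu1 hq
    exact Or.inl ⟨c, a, hu, hu1, h, A.inv_odd hu hu1 O.odd h⟩

theorem IsHom.sq {u : G} (h : IsHom A u) : u * u = 1 := by obtain ⟨c, a, h⟩ := h; exact h.sq

theorem IsHom.ne {u : G} (h : IsHom A u) : u ≠ 1 := by obtain ⟨c, a, h⟩ := h; exact h.ne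

theorem IsHom.map {u : G} (h : IsHom A u) (g : G) : IsHom A (g * u * g⁻¹) := by
  obtain ⟨c, a, h⟩ := h; exact ⟨_, _, h.map g⟩

theorem IsHom.not_baer {u : G} (h : IsHom A u) : ¬ Baer A u := by
  rintro ⟨-, -, x, y, z, t, hx, hy, hz, ht, h1, h2, h3, h4⟩
  obtain ⟨c, a, h⟩ := h
  rcases h.fix_cases hx with rfl | hxa
  · rcases h.fix_cases hy with e | hya
    · exact h1.1 e.symm
    rcases h.fix_cases hz with e | hza
    · exact h1.2.1 e.symm
    rcases h.fix_cases ht with e | hta
    · exact h2.2.1 e.symm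
    exact h4.2.2.2 a hya hza hta
  · rcases h.fix_cases hy with rfl | hya
    · rcases h.fix_cases hz with e | hza
      · exact h1.2.2.1 e.symm
      rcases h.fix_cases ht with e | hta
      · exact h2.2.2.1 e.symm
      exact h3.2.2.2 a hxa hza hta
    rcases h.fix_cases hz with rfl | hza
    · rcases h.fix_cases ht with e | hta
      · exact h3.2.2.1 e.symm
      exact h2.2.2.2 a hxa hya hta
    exact h1.2.2.2 a hxa hya hza

namespace Baer

variable {O} {u : G}

theorem map (h : Baer A u) (g : G) : Baer A (g * u * g⁻¹) := by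
  refine ⟨by rw [show g * u * g⁻¹ * (g * u * g⁻¹) = g * (u * u) * g⁻¹ by group, h.sq]; group,
    fun e => h.ne (by simpa using e), ?_⟩
  have hfix : ∀ x, A.p u x = x → A.p (g * u * g⁻¹) (A.p g x) = A.p g x := fun x hx => by
    rw [A.p_mul, A.p_mul, A.p_inv_apply, hx]
  have hnc : ∀ {x y z : P}, π.NC x y z → π.NC (A.p g x) (A.p g y) (A.p g z) := fun hn =>
    ⟨fun e => hn.1 ((A.p g).injective e), fun e => hn.2.1 ((A.p g).injective e),
      fun e => hn.2.2.1 ((A.p g).injective e), fun b hb1 hb2 hb3 => hn.2.2.2 (A.l g⁻¹ b)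
        ((A.inc g _ _).mp (by rwa [A.l_apply_inv])) ((A.inc g _ _).mp (by rwa [A.l_apply_inv]))
        ((A.inc g _ _).mp (by rwa [A.l_apply_inv]))⟩
  obtain ⟨x, y, z, t, hx, hy, hz, ht, h1, h2, h3, h4⟩ := h.quad
  exact ⟨_, _, _, _, hfix x hx, hfix y hy, hfix z hz, hfix t ht, hnc h1, hnc h2, hnc h3, hnc h4⟩

theorem quad' (h : Baer A u) : π.Quad (A.Fx (Subgroup.zpowers u)) := by rw [Fx_zpowers]; exact h.quad

/-- The fixed subplane. -/
noncomputable def plane (h : Baer A u) : Pl ↥(A.Fx (Subgroup.zpowers u)) ↥(A.Fl (Subgroup.zpowers u)) :=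
  A.sub _ h.quad'

theorem n_eq (h : Baer A u) : π.n = h.plane.n ^ 2 := by
  refine A.baer h.quad' (fun e => h.ne (Subgroup.zpowers_eq_bot.mp e)) fun x => ?_
  obtain ⟨a, ha, ha'⟩ := A.inv_line h.sq h.ne x
  exact ⟨a, ha, (mem_Fl_zpowers A u a).mpr ha'⟩

theorem m_odd (O : Oval A) (h : Baer A u) : Odd h.plane.n := by
  have := h.n_eq ▸ O.odd
  exact (Nat.odd_pow_iff two_ne_zero).mp this

theorem card_fix_line (h : Baer A u) {b : L} (hb : A.l u b = b) :
    {x | A.p u x = x ∧ π.I x b}.ncard = h.plane.n + 1 := by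
  have h1 := h.plane.card_line ⟨b, (mem_Fl_zpowers A u b).mpr hb⟩
  rw [← h1, ← Nat.card_coe_set_eq]
  refine Nat.card_congr ((Equiv.subtypeSubtypeEquivSubtypeInter (fun y => y ∈ A.Fx (Subgroup.zpowers u))
    (fun y => π.I y b)).trans (Equiv.subtypeEquivRight fun x => ?_)).symm
  rw [Fx_zpowers]; rfl

theorem card_fix (h : Baer A u) : {x | A.p u x = x}.ncard = h.plane.n ^ 2 + h.plane.n + 1 := by
  rw [← h.plane.card_P, ← Fx_zpowers A u, ← Nat.card_coe_set_eq]

theorem fixed_line_unique (h : Baer A u) {x : P} (hx : A.p u x ≠ x) {b b' : L} (hb : A.l u b = b)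
    (hb' : A.l u b' = b') (hxb : π.I x b) (hxb' : π.I x b') : b = b' := by
  by_contra hne
  exact hx (π.meet_eq hne hxb hxb' ▸ A.fix_meet hne hb hb')

/-- Only the identity and `u` fix every fixed point of `u`. -/
theorem eq_of_fix (O : Oval A) (h : Baer A u) {g : G} (hg : ∀ x, A.p u x = x → A.p g x = x) :
    g = 1 ∨ g = u := by
  classical
  rcases eq_or_ne g 1 with e | hg1
  · exact Or.inl e
  refine Or.inr (O.eq_of_eq fun x hx => ?_)
  by_cases hxu : A.p u x = x
  · rw [hxu, hg x hxu]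
  set F := {x | A.p u x = x} with hF
  obtain ⟨l, hxl, hl⟩ := A.inv_line h.sq h.ne x
  have hgl : A.l g l = l := by
    have h2 : 1 < {y | A.p u y = y ∧ π.I y l}.ncard := by
      rw [h.card_fix_line hl]; have := h.plane.one_lt_n; omega
    obtain ⟨y, hy⟩ := (Set.ncard_pos).mp (show 0 < {y | A.p u y = y ∧ π.I y l}.ncard by omega)
    obtain ⟨z, hz, hzy⟩ := Set.exists_ne_of_one_lt_ncard h2 y
    have h3 := A.fix_join hzy.symm (hg y hy.1) (hg z hz.1)
    rwa [π.join_eq hzy.symm hy.2 hz.2] at h3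
  have hul : π.I (A.p u x) l := by rw [← hl, A.inc]; exact hxl
  have hgxl : π.I (A.p g x) l := by rw [← hgl, A.inc]; exact hxl
  rcases O.two_of_line hx (O.inv u x hx) (O.inv g x hx) (Ne.symm hxu) hxl hul hgxl with hgx | hgx
  swap
  · exact hgx
  exfalso
  set U := F \ {y | A.p u y = y ∧ π.I y l} with hU
  have hUc : U.ncard + (h.plane.n + 1) = h.plane.n ^ 2 + h.plane.n + 1 := by
    rw [← h.card_fix_line hl, ← h.card_fix]
    exact Set.ncard_sdiff_add_ncard_of_subset (fun y hy => hy.1)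
  have hinj : Set.InjOn (fun y => π.join x y) U := by
    intro y hy z hz e
    simp only at e
    by_contra hne
    have h1 : π.join x y = π.join y z :=
      (π.join_eq hne (π.join_right x y) (e ▸ π.join_right x z)).symm
    have h2 : A.l u (π.join y z) = π.join y z := A.fix_join hne hy.1 hz.1
    have hyl := π.join_left y z
    rw [h.fixed_line_unique hxu h2 hl (h1 ▸ π.join_left x y) hxl] at hyl
    exact hy.2 ⟨hy.1, hyl⟩
  set Λ := insert l ((fun y => π.join x y) '' U) with hΛ
  have hΛc : Λ.ncard = π.n + 1 := by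
    rw [hΛ, Set.ncard_insert_of_notMem, hinj.ncard_image, h.n_eq]
    · omega
    · rintro ⟨y, hy, e⟩
      exact hy.2 ⟨hy.1, e ▸ π.join_right x y⟩
  have hΛp : Λ = {a | π.I x a} := by
    refine Set.eq_of_subset_of_ncard_le ?_ ?_
    · rintro a (rfl | ⟨y, -, rfl⟩)
      exacts [hxl, π.join_left x y]
    · rw [hΛc, ← Nat.card_coe_set_eq]; exact (π.card_pencil x).le
  have hcent : g ∈ A.central x := A.mem_central.mpr fun a ha => by
    have : a ∈ Λ := by rw [hΛp]; exact ha
    rcases this with rfl | ⟨y, hy, rfl⟩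
    · exact hgl
    · exact A.fix_join (fun e => hxu (e.symm ▸ hy.1)) hgx (hg y hy.1)
  obtain ⟨b, hb⟩ := A.exists_axis hcent
  obtain ⟨p, q, r, -, hp, hq, hr, -, ⟨-, -, -, hnc⟩, -⟩ := h.quad
  have hon : ∀ y, A.p u y = y → π.I y b := fun y hy =>
    (A.fixed_point ⟨hb, hcent⟩ hg1 (hg y hy)).resolve_left fun e => hxu (e ▸ hy)
  exact hnc b (hon p hp) (hon q hq) (hon r hr)

/-- A Baer involution with a fixed point on the oval fixes `m + 1` of them. -/
theorem card_oval (O : Oval A) (h : Baer A u) {x : P} (hx : x ∈ O.pts) (hxu : A.p u x = x) :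
    {y | y ∈ O.pts ∧ A.p u y = y}.ncard = h.plane.n + 1 := by
  classical
  set F := {y | y ∈ O.pts ∧ A.p u y = y} with hF
  set Λ := {a | π.I x a ∧ A.l u a = a} with hΛ
  have hΛc : Λ.ncard = h.plane.n + 1 := by
    rw [← h.plane.card_pencil ⟨x, by rw [Fx_zpowers]; exact hxu⟩, ← Nat.card_coe_set_eq]
    refine Nat.card_congr ((Equiv.subtypeSubtypeEquivSubtypeInter (fun a => a ∈ A.Fl (Subgroup.zpowers u))
      (fun a => π.I x a)).trans (Equiv.subtypeEquivRight fun a => ?_)).symm
    rw [mem_Fl_zpowers]; exact and_comm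
  have htg : O.tg x ∈ Λ := ⟨O.tg_left hx, by rw [O.tg_map u hx, hxu]⟩
  have himg : (fun y => π.join x y) '' (F \ {x}) = Λ \ {O.tg x} := by
    refine Set.Subset.antisymm ?_ ?_
    · rintro _ ⟨y, ⟨hy, hyx⟩, rfl⟩
      refine ⟨⟨π.join_left x y, A.fix_join (Ne.symm hyx) hxu hy.2⟩, fun e => hyx ?_⟩
      exact O.tg_only hx hy.1 (Set.mem_singleton_iff.mp e ▸ π.join_right x y)
    · rintro a ⟨⟨hxa, hua⟩, hne⟩
      obtain ⟨y, hy, hya, hyx⟩ : ∃ y ∈ O.pts, π.I y a ∧ y ≠ x := by
        by_contra! hc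
        exact hne (O.tg_eq hx hxa hc)
      have hyu : A.p u y = y := by
        have h2 : π.I (A.p u y) a := by rw [← hua, A.inc]; exact hya
        rcases O.two_of_line hx hy (O.inv u y hy) hyx.symm hxa hya h2 with e | e
        · exact absurd ((A.p u).injective (e.trans hxu.symm)) hyx
        · exact e
      exact ⟨y, ⟨⟨hy, hyu⟩, hyx⟩, π.join_eq hyx.symm hxa hya⟩
  have hinj : Set.InjOn (fun y => π.join x y) (F \ {x}) := by
    intro y hy z hz e
    simp only at e
    rcases O.two_of_line hx hy.1.1 hz.1.1 (Ne.symm hy.2) (π.join_left x y) (π.join_right x y)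
      (e ▸ π.join_right x z) with h' | h'
    · exact absurd h' hz.2
    · exact h'.symm
  have h1 := hinj.ncard_image
  rw [himg, Set.ncard_sdiff_singleton_of_mem htg, hΛc, Nat.add_sub_cancel,
    Set.ncard_sdiff_singleton_of_mem (show x ∈ F from ⟨hx, hxu⟩)] at h1
  have : 0 < F.ncard := (Set.ncard_pos).mpr ⟨x, hx, hxu⟩
  omega

end Baer

/-- The permutation induced on the oval. -/
noncomputable def Oval.perm : G →* Equiv.Perm ↥O.pts where
  toFun g := (A.p g).subtypePerm fun x => O.mem_iff g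
  map_one' := by ext x; simp
  map_mul' g h := Equiv.ext fun x => Subtype.ext (A.p_mul g h x.1)

@[simp] theorem Oval.perm_apply (g : G) (x : ↥O.pts) : (O.perm g x : P) = A.p g x.1 := rfl

/-- Every element of a perfect group is an even permutation. -/
theorem Oval.sign_perm [DecidableEq P] [Fintype ↥O.pts] (hperf : commutator G = ⊤) (g : G) :
    Equiv.Perm.sign (O.perm g) = 1 := by
  have h := Abelianization.commutator_subset_ker (Equiv.Perm.sign.comp O.perm)
  rw [hperf] at h
  exact h (Subgroup.mem_top g)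

/-- An involution moves a multiple of four points of the oval. -/
theorem Oval.four_dvd (hperf : commutator G = ⊤) {u : G} (hu : u * u = 1) :
    ∃ k, π.n + 1 = {x | x ∈ O.pts ∧ A.p u x = x}.ncard + 4 * k := by
  classical
  haveI := Fintype.ofFinite ↥O.pts
  have h2 : O.perm u ^ 2 = 1 := by rw [← map_pow, pow_two, hu, map_one]
  have h := Equiv.Perm.sign_of_pow_two_eq_one h2
  rw [O.sign_perm hperf u] at h
  have e1 : Fintype.card ↥O.pts = π.n + 1 := by
    rw [← Nat.card_eq_fintype_card, Nat.card_coe_set_eq, O.card]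
  have e2 : Fintype.card (Function.fixedPoints (O.perm u)) = {x | x ∈ O.pts ∧ A.p u x = x}.ncard := by
    rw [← Nat.card_eq_fintype_card, ← Nat.card_coe_set_eq]
    exact Nat.card_congr
      { toFun := fun y => ⟨y.1.1, y.1.2, congrArg Subtype.val y.2⟩
        invFun := fun y => ⟨⟨y.1, y.2.1⟩, Subtype.ext y.2.2⟩
        left_inv := fun y => rfl
        right_inv := fun y => rfl }
  have hle : {x | x ∈ O.pts ∧ A.p u x = x}.ncard ≤ π.n + 1 := by
    rw [← O.card]; exact Set.ncard_le_ncard fun x hx => hx.1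
  haveI : Fact (Nat.Prime 2) := ⟨Nat.prime_two⟩
  have hmod := Equiv.Perm.card_compl_support_modEq (show O.perm u ^ 2 ^ 1 = 1 by rw [pow_one]; exact h2)
  have e3 : (O.perm u).supportᶜ.card = Fintype.card (Function.fixedPoints (O.perm u)) := by
    rw [← Fintype.card_coe]
    exact Fintype.card_congr (Equiv.subtypeEquivRight fun y => by
      simp [Function.mem_fixedPoints, Function.IsFixedPt])
  rw [e3, e1, e2] at hmod
  rw [e1, e2] at h
  obtain ⟨j, hj⟩ := (neg_one_pow_eq_one_iff_even (R := ℤˣ) (by decide)).mp h.symm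
  refine ⟨j, ?_⟩
  unfold Nat.ModEq at hmod
  omega

theorem Oval.hom_fix (hperf : commutator G = ⊤) {u : G} {c : P} {a : L} (h : Hom A u c a) :
    (π.n % 4 = 3 → O.cont c = ∅) ∧
      (π.n % 4 = 1 → ∃ x y, x ≠ y ∧ x ∈ O.pts ∧ y ∈ O.pts ∧ O.cont c = {x, y}) := by
  obtain ⟨k, hk⟩ := O.four_dvd hperf h.sq
  rw [h.fix_eq_cont O] at hk
  rcases O.cont_cases (h.centre_notMem O) with e | ⟨x, y, hxy, hx, hy, e⟩
  · rw [e, Set.ncard_empty] at hk
    exact ⟨fun _ => e, fun hn => by omega⟩
  · have h2 : (O.cont c).ncard = 2 := by rw [e]; exact Set.ncard_pair hxy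
    rw [h2] at hk
    exact ⟨fun hn => by omega, fun _ => ⟨x, y, hxy, hx, hy, e⟩⟩

theorem Baer.n_mod {u : G} (O : Oval A) (h : Baer A u) : π.n % 4 = 1 := by
  obtain ⟨k, hk⟩ := h.m_odd O
  rw [h.n_eq, hk, show (2 * k + 1) ^ 2 = 4 * (k * k + k) + 1 by ring]
  omega

theorem Baer.exists_fix {u : G} (O : Oval A) (hperf : commutator G = ⊤) (h : Baer A u) :
    ∃ x ∈ O.pts, A.p u x = x := by
  obtain ⟨k, hk⟩ := O.four_dvd hperf h.sq
  have := h.n_mod O
  obtain ⟨x, hx⟩ := (Set.ncard_pos).mp (show 0 < {x | x ∈ O.pts ∧ A.p u x = x}.ncard by omega)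
  exact ⟨x, hx.1, hx.2⟩

include O in
/-- A homology normalising a group with a fixed quadrangle centralises it. -/
theorem Oval.centralize {u : G} {c : P} {a : L} (h : Hom A u c a) {H : Subgroup G}
    (hn : u ∈ Subgroup.normalizer (H : Set G)) (hq : π.Quad (A.Fx H)) : ∀ g ∈ H, g * u = u * g := by
  intro g hg
  refine (h.comm_iff_fix O).mpr ?_
  suffices hc : c ∈ A.Fx H from hc g hg
  obtain ⟨y, hy, hyu⟩ : ∃ y ∈ A.Fx H, A.p u y ≠ y := by
    by_contra! hc
    exact IsHom.not_baer ⟨c, a, h⟩ ⟨h.sq, h.ne, hq.mono fun x hx => hc x hx⟩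
  have hy' : A.p u y ∈ A.Fx H := (A.map_mem_Fx hn).mpr hy
  set l := π.join y (A.p u y) with hl
  have hlH : l ∈ A.Fl H := A.join_mem_Fl (Ne.symm hyu) hy hy'
  have hlu : A.l u l = l := by
    rw [hl, A.map_join u (Ne.symm hyu), ← A.p_mul, h.sq, map_one]
    exact π.join_eq hyu (π.join_right _ _) (π.join_left _ _)
  have hcl : π.I c l := (A.fixed_line h.mem h.ne hlu).resolve_left fun e => hyu (h.fix_on (e ▸ π.join_left y _))
  obtain ⟨z, hz, hzl, hza⟩ : ∃ z ∈ A.Fx H, ¬ π.I z l ∧ ¬ π.I z a := by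
    by_contra! hcon
    have hon : ∀ x ∈ A.Fx H, π.I x l ∨ π.I x a := fun x hx =>
      or_iff_not_imp_left.mpr (hcon x hx)
    -- two fixed points on the axis make it a fixed line
    obtain ⟨x₁, x₂, hx₁, hx₂, h12, ha₁, ha₂⟩ :
        ∃ x₁ x₂, x₁ ∈ A.Fx H ∧ x₂ ∈ A.Fx H ∧ x₁ ≠ x₂ ∧ π.I x₁ a ∧ π.I x₂ a := by
      obtain ⟨p, q, r, s, hp, hq, hr, hs, h1, h2, h3, h4⟩ := hq
      rcases hon p hp with hp' | hp' <;> rcases hon q hq with hq' | hq' <;>
        rcases hon r hr with hr' | hr' <;> rcases hon s hs with hs' | hs'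
      all_goals first
        | exact ⟨p, q, hp, hq, h1.1, hp', hq'⟩
        | exact ⟨p, r, hp, hr, h1.2.1, hp', hr'⟩
        | exact ⟨p, s, hp, hs, h2.2.1, hp', hs'⟩
        | exact ⟨q, r, hq, hr, h1.2.2.1, hq', hr'⟩
        | exact ⟨q, s, hq, hs, h2.2.2.1, hq', hs'⟩
        | exact ⟨r, s, hr, hs, h3.2.2.1, hr', hs'⟩
        | exact absurd hr' (h1.2.2.2 l hp' hq')
        | exact absurd hs' (h2.2.2.2 l hp' hq')
        | exact absurd hs' (h3.2.2.2 l hp' hr')
        | exact absurd hs' (h4.2.2.2 l hq' hr')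
    have haH : a ∈ A.Fl H := by
      have := A.join_mem_Fl h12 hx₁ hx₂
      rwa [π.join_eq h12 ha₁ ha₂] at this
    obtain ⟨z, hz1, hz2⟩ := (A.sub H hq).exists_off_two ⟨l, hlH⟩ ⟨a, haH⟩
    exact (hon z z.2).elim hz1 hz2
  have hzu : A.p u z ≠ z := fun e => (h.fix_cases e).elim (fun e' => hzl (e' ▸ hcl)) hza
  have hz' : A.p u z ∈ A.Fx H := (A.map_mem_Fx hn).mpr hz
  set l' := π.join z (A.p u z) with hl'
  have hl'H : l' ∈ A.Fl H := A.join_mem_Fl (Ne.symm hzu) hz hz'
  have hl'u : A.l u l' = l' := by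
    rw [hl', A.map_join u (Ne.symm hzu), ← A.p_mul, h.sq, map_one]
    exact π.join_eq hzu (π.join_right _ _) (π.join_left _ _)
  have hcl' : π.I c l' :=
    (A.fixed_line h.mem h.ne hl'u).resolve_left fun e => hzu (h.fix_on (e ▸ π.join_left z _))
  have hne : l ≠ l' := fun e => hzl (e ▸ π.join_left z _)
  exact π.meet_eq hne hcl hcl' ▸ A.meet_mem_Fx hne hlH hl'H

end CfsgLib.OvalPlane
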