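import Cfsg.Agent.Lib.OvalPlane.Invol
import Cfsg.Agent.Lib.UniqueSubgroup

set_option autoImplicit false
set_option linter.unusedSectionVars false
set_option linter.unusedVariables false
set_option linter.style.haveILetI false

/-!
Three commuting Baer involutions with fixed points on an oval do not exist; consequently a 2-group
fixing four points of an oval is cyclic.
-/

namespace CfsgLib.OvalPlane

open CfsgLib.TTP

universe u v w

variable {P : Type u} {L : Type v} {π : Pl P L} {G : Type w} [Group G] [Finite P] [Finite L]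
variable {A : Act π G} (O : Oval A)

theorem mem_normalizer_zpowers {s t : G} (h : s * t = t * s) :
    t ∈ Subgroup.normalizer (Subgroup.zpowers s : Set G) := by
  refine Subgroup.mem_normalizer_iff.mpr fun g => ?_
  have key : ∀ i : ℤ, t * s ^ i * t⁻¹ = s ^ i := fun i => by
    rw [← ((show Commute s t from h).zpow_left i).eq, mul_inv_cancel_right]
  constructor
  · rintro ⟨i, rfl⟩; exact ⟨i, (key i).symm⟩
  · rintro ⟨i, hi⟩
    have hi' : t * g * t⁻¹ = t * s ^ i * t⁻¹ := by rw [key]; exact hi.symm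
    exact ⟨i, (mul_left_cancel (mul_right_cancel hi')).symm⟩

/-- A Baer involution commuting with another fixes few points of its subplane. -/
theorem Baer.card_common {s t : G} (O : Oval A) (hs : Baer A s) (ht2 : t * t = 1) (ht1 : t ≠ 1) (hts : t ≠ s)
    (hc : s * t = t * s) :
    {x | A.p s x = x ∧ A.p t x = x}.ncard ≤ hs.plane.n + 2 ∨
      ∃ r, hs.plane.n = r ^ 2 ∧ 1 < r ∧ {x | A.p s x = x ∧ A.p t x = x}.ncard = r ^ 2 + r + 1 := by
  classical
  set R := Subgroup.zpowers s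
  set B := A.ind R hs.quad'
  have htn : t ∈ Subgroup.normalizer (R : Set G) := mem_normalizer_zpowers hc
  set τ := QuotientGroup.mk' (A.resP R).ker ⟨t, htn⟩ with hτ
  have hτ2 : τ * τ = 1 := by
    rw [hτ, ← map_mul, show (⟨t, htn⟩ : ↥(Subgroup.normalizer (R : Set G))) * ⟨t, htn⟩ = 1 from Subtype.ext ht2,
      map_one]
  have hτ1 : τ ≠ 1 := fun e => by
    have h := A.ind_mk_eq_one.mp e
    rcases hs.eq_of_fix O (g := t) (fun x hx => h x (by rw [Fx_zpowers]; exact hx)) with h' | h'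
    exacts [ht1 h', hts h']
  have hX : {x | A.p s x = x ∧ A.p t x = x}.ncard = {x | B.p τ x = x}.ncard := by
    rw [← Set.ncard_image_of_injective {x | B.p τ x = x} Subtype.val_injective]
    congr 1
    ext x
    constructor
    · rintro ⟨hx, hx'⟩
      exact ⟨⟨x, by rw [Fx_zpowers]; exact hx⟩, Subtype.ext hx', rfl⟩
    · rintro ⟨⟨y, hy⟩, hy', rfl⟩
      rw [Fx_zpowers] at hy
      exact ⟨hy, congrArg Subtype.val hy'⟩
  rw [hX]
  by_cases hq : (A.sub R hs.quad').Quad {x | B.p τ x = x}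
  · have hb : Baer B τ := ⟨hτ2, hτ1, hq⟩
    exact Or.inr ⟨hb.plane.n, hb.n_eq, hb.plane.one_lt_n, hb.card_fix⟩
  · obtain ⟨c, a, h⟩ := B.inv_persp hτ2 hτ1 hq
    refine Or.inl ?_
    have hsub : {x | B.p τ x = x} ⊆ insert c {x | (A.sub R hs.quad').I x a} := fun x hx => B.fixed_point h hτ1 hx
    refine (Set.ncard_le_ncard hsub).trans ((Set.ncard_insert_le _ _).trans ?_)
    rw [← Nat.card_coe_set_eq]
    exact (Nat.succ_le_succ ((A.sub R hs.quad').card_line a).le)

/-- The poles of the chords moved by `v` inside the fixed points of `w`. -/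
theorem pairs_bound {w v : G} (hwv : w * v = v * w) (hv : v * v = 1) {E : Set P}
    (hE : ∀ x, A.p w x = x → A.p v x = x → x ∈ E) :
    ∃ S ⊆ E \ O.pts, (∀ p ∈ S, ∃ y ∈ O.cont p, A.p w y = y ∧ A.p v y ≠ y) ∧
      {y | y ∈ O.pts ∧ A.p w y = y ∧ A.p v y ≠ y}.ncard ≤ 2 * S.ncard := by
  classical
  set D := {y | y ∈ O.pts ∧ A.p w y = y ∧ A.p v y ≠ y} with hD
  set f := fun y => O.pole y (A.p v y)
  have hwvy : ∀ y, A.p w y = y → A.p w (A.p v y) = A.p v y := fun y hy => by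
    rw [← A.p_mul, hwv, A.p_mul, hy]
  refine ⟨f '' D, ?_, ?_, ?_⟩
  · rintro _ ⟨y, ⟨hy, hwy, hvy⟩, rfl⟩
    refine ⟨hE _ ?_ ?_, O.pole_notMem hy (O.inv v y hy) (Ne.symm hvy)⟩
    · show A.p w (O.pole _ _) = _
      rw [O.pole_map w hy (O.inv v y hy) (Ne.symm hvy), hwy, hwvy y hwy]
    · show A.p v (O.pole _ _) = _
      rw [O.pole_map v hy (O.inv v y hy) (Ne.symm hvy), ← A.p_mul, hv, map_one]
      exact O.pole_comm (O.inv v y hy) hy hvy
  · rintro _ ⟨y, ⟨hy, hwy, hvy⟩, rfl⟩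
    refine ⟨y, ?_, hwy, hvy⟩
    rw [O.cont_pole hy (O.inv v y hy) (Ne.symm hvy)]
    exact Or.inl rfl
  · have hsub : D ⊆ ⋃ p ∈ (Set.toFinite (f '' D)).toFinset, O.cont p := by
      intro y hy
      simp only [Set.mem_iUnion, Set.Finite.mem_toFinset]
      refine ⟨f y, ⟨y, hy, rfl⟩, ?_⟩
      rw [O.cont_pole hy.1 (O.inv v y hy.1) (Ne.symm hy.2.2)]
      exact Or.inl rfl
    refine (Set.ncard_le_ncard hsub).trans ((Finset.set_ncard_biUnion_le _ _).trans ?_)
    have h2 : ∀ p ∈ (Set.toFinite (f '' D)).toFinset, (O.cont p).ncard ≤ 2 := by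
      intro p hp
      rw [Set.Finite.mem_toFinset] at hp
      obtain ⟨y, hy, rfl⟩ := hp
      rw [O.cont_pole hy.1 (O.inv v y hy.1) (Ne.symm hy.2.2)]
      exact (Set.ncard_insert_le _ _).trans (by rw [Set.ncard_singleton])
    refine (Finset.sum_le_card_nsmul _ _ 2 h2).trans ?_
    rw [smul_eq_mul, ← Set.ncard_eq_toFinset_card]
    omega

include O in
/-- There are no three commuting Baer involutions with fixed points on the oval. -/
theorem no_baer_klein {s t : G} (hs : Baer A s) (ht : Baer A t) (hst : Baer A (s * t)) (hc : s * t = t * s)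
    (hne : s ≠ t) (hxs : ∃ x ∈ O.pts, A.p s x = x) (hxt : ∃ x ∈ O.pts, A.p t x = x)
    (hxst : ∃ x ∈ O.pts, A.p (s * t) x = x) : False := by
  classical
  set E := {x | A.p s x = x ∧ A.p t x = x} with hE
  set m := hs.plane.n
  have hm : ∀ {u : G} (hu : Baer A u), hu.plane.n = m := fun hu => by
    have h := hu.n_eq.symm.trans hs.n_eq
    exact Nat.pow_left_injective two_ne_zero h
  have hsst0 : s * (s * t) = s * t * s := by rw [mul_assoc s t s, ← hc]
  set st := s * t with hstd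
  have hsst : s * st = st * s := hsst0
  have hst_s : ∀ x, A.p st x = x → A.p s x = x → A.p t x = x := fun x h1 h2 => by
    have e : t = s * st := by rw [hstd, ← mul_assoc, hs.sq, one_mul]
    rw [e, A.p_mul, h1, h2]
  obtain ⟨S1, hS1, hS1c, hb1⟩ := pairs_bound O hc ht.sq (E := E) fun x h1 h2 => ⟨h1, h2⟩
  obtain ⟨S2, hS2, hS2c, hb2⟩ := pairs_bound O hc.symm hs.sq (E := E) fun x h1 h2 => ⟨h2, h1⟩
  obtain ⟨S3, hS3, hS3c, hb3⟩ :=
    pairs_bound O hsst.symm hs.sq (E := E) fun x h1 h2 => ⟨h2, hst_s x h1 h2⟩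
  set Oe := O.pts ∩ E with hOe
  have hcnt : ∀ {w v : G} (hw : Baer A w), (∃ x ∈ O.pts, A.p w x = x) →
      (∀ x, A.p w x = x → A.p v x = x → x ∈ E) → (∀ x ∈ E, A.p w x = x ∧ A.p v x = x) →
      {y | y ∈ O.pts ∧ A.p w y = y ∧ A.p v y ≠ y}.ncard + Oe.ncard = m + 1 := by
    intro w v hw hx h1 h2
    obtain ⟨x, hxO, hxw⟩ := hx
    rw [← hm hw, ← hw.card_oval O hxO hxw, ← Set.ncard_union_eq]
    · congr 1
      ext y
      constructor
      · rintro (⟨hy, hwy, -⟩ | ⟨hy, hyE⟩)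
        exacts [⟨hy, hwy⟩, ⟨hy, (h2 y hyE).1⟩]
      · rintro ⟨hy, hwy⟩
        by_cases hvy : A.p v y = y
        exacts [Or.inr ⟨hy, h1 y hwy hvy⟩, Or.inl ⟨hy, hwy, hvy⟩]
    · exact Set.disjoint_left.mpr fun y hy hy' => hy.2.2 (h2 y hy'.2).2
  have c1 := hcnt hs hxs (fun x h1 h2 => ⟨h1, h2⟩) fun x hx => hx
  have c2 := hcnt ht hxt (v := s) (fun x h1 h2 => ⟨h2, h1⟩) fun x hx => hx.symm
  have c3 := hcnt hst hxst (v := s) (fun x h1 h2 => ⟨h2, hst_s x h1 h2⟩) fun x hx =>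
    ⟨by rw [A.p_mul, hx.2, hx.1], hx.1⟩
  obtain ⟨S4, hS4, hS4c, hb4⟩ : ∃ S4 ⊆ E \ O.pts, (∀ p ∈ S4, O.cont p ⊆ Oe) ∧ Oe.ncard ≤ S4.ncard + 1 := by
    rcases Set.eq_empty_or_nonempty Oe with h | ⟨x₀, hx₀⟩
    · exact ⟨∅, Set.empty_subset _, fun p hp => hp.elim, by rw [h]; simp⟩
    refine ⟨(fun y => O.pole x₀ y) '' (Oe \ {x₀}), ?_, ?_, ?_⟩
    · rintro _ ⟨y, ⟨hy, hne'⟩, rfl⟩
      refine ⟨⟨?_, ?_⟩, O.pole_notMem hx₀.1 hy.1 (Ne.symm hne')⟩
      · show A.p s (O.pole _ _) = _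
        rw [O.pole_map s hx₀.1 hy.1 (Ne.symm hne'), hx₀.2.1, hy.2.1]
      · show A.p t (O.pole _ _) = _
        rw [O.pole_map t hx₀.1 hy.1 (Ne.symm hne'), hx₀.2.2, hy.2.2]
    · rintro _ ⟨y, ⟨hy, hne'⟩, rfl⟩
      rw [O.cont_pole hx₀.1 hy.1 (Ne.symm hne')]
      exact Set.insert_subset hx₀ (Set.singleton_subset_iff.mpr hy)
    · rw [Set.InjOn.ncard_image, Set.ncard_sdiff_singleton_of_mem hx₀]
      · omega
      · intro y hy z hz e
        simp only at e
        have h1 := O.cont_pole hx₀.1 hy.1.1 (Ne.symm hy.2)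
        rw [e, O.cont_pole hx₀.1 hz.1.1 (Ne.symm hz.2)] at h1
        have h2 : y ∈ ({x₀, z} : Set P) := by rw [h1]; exact Or.inr rfl
        rcases h2 with h2 | h2
        exacts [absurd h2 hy.2, h2]
  -- the five sets are disjoint
  have pair_eq : ∀ {p y y' : P} {v : G}, y ∈ O.cont p → y' ∈ O.cont p → A.p v y ≠ y → A.p v y' = y' →
      ∀ {w : G}, O.cont p = {w' | w' = y ∨ w' = y'} := fun {p y y' v} hy hy' h1 h2 {w} => by
    have hne' : y ≠ y' := fun e => h1 (e ▸ h2)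
    have hpO : p ∉ O.pts := fun hp => hne' ((O.tg_only hy.1 hp hy.2).symm.trans (O.tg_only hy'.1 hp hy'.2))
    rw [O.cont_eq_pair hpO hy hy' hne']; rfl
  -- points of the contact pair of a fixed point are interchanged or fixed
  have stab : ∀ {p y : P} {g : G}, A.p g p = p → y ∈ O.cont p → A.p g y ∈ O.cont p := fun {p y g} hp hy =>
    ⟨O.inv g y hy.1, by rw [← O.tg_map g hy.1]; nth_rewrite 1 [← hp]; exact (A.inc g _ _).mpr hy.2⟩
  have key : ∀ {p y y' : P} {g : G}, p ∉ O.pts → A.p g p = p → y ∈ O.cont p → y' ∈ O.cont p →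
      A.p g y ≠ y → A.p g y' ≠ y' := by
    intro p y y' g hp hgp hy hy' hgy hgy'
    rcases eq_or_ne y y' with rfl | hne'
    · exact hgy hgy'
    have h := O.cont_eq_pair hp hy hy' hne'
    have h2 := stab hgp hy
    rw [h] at h2
    rcases h2 with h2 | h2
    · exact hgy h2
    · exact hne' ((A.p g).injective (h2.trans hgy'.symm))
  have d12 : Disjoint S1 S2 := Set.disjoint_left.mpr fun p h1 h2 => by
    obtain ⟨y, hy, hsy, hty⟩ := hS1c p h1
    obtain ⟨z, hz, htz, hsz⟩ := hS2c p h2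
    exact key (hS1 h1).2 (hS1 h1).1.2 hy hz hty htz
  have d13 : Disjoint S1 S3 := Set.disjoint_left.mpr fun p h1 h3 => by
    obtain ⟨y, hy, hsy, hty⟩ := hS1c p h1
    obtain ⟨z, hz, -, hsz⟩ := hS3c p h3
    exact key (hS1 h1).2 (hS1 h1).1.1 hz hy hsz hsy
  have d23 : Disjoint S2 S3 := Set.disjoint_left.mpr fun p h2 h3 => by
    obtain ⟨y, hy, hty, hsy⟩ := hS2c p h2
    obtain ⟨z, hz, hstz, hsz⟩ := hS3c p h3
    have hz' : A.p t z ≠ z := fun e => hsz (by rwa [A.p_mul, e] at hstz)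
    exact key (hS2 h2).2 (hS2 h2).1.2 hz hy hz' hty
  have d14 : Disjoint S1 S4 := Set.disjoint_left.mpr fun p h1 h4 => by
    obtain ⟨y, hy, hsy, hty⟩ := hS1c p h1
    exact hty (hS4c p h4 hy).2.2
  have d24 : Disjoint S2 S4 := Set.disjoint_left.mpr fun p h1 h4 => by
    obtain ⟨y, hy, hty, hsy⟩ := hS2c p h1
    exact hsy (hS4c p h4 hy).2.1
  have d34 : Disjoint S3 S4 := Set.disjoint_left.mpr fun p h1 h4 => by
    obtain ⟨y, hy, -, hsy⟩ := hS3c p h1
    exact hsy (hS4c p h4 hy).2.1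
  have htot : S1.ncard + S2.ncard + S3.ncard + S4.ncard + Oe.ncard ≤ E.ncard := by
    rw [← Set.ncard_union_eq d12, ← Set.ncard_union_eq (d13.union_left d23),
      ← Set.ncard_union_eq ((d14.union_left d24).union_left d34), ← Set.ncard_union_eq]
    · refine Set.ncard_le_ncard ?_
      rintro x ((((h | h) | h) | h) | h)
      exacts [(hS1 h).1, (hS2 h).1, (hS3 h).1, (hS4 h).1, h.2]
    · refine Set.disjoint_left.mpr fun x hx hx' => ?_
      rcases hx with ((h | h) | h) | h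
      exacts [(hS1 h).2 hx'.1, (hS2 h).2 hx'.1, (hS3 h).2 hx'.1, (hS4 h).2 hx'.1]
  obtain ⟨k, hk⟩ := hs.m_odd O
  have hm1 := hs.plane.one_lt_n
  rcases hs.card_common O ht.sq ht.ne (Ne.symm hne) hc with hub | ⟨r, hr, hr1, hub⟩
  · have : E.ncard ≤ m + 2 := hub
    omega
  · have : E.ncard = r ^ 2 + r + 1 := hub
    rcases Nat.lt_or_ge r 3 with h | h
    · interval_cases r
      omega
    · have h2 : 3 * r ≤ r ^ 2 := by rw [pow_two]; exact Nat.mul_le_mul_right r h
      omega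

section Fixed

variable {w x : G}

/-- The oval of a Baer subplane. -/
noncomputable def Oval.sub {b : G} (hb : Baer A b) {x : P} (hx : x ∈ O.pts) (hxb : A.p b x = x) :
    Oval (A.ind (Subgroup.zpowers b) hb.quad') where
  pts := {y | (y : P) ∈ O.pts}
  card := by
    show _ = hb.plane.n + 1
    rw [← hb.card_oval O hx hxb, ← Set.ncard_image_of_injective _ Subtype.val_injective]
    congr 1
    ext y
    constructor
    · rintro ⟨z, hz, rfl⟩
      exact ⟨hz, z.2 b (Subgroup.mem_zpowers b)⟩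
    · rintro ⟨hy, hyb⟩
      exact ⟨⟨y, by rw [Fx_zpowers]; exact hyb⟩, hy, rfl⟩
  arc := fun l x y z hx hy hz hxl hyl hzl =>
    (O.arc l.1 x.1 y.1 z.1 hx hy hz hxl hyl hzl).imp (fun h => Subtype.ext h)
      (Or.imp (fun h => Subtype.ext h) fun h => Subtype.ext h)
  inv := fun g x hx => by
    induction g using QuotientGroup.induction_on with
    | _ g => exact O.inv g.1 x.1 hx
  odd := hb.m_odd O

include O in
/-- An involution fixing four points of the oval is a Baer involution. -/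
theorem baer_of_four {u : G} (hu : u * u = 1) (hu1 : u ≠ 1) {S : Set P} (hS : 4 ≤ (O.pts ∩ S).ncard)
    (hfix : ∀ x ∈ S, A.p u x = x) : Baer A u := ⟨hu, hu1, (O.quad_of_card hS).mono fun x hx => hfix x hx⟩

/-- A 2-group fixing four points of the oval is cyclic. -/
theorem isCyclic_of_fix {R : Subgroup G} (hR : IsPGroup 2 R) {S : Set P} (hSO : S ⊆ O.pts) (hS : 4 ≤ S.ncard)
    (hfix : ∀ g ∈ R, ∀ x ∈ S, A.p g x = x) : IsCyclic R := by
  classical
  haveI : Fact (Nat.Prime 2) := ⟨Nat.prime_two⟩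
  haveI := A.finite
  rcases eq_or_ne R ⊥ with rfl | hRne
  · infer_instance
  haveI : Nontrivial R := (Subgroup.nontrivial_iff_ne_bot R).mpr hRne
  obtain ⟨x₀, hx₀⟩ := (Set.ncard_pos).mp (show 0 < S.ncard by omega)
  have hSS : 4 ≤ (O.pts ∩ S).ncard := by rwa [Set.inter_eq_right.mpr hSO]
  have hbaer : ∀ g : R, g * g = 1 → g ≠ 1 → Baer A (g : G) := fun g h1 h2 =>
    baer_of_four O (congrArg Subtype.val h1) (fun e => h2 (Subtype.ext e)) hSS (hfix g g.2)
  have huniq' : ∀ g k : R, g * g = 1 → k * k = 1 → g ≠ 1 → k ≠ 1 → g * k = k * g → g = k := by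
    intro g k hg hk hg1 hk1 hc
    by_contra hne
    have hgk : g * k * (g * k) = 1 := by
      rw [mul_assoc, ← mul_assoc k g, ← hc, mul_assoc, hk, mul_one, hg]
    have hgk1 : g * k ≠ 1 := fun e => hne (by rw [eq_inv_of_mul_eq_one_left e, inv_eq_self hk])
    exact no_baer_klein O (hbaer g hg hg1) (hbaer k hk hk1) (hbaer (g * k) hgk hgk1) (congrArg Subtype.val hc)
      (fun e => hne (Subtype.ext e)) ⟨x₀, hSO hx₀, hfix _ g.2 _ hx₀⟩ ⟨x₀, hSO hx₀, hfix _ k.2 _ hx₀⟩
      ⟨x₀, hSO hx₀, hfix _ (g * k).2 _ hx₀⟩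
  obtain ⟨z, hz⟩ : ∃ z : R, orderOf z = 2 ∧ z ∈ Subgroup.center R := by
    haveI := hR.center_nontrivial
    obtain ⟨z, hz⟩ := exists_prime_orderOf_dvd_card' 2 (show 2 ∣ Nat.card (Subgroup.center R) by
      obtain ⟨k, hk⟩ := (hR.to_subgroup (Subgroup.center R)).exists_card_eq
      rw [hk]
      refine dvd_pow_self 2 fun h => ?_
      rw [h, pow_zero] at hk
      have := Finite.one_lt_card (α := Subgroup.center R)
      omega)
    exact ⟨z, by rw [Subgroup.orderOf_coe, hz], z.2⟩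
  have hz2 : z * z = 1 := by rw [← pow_two, ← hz.1]; exact pow_orderOf_eq_one z
  have hz1 : z ≠ 1 := fun e => by rw [e, orderOf_one] at hz; exact absurd hz.1 (by norm_num)
  have huniq : ∀ y : R, y ^ 2 = 1 → y ∈ Subgroup.zpowers z := fun y hy => by
    rcases eq_or_ne y 1 with rfl | hy1
    · exact one_mem _
    rw [huniq' y z (by rw [← pow_two]; exact hy) hz2 hy1 hz1 (Subgroup.mem_center_iff.mp hz.2 y)]
    exact Subgroup.mem_zpowers z
  rcases CfsgLib.UniqueSubgroup.cyclic_or_quaternion hR hz.1 huniq with h | ⟨-, n, hn, ⟨e⟩⟩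
  · exact h
  exfalso
  -- a quaternion subgroup of order eight
  set M := 2 ^ (n - 1) with hM
  have hMn : 2 * M = 2 ^ n := by rw [hM, ← pow_succ', Nat.sub_add_cancel hn]
  have hpos : 0 < M := Nat.two_pow_pos _
  let i₀ : QuaternionGroup (2 ^ n) := QuaternionGroup.a (M : ZMod (2 * 2 ^ n))
  let j₀ : QuaternionGroup (2 ^ n) := QuaternionGroup.xa 0
  set i : R := e.symm i₀ with hi
  set j : R := e.symm j₀ with hj
  have hcast : ((2 ^ n : ℕ) : ZMod (2 * 2 ^ n)) = (M : ZMod (2 * 2 ^ n)) + (M : ZMod (2 * 2 ^ n)) := by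
    rw [← Nat.cast_add, ← two_mul, hMn]
  have hMne : ∀ t : ℕ, 0 < t → t < 2 * 2 ^ n → (t : ZMod (2 * 2 ^ n)) ≠ 0 := fun t h1 h2 h3 => by
    rw [ZMod.natCast_eq_zero_iff] at h3
    exact absurd (Nat.le_of_dvd h1 h3) (by omega)
  have hii : i * i = j * j := by
    rw [hi, hj, ← map_mul, ← map_mul]
    refine congrArg _ ?_
    show QuaternionGroup.a _ * QuaternionGroup.a _ = QuaternionGroup.xa 0 * QuaternionGroup.xa 0
    rw [QuaternionGroup.a_mul_a, QuaternionGroup.xa_mul_xa, ← hcast]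
    simp
  have hb1 : i * i ≠ 1 := by
    rw [hi, ← map_mul, Ne, EmbeddingLike.map_eq_one_iff]
    show QuaternionGroup.a _ * QuaternionGroup.a _ ≠ 1
    rw [QuaternionGroup.a_mul_a, ← hcast, QuaternionGroup.one_def]
    intro h
    exact hMne (2 ^ n) (Nat.two_pow_pos _) (by have := Nat.two_pow_pos n; omega) (QuaternionGroup.a.inj h)
  have hb2 : i * i * (i * i) = 1 := by
    rw [hi, ← map_mul, ← map_mul, EmbeddingLike.map_eq_one_iff]
    show QuaternionGroup.a _ * QuaternionGroup.a _ * (QuaternionGroup.a _ * QuaternionGroup.a _) = 1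
    rw [QuaternionGroup.a_mul_a, ← hcast, QuaternionGroup.a_mul_a, ← Nat.cast_add, ← two_mul,
      ZMod.natCast_self, QuaternionGroup.one_def]
  have hji : j * i = i⁻¹ * j := by
    rw [eq_inv_mul_iff_mul_eq, hi, hj, ← map_mul, ← map_mul]
    refine congrArg _ ?_
    show QuaternionGroup.a _ * (QuaternionGroup.xa 0 * QuaternionGroup.a _) = QuaternionGroup.xa 0
    simp
  have hjne : ∀ k : QuaternionGroup (2 ^ n), (∃ t, k = QuaternionGroup.a t) → j ≠ e.symm k := by
    rintro k ⟨t, rfl⟩ h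
    exact absurd (e.symm.injective h) (by simp [j₀])
  have hji1 : j ≠ i := hjne _ ⟨_, rfl⟩
  have hji2 : j ≠ i * i * i := by
    rw [hi, ← map_mul, ← map_mul]
    exact hjne _ ⟨_, by show QuaternionGroup.a _ * QuaternionGroup.a _ * QuaternionGroup.a _ = _; rw [QuaternionGroup.a_mul_a, QuaternionGroup.a_mul_a]⟩
  set b : R := i * i with hb
  have hbB := hbaer b hb2 hb1
  have hxb : A.p (b : G) x₀ = x₀ := hfix _ b.2 _ hx₀
  set O' := O.sub hbB (hSO hx₀) hxb
  have hbc : ∀ g : R, b * g = g * b := fun g => by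
    have : b = z := huniq' b z hb2 hz2 hb1 hz1 (Subgroup.mem_center_iff.mp hz.2 b)
    rw [this]; exact (Subgroup.mem_center_iff.mp hz.2 g).symm
  have hnorm : ∀ g : R, (g : G) ∈ Subgroup.normalizer (Subgroup.zpowers (b : G) : Set G) := fun g =>
    mem_normalizer_zpowers (congrArg Subtype.val (hbc g))
  set q : R →* ↥(Subgroup.normalizer (Subgroup.zpowers (b : G) : Set G)) ⧸ (A.resP (Subgroup.zpowers (b : G))).ker :=
    (QuotientGroup.mk' _).comp (R.subtype.codRestrict _ hnorm) with hq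
  have hqfix : ∀ g : R, ∀ y : A.Fx (Subgroup.zpowers (b : G)),
      ((A.ind _ hbB.quad').p (q g) y : P) = A.p (g : G) y.1 := fun g y => rfl
  have hker : ∀ g : R, q g = 1 → g = 1 ∨ g = b := fun g h => by
    have h' := A.ind_mk_eq_one.mp h
    rcases hbB.eq_of_fix O (g := (g : G)) (fun x hx => h' x (by rw [Fx_zpowers]; exact hx)) with h'' | h''
    exacts [Or.inl (Subtype.ext h''), Or.inr (Subtype.ext h'')]
  have hqb : q b = 1 := A.ind_mk_eq_one.mpr fun x hx => hx _ (Subgroup.mem_zpowers _)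
  have hij : i * j * (i * j) = b := by
    rw [mul_assoc, ← mul_assoc j i, hji, mul_assoc i⁻¹, ← hii, mul_inv_cancel_left]
  have hbq : ∀ g : R, g * g = b → q g * q g = 1 ∧ q g ≠ 1 := fun g hg => by
    refine ⟨by rw [← map_mul, hg, hqb], fun h => ?_⟩
    rcases hker g h with rfl | rfl
    · exact hb1 (by rw [← hg, one_mul])
    · exact hb1 (hg.symm.trans hb2)
  have hquad : ∀ g : R, g * g = b → Baer (A.ind _ hbB.quad') (q g) := fun g hg => by
    refine baer_of_four O' (hbq g hg).1 (hbq g hg).2 (S := {y | (y : P) ∈ S}) ?_ fun y hy =>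
      Subtype.ext (by rw [hqfix]; exact hfix _ g.2 _ hy)
    rw [← Set.ncard_image_of_injective _ Subtype.val_injective]
    refine hS.trans (Set.ncard_le_ncard fun y hy =>
      ⟨⟨y, by rw [Fx_zpowers]; exact hfix _ b.2 _ hy⟩, ⟨hSO hy, hy⟩, rfl⟩)
  have hex : ∀ g : R, ∃ y ∈ O'.pts, (A.ind _ hbB.quad').p (q g) y = y := fun g =>
    ⟨⟨x₀, by rw [Fx_zpowers]; exact hxb⟩, hSO hx₀, Subtype.ext (hfix _ g.2 _ hx₀)⟩
  refine no_baer_klein O' (hquad i rfl) (hquad j hii.symm) (by rw [← map_mul]; exact hquad _ hij) ?_ ?_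
    (hex i) (hex j) (by rw [← map_mul]; exact hex _)
  · have e1 : j * i = b * (i * j) := by
      rw [hji, ← mul_assoc]
      congr 1
      refine inv_eq_of_mul_eq_one_left ?_
      rw [hb, mul_assoc (i * i) i i]
      exact hb2
    rw [← map_mul q i j, ← map_mul q j i, e1, map_mul q b, hqb, one_mul]
  · intro h
    have h1 : q (i⁻¹ * j) = 1 := by rw [map_mul, map_inv, h, inv_mul_cancel]
    rcases hker _ h1 with h2 | h2
    · exact hji1 (inv_mul_eq_one.mp h2).symm
    · exact hji2 (by rw [inv_mul_eq_iff_eq_mul] at h2; rw [h2, hb, ← mul_assoc])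

end Fixed

end CfsgLib.OvalPlane
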