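import Mathlib.GroupTheory.Sylow
import Mathlib.GroupTheory.Subgroup.Simple
import Cfsg.Prelude.Def_CaseTheorems

set_option autoImplicit false

/-!
What the geometry gives about a simple group with semidihedral Sylow 2-subgroups fixing an oval in a
plane of order `1` modulo `4`.
-/

namespace CfsgLib.OvalPlane

universe w

/-- Group-theoretic consequences of the geometry in the semidihedral case. -/
structure SDHyp (G : Type w) [Group G] [Finite G] where
  S : Sylow 2 G
  quasi : Cfsg.IsQuasiDihedral (S : Subgroup G)
  /-- The centraliser of a four-group is the four-group times a subgroup of odd order. -/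
  split : ∀ a b : G, a * a = 1 → b * b = 1 → a ≠ 1 → b ≠ 1 → a ≠ b → a * b = b * a →
    ∃ D : Subgroup G, Odd (Nat.card D) ∧ (∀ y ∈ D, y * a = a * y ∧ y * b = b * y) ∧
      ∀ y : G, y * a = a * y → y * b = b * y →
        ∃ v, (v = 1 ∨ v = a ∨ v = b ∨ v = a * b) ∧ y * v ∈ D
  /-- Involutions normalising a four-group centralise the odd part of its centraliser. -/
  centralize : ∀ a b : G, a * a = 1 → b * b = 1 → a ≠ 1 → b ≠ 1 → a ≠ b → a * b = b * a →
    ∀ w : G, w * w = 1 → w ≠ 1 →
      (w * a * w = a ∨ w * a * w = b ∨ w * a * w = a * b) →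
      (w * b * w = a ∨ w * b * w = b ∨ w * b * w = a * b) →
      ∀ y : G, Odd (orderOf y) → y * a = a * y → y * b = b * y → y * w = w * y
  /-- An element of odd order in the centraliser of an involution inverted by an involution there. -/
  inverted : ∀ t w x : G, t * t = 1 → t ≠ 1 → w * w = 1 → w ≠ 1 → w ≠ t → w * t = t * w →
    x ≠ 1 → Odd (orderOf x) → x * t = t * x → w * x * w = x⁻¹ →
    ∀ k : G, k * k = 1 → k ≠ 1 → k * x = x * k → k = t

end CfsgLib.OvalPlane
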