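import Cfsg.Agent.Lib.OvalPlane.TransferMain
import Cfsg.Agent.Lib.OvalPlane.SDInterface
import Cfsg.Agent.Lib.Fusion.RankTwoSimple
import Cfsg.Agent.Lib.MaxSub.ResThree.Dihedral.Facts

set_option autoImplicit false
set_option linter.unusedSectionVars false
set_option linter.unusedVariables false
set_option linter.style.haveILetI false

/-!
Simple groups fixing an oval in a plane of order `1` modulo `4`: reduction to the semidihedral
interface.
-/

namespace CfsgLib.OvalPlane

open CfsgLib.TTP Equiv

universe u v w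

/-- All involutions of the alternating group of degree seven are conjugate. -/
theorem alt7_isConj {x y : alternatingGroup (Fin 7)} (hx : x * x = 1) (hx1 : x ≠ 1) (hy : y * y = 1)
    (hy1 : y ≠ 1) : IsConj x y := by
  have key : ∀ {x : alternatingGroup (Fin 7)}, x * x = 1 → x ≠ 1 →
      (x : Perm (Fin 7)).cycleType = Multiset.replicate 2 2 := by
    intro x h1 h2
    haveI : Fact (Nat.Prime 2) := ⟨Nat.prime_two⟩
    have ho : orderOf (x : Perm (Fin 7)) = 2 := orderOf_eq_prime
      (by rw [pow_two]; exact congrArg Subtype.val h1) fun e => h2 (Subtype.ext e)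
    obtain ⟨k, hk⟩ := Perm.cycleType_prime_order (σ := (x : Perm (Fin 7))) (ho ▸ Nat.prime_two)
    rw [ho] at hk
    have hle := Perm.sum_cycleType_le (x : Perm (Fin 7))
    rw [Fintype.card_fin, hk, Multiset.sum_replicate, smul_eq_mul] at hle
    have hsgn := Perm.mem_alternatingGroup.1 x.2
    rw [Perm.sign_of_cycleType, hk, Multiset.sum_replicate, Multiset.card_replicate, smul_eq_mul,
      neg_one_pow_eq_one_iff_even (by decide)] at hsgn
    obtain ⟨j, hj⟩ := hsgn
    rw [hk]
    congr 1
    omega
  refine CfsgLib.ResThree.alt_isConj (Perm.isConj_iff_cycleType_eq.2 ((key hx hx1).trans (key hy hy1).symm))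
    (CfsgLib.ResThree.alt_centralizer fun e => hx1 (Subtype.ext ?_))
  have h2 : (x : Perm (Fin 7)) * x = 1 := congrArg Subtype.val hx
  have e' : (x : Perm (Fin 7)) ^ (2 * 3 + 1) = 1 := e
  rwa [pow_succ, pow_mul, pow_two, h2, one_pow, one_mul] at e'

/-- A four-group and an involution against `A₇`. -/
def altA : alternatingGroup (Fin 7) := ⟨swap 0 1 * swap 2 3, Perm.mem_alternatingGroup.mpr (by decide)⟩

def altB : alternatingGroup (Fin 7) := ⟨swap 0 2 * swap 1 3, Perm.mem_alternatingGroup.mpr (by decide)⟩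

def altC : alternatingGroup (Fin 7) := ⟨swap 0 1 * swap 4 5, Perm.mem_alternatingGroup.mpr (by decide)⟩

def altX : alternatingGroup (Fin 7) := ⟨swap 4 5 * swap 5 6, Perm.mem_alternatingGroup.mpr (by decide)⟩

variable {P : Type u} {L : Type v} {π : Pl P L} {G : Type w} [Group G] [Finite P] [Finite L]
variable {A : Act π G} {O : Oval A}

namespace Mod1

variable (M : Mod1 O)
include M

theorem not_altSeven {h : G} (hh : IsHom A h) (e : G ≃* alternatingGroup (Fin 7)) : False := by
  have hom : ∀ x : alternatingGroup (Fin 7), x * x = 1 → x ≠ 1 → IsHom A (e.symm x) := by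
    intro x h1 h2
    have hc : IsConj (e h) x := alt7_isConj (by rw [← map_mul, hh.sq, map_one])
      (fun he => hh.ne (e.injective (he.trans (map_one e).symm))) h1 h2
    obtain ⟨c, hc⟩ := isConj_iff.mp hc
    have e1 : e.symm x = e.symm c * h * (e.symm c)⁻¹ := by
      rw [← hc, map_mul, map_mul, map_inv, e.symm_apply_apply]
    exact e1 ▸ hh.map _
  have em : ∀ {a b c d : alternatingGroup (Fin 7)}, a * b = c * d → e.symm a * e.symm b = e.symm c * e.symm d :=
    fun h => by rw [← map_mul, ← map_mul, h]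
  have em3 : ∀ {a b c : alternatingGroup (Fin 7)}, a * b * a = c → e.symm a * e.symm b * e.symm a = e.symm c :=
    fun h => by rw [← map_mul, ← map_mul, h]
  have hF : Four A (e.symm altA) (e.symm altB) := ⟨hom _ (by decide) (by decide), hom _ (by decide) (by decide),
    fun h => absurd (e.symm.injective h) (by decide), em (by decide)⟩
  set w := e.symm altX with hw
  have hw3 : w ^ 3 = 1 := by rw [hw, ← map_pow, show altX ^ 3 = 1 by decide, map_one]
  obtain ⟨v, hv, hmem⟩ := hF.exists_fix_six M (em (show altX * altA = altA * altX by decide))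
    (em (show altX * altB = altB * altX by decide))
  obtain ⟨m1, m2, m3⟩ := hF.mem_Dv.mp hmem
  have hwv : w * v = v * w := by
    rcases hv with rfl | rfl | rfl | rfl
    · simp
    · exact em (show altX * altA = altA * altX by decide)
    · exact em (show altX * altB = altB * altX by decide)
    · rw [← map_mul]; exact em (show altX * (altA * altB) = altA * altB * altX by decide)
  have hv2 : v * v = 1 := by
    rcases hv with rfl | rfl | rfl | rfl
    exacts [one_mul 1, hF.hh.sq, hF.hu.sq, (hF.hom_prod M).sq]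
  have hwD : w ∈ hF.Dv O := by
    have h4 : (w * v) ^ 4 = w := by
      rw [(show Commute w v from hwv).mul_pow, pow_succ w 3, hw3, one_mul, show v ^ 4 = (v * v) * (v * v) by rw [← pow_two v, ← pow_add],
        hv2, one_mul, mul_one]
    rw [← h4]
    exact pow_mem hmem 4
  have hC := hom altC (by decide) (by decide)
  have hc := hF.centralize_Dv M hC (Or.inl (em3 (show altC * altA * altC = altA by decide)))
    (Or.inr (Or.inr ((em3 (show altC * altB * altC = altA * altB by decide)).trans (map_mul _ _ _)))) w hwD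
  rw [hw, ← map_mul, ← map_mul] at hc
  exact absurd (e.symm.injective hc) (by decide)

/-- The interface of the semidihedral case. -/
theorem sdHyp [Finite G] [IsSimpleGroup G] (hG : ¬ IsMulCommutative G) (S : Sylow 2 G)
    (hQD : Cfsg.IsQuasiDihedral (S : Subgroup G)) {h : G} (hh : IsHom A h) : Nonempty (SDHyp G) := by
  haveI : Fact (Nat.Prime 2) := ⟨Nat.prime_two⟩
  obtain ⟨k, hk, hcard, -⟩ := CfsgLib.QD.exists_data hQD
  have h16 : 16 ∣ Nat.card G := by
    refine Dvd.dvd.trans ?_ (S : Subgroup G).card_subgroup_dvd_card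
    rw [hcard]
    exact (pow_dvd_pow 2 (show 4 ≤ k + 1 by omega))
  have hall : ∀ {a : G}, a * a = 1 → a ≠ 1 → IsHom A a := fun {a} h1 h2 => by
    obtain ⟨c, hc⟩ := isConj_iff.mp (CfsgLib.RankTwoSimple.isConj_of_card_classes
      (CfsgLib.RankTwoSimple.classes_of_quasiDihedral S hQD h16).1 (Act.inv_order hh.sq hh.ne)
      (Act.inv_order h1 h2))
    exact hc ▸ hh.map c
  have hodd : ∀ {a b : G} (F : Four A a b), Odd (Nat.card (F.Dv O)) := by
    intro a b F
    rw [← Nat.not_even_iff_odd, even_iff_two_dvd]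
    intro h2
    obtain ⟨y, hy⟩ := exists_prime_orderOf_dvd_card' 2 h2
    have hy2 : (y : G) * y = 1 := by
      have := pow_orderOf_eq_one y
      rw [hy, pow_two] at this
      exact congrArg Subtype.val this
    have hy1 : (y : G) ≠ 1 := fun e => by
      rw [show y = 1 from Subtype.ext e, orderOf_one] at hy; omega
    exact (hall hy2 hy1).not_baer ⟨hy2, hy1, F.quad_six M (F.mem_Dv.mp y.2).2.2⟩
  refine ⟨⟨S, hQD, ?_, ?_, ?_⟩⟩
  · intro a b ha hb ha1 hb1 hab hc
    have F : Four A a b := ⟨hall ha ha1, hall hb hb1, hab, hc⟩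
    exact ⟨F.Dv O, hodd F, fun y hy => ⟨(F.mem_Dv.mp hy).1, (F.mem_Dv.mp hy).2.1⟩,
      fun y h1 h2 => F.exists_fix_six M h1 h2⟩
  · intro a b ha hb ha1 hb1 hab hc w hw hw1 c1 c2 y hy y1 y2
    have F : Four A a b := ⟨hall ha ha1, hall hb hb1, hab, hc⟩
    obtain ⟨v, hv, hmem⟩ := F.exists_fix_six M y1 y2
    have hv2 : v * v = 1 := by
      rcases hv with rfl | rfl | rfl | rfl
      exacts [one_mul 1, ha, hb, (F.hom_prod M).sq]
    have hyv : y * v = v * y := by
      rcases hv with rfl | rfl | rfl | rfl
      · simp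
      · exact y1
      · exact y2
      · rw [← mul_assoc, y1, mul_assoc, y2, ← mul_assoc]
    have hyD : y ∈ F.Dv O := by
      obtain ⟨m, hm⟩ := hy
      have h1 : (y * v) ^ (orderOf y + 1) = y := by
        have e1 : y ^ (orderOf y + 1) = y := by rw [pow_succ, pow_orderOf_eq_one, one_mul]
        have e2 : v ^ (orderOf y + 1) = 1 := by
          rw [hm, show 2 * m + 1 + 1 = 2 * (m + 1) by ring, pow_mul, pow_two, hv2, one_pow]
        rw [(show Commute y v from hyv).mul_pow, e1, e2, mul_one]
      rw [← h1]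
      exact pow_mem hmem _
    exact F.centralize_Dv M (hall hw hw1) c1 c2 y hyD
  · intro t w x ht ht1 hw hw1 hwt hc hx1 hxo hxt hwx k hk hk1 hkx
    obtain ⟨p, q, hpq, hp, hq, hpair⟩ := M.fix_pair (hall ht ht1)
    -- odd elements fix the pair of a homology they centralise
    have hfix : ∀ {s : G}, IsHom A s → x * s = s * x → ∀ z ∈ O.fixO s, A.p x z = z := by
      intro s hs hxs z hz
      obtain ⟨m, hm⟩ := hxo
      have hz2 : A.p (x * x) z = z := by
        have h1 := (O.map_fixO_of_comm hxs).mpr hz
        have h2 := (O.map_fixO_of_comm hxs).mpr h1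
        rw [A.p_mul]
        by_cases h : A.p x z = z
        · rw [h, h]
        have e : O.fixO s = {z, A.p x z} := (Set.eq_of_subset_of_ncard_le
          (Set.insert_subset hz (Set.singleton_subset_iff.mpr h1))
          (by rw [M.ncard_fixO hs, Set.ncard_pair (Ne.symm h)])).symm
        rw [e] at h2
        rcases h2 with h2 | h2
        · exact h2
        · exact absurd ((A.p x).injective h2) h
      have h3 : x * x ∈ A.stP z := hz2
      have e : x = (x * x) ^ (m + 1) := by
        rw [← pow_two, ← pow_mul, show 2 * (m + 1) = orderOf x + 1 by omega, pow_succ, pow_orderOf_eq_one, one_mul]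
      rw [e]
      exact pow_mem h3 _
    have hsub : ∀ z ∈ O.pts, A.p x z = z → z ∈ O.fixO t := by
      intro z hz hxz
      by_contra hzt
      have htz : A.p t z ≠ z := fun e => hzt ⟨hz, e⟩
      have hxtz : A.p x (A.p t z) = A.p t z := by rw [← A.p_mul, hxt, A.p_mul, hxz]
      have hH : ∀ g ∈ Subgroup.zpowers x, ∀ y, A.p x y = y → A.p g y = y := fun g hg y hy => by
        have : Subgroup.zpowers x ≤ A.stP y := Subgroup.zpowers_le.mpr hy
        exact this hg
      have hp' : p ∈ O.fixO t := by rw [hpair]; exact Or.inl rfl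
      have hq' : q ∈ O.fixO t := by rw [hpair]; exact Or.inr rfl
      have hquad : π.Quad (A.Fx (Subgroup.zpowers x)) := O.quad_of_four hp hq hz (O.inv t z hz)
        (fun g hg => hH g hg _ (hfix (hall ht ht1) hxt p hp')) (fun g hg => hH g hg _ (hfix (hall ht ht1) hxt q hq'))
        (fun g hg => hH g hg _ hxz) (fun g hg => hH g hg _ hxtz) hpq
        (fun e => hzt (e ▸ hp')) (fun e => hzt ((O.map_fixO_of_comm rfl).mp (e ▸ hp')))
        (fun e => hzt (e ▸ hq')) (fun e => hzt ((O.map_fixO_of_comm rfl).mp (e ▸ hq'))) (Ne.symm htz)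
      obtain ⟨c, a, Hw⟩ := hall hw hw1
      have hn : w ∈ Subgroup.normalizer (Subgroup.zpowers x : Set G) := by
        refine Subgroup.mem_normalizer_iff.mpr fun g => ?_
        rw [inv_eq_self hw]
        have key : ∀ g ∈ Subgroup.zpowers x, w * g * w ∈ Subgroup.zpowers x := by
          rintro g ⟨i, rfl⟩
          have h := _root_.conj_zpow (a := w) (b := x) (i := i)
          rw [inv_eq_self hw, hwx, inv_zpow, ← zpow_neg] at h
          exact ⟨-i, h⟩
        refine ⟨key g, fun hg => ?_⟩
        have := key _ hg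
        rwa [show w * (w * g * w) * w = w * w * g * (w * w) by group, hw, one_mul, mul_one] at this
      have hcm := O.centralize Hw hn hquad x (Subgroup.mem_zpowers x)
      rw [← hcm, mul_assoc, hw, mul_one] at hwx
      obtain ⟨m, hm⟩ := hxo
      have hx2 : x ^ 2 = 1 := by rw [pow_two]; nth_rewrite 2 [hwx]; exact mul_inv_cancel x
      refine hx1 ?_
      have h := pow_orderOf_eq_one x
      rwa [hm, pow_succ, pow_mul, hx2, one_pow, one_mul] at h
    refine M.eq_of_fixO (hall hk hk1) (hall ht ht1) (Set.eq_of_subset_of_ncard_le (fun z hz =>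
      hsub z hz.1 (hfix (hall hk hk1) hkx.symm z hz)) ?_)
    rw [M.ncard_fixO (hall hk hk1), M.ncard_fixO (hall ht ht1)]

/-- The planes of order `1` modulo `4`, up to the semidihedral case. -/
theorem main_one [Finite G] [IsSimpleGroup G] (hG : ¬ IsMulCommutative G) :
    (∃ (F : Type) (_ : Field F) (_ : Fintype F), Odd (Fintype.card F) ∧
      Nonempty (G ≃* Matrix.ProjectiveSpecialLinearGroup (Fin 2) F)) ∨ Nonempty (SDHyp G) := by
  obtain ⟨S⟩ : Nonempty (Sylow 2 G) := inferInstance
  obtain ⟨h, hs⟩ := Setup.exists M hG S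
  obtain ⟨u, z, R⟩ := Refl.exists hs hG
  have hc : ∀ x ∈ (S : Subgroup G), x * u = u * x → x = 1 ∨ x = u ∨ x = h ∨ x = u * h := by
    intro x hx hxu
    rcases R.centralizer hG x hx hxu with e | e | e | e
    exacts [Or.inl e, Or.inr (Or.inr (Or.inl e)), Or.inr (Or.inl e),
      Or.inr (Or.inr (Or.inr (e.trans (hs.four R.base).comm)))]
  rcases sylow_cases S R.base.2.1.sq R.base.2.1.ne R.base.1 hs.mem hs.hom.sq hs.hom.ne (Ne.symm R.base.2.2)
    (hs.central u R.base.1) hc with ⟨k, hk, hS⟩ | hQD
  · exact Or.inl ((psl_or_alt hG S hk hS).resolve_right fun ⟨e⟩ => M.not_altSeven hs.hom e)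
  · exact Or.inr (M.sdHyp hG S hQD hs.hom)

end Mod1

end CfsgLib.OvalPlane
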