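import Mathlib.GroupTheory.Perm.Sign
import Mathlib.GroupTheory.Perm.Basic
import Mathlib.Data.Fintype.Quotient

set_option autoImplicit false
set_option linter.unusedSectionVars false

/-!
A permutation commuting with a fixed-point-free action of a four-group is even.
-/

namespace CfsgLib.OvalPlane

open Equiv

universe u

theorem sign_eq_one_of_commute_klein {X : Type u} [Fintype X] [DecidableEq X] (a b y : Perm X) (ha : a * a = 1)
    (hb : b * b = 1) (hab : a * b = b * a) (fa : ∀ x, a x ≠ x) (fb : ∀ x, b x ≠ x) (fab : ∀ x, a (b x) ≠ x)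
    (hya : y * a = a * y) (hyb : y * b = b * y) : Perm.sign y = 1 := by
  classical
  let act : Bool × Bool → Perm X := fun k => (if k.1 then a else 1) * (if k.2 then b else 1)
  have hba : b * a = a * b := hab.symm
  have hmul : ∀ k l, act k * act l = act (xor k.1 l.1, xor k.2 l.2) := by
    rintro ⟨i, j⟩ ⟨i', j'⟩
    have hc : Commute (if j then b else 1) (if i' then a else 1) := by
      split_ifs
      exacts [hba, Commute.one_right _, Commute.one_left _, Commute.one_right _]
    simp only [act]
    rw [hc.mul_mul_mul_comm]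
    cases i <;> cases j <;> cases i' <;> cases j' <;> simp [ha, hb]
  have hfree : ∀ k x, act k x = x → k = (false, false) := by
    rintro ⟨i, j⟩ x h
    cases i <;> cases j <;> simp only [act, Bool.false_eq_true, ↓reduceIte, one_mul, mul_one, Perm.mul_apply] at h
    · rfl
    exacts [absurd h (fb x), absurd h (fa x), absurd h (fab x)]
  have hcomm : ∀ k x, y (act k x) = act k (y x) := by
    intro k x
    have h : Commute y (act k) := by
      refine Commute.mul_right ?_ ?_ <;> split_ifs
      exacts [hya, Commute.one_right y, hyb, Commute.one_right y]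
    exact congrArg (fun f : Perm X => f x) h.eq
  have hinv : ∀ k x, act k (act k x) = x := fun k x => by
    rw [← Perm.mul_apply, hmul]
    simp [act]
  let r : Setoid X :=
    { r := fun x x' => ∃ k, x' = act k x
      iseqv :=
        { refl := fun x => ⟨(false, false), by simp [act]⟩
          symm := fun {x x'} ⟨k, hk⟩ => ⟨k, by rw [hk, hinv]⟩
          trans := fun {x x' x''} ⟨k, hk⟩ ⟨l, hl⟩ =>
            ⟨(xor l.1 k.1, xor l.2 k.2), by rw [hl, hk, ← Perm.mul_apply, hmul]⟩ } }
  let f : Quotient r × (Bool × Bool) → X := fun p => act p.2 p.1.out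
  have hf : Function.Bijective f := by
    constructor
    · rintro ⟨q, k⟩ ⟨q', l⟩ h
      have e1 : q = q' := by
        rw [← Quotient.out_eq q, ← Quotient.out_eq q']
        exact Quotient.sound ⟨(xor l.1 k.1, xor l.2 k.2), by
          rw [← hmul, Perm.mul_apply, show act k q.out = act l q'.out from h, hinv]⟩
      subst e1
      have h' : act l (act k q.out) = q.out := by rw [show act k q.out = act l q.out from h, hinv]
      rw [← Perm.mul_apply, hmul] at h'
      have e := hfree _ _ h'
      simp only [Prod.mk.injEq] at e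
      obtain ⟨k1, k2⟩ := k
      obtain ⟨l1, l2⟩ := l
      cases k1 <;> cases k2 <;> cases l1 <;> cases l2 <;> simp_all
    · intro x
      obtain ⟨k, hk⟩ := Quotient.exact (Quotient.out_eq ⟦x⟧) (a := (⟦x⟧ : Quotient r).out)
      exact ⟨(⟦x⟧, k), hk.symm⟩
  let E : Quotient r × (Bool × Bool) ≃ X := Equiv.ofBijective f hf
  have hrel : ∀ x x', r.r x x' → r.r (y x) (y x') := fun x x' ⟨k, hk⟩ => ⟨k, by rw [hk, hcomm]⟩
  have hrel' : ∀ x x', r.r x x' → r.r (y⁻¹ x) (y⁻¹ x') := fun x x' ⟨k, hk⟩ => ⟨k, by
    refine y.injective ?_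
    rw [hcomm]
    simpa using hk⟩
  let σ : Perm (Quotient r) :=
    { toFun := Quotient.map y hrel
      invFun := Quotient.map (y⁻¹ : Perm X) hrel'
      left_inv := fun q => Quotient.inductionOn q fun x => by simp [Quotient.map_mk]
      right_inv := fun q => Quotient.inductionOn q fun x => by simp [Quotient.map_mk] }
  have hshift : ∀ q : Quotient r, ∃ k, y q.out = act k (σ q).out := fun q =>
    Quotient.exact (a := (σ q).out) (b := y q.out) (by
      rw [Quotient.out_eq]
      conv_lhs => rw [← Quotient.out_eq q]
      rfl)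
  choose c hc using hshift
  let sh : Bool × Bool → Perm (Bool × Bool) := fun d =>
    { toFun := fun k => (xor k.1 d.1, xor k.2 d.2)
      invFun := fun k => (xor k.1 d.1, xor k.2 d.2)
      left_inv := fun k => by obtain ⟨i, j⟩ := k; obtain ⟨i', j'⟩ := d; cases i <;> cases j <;> cases i' <;> cases j' <;> rfl
      right_inv := fun k => by obtain ⟨i, j⟩ := k; obtain ⟨i', j'⟩ := d; cases i <;> cases j <;> cases i' <;> cases j' <;> rfl }
  have hsh : ∀ d, Perm.sign (sh d) = 1 := by
    rintro ⟨i, j⟩
    cases i <;> cases j <;> decide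
  have key : E.symm.permCongr y = prodCongrLeft (fun _ : Bool × Bool => σ) * prodCongrRight fun q => sh (c q) := by
    refine Equiv.ext fun p => E.injective ?_
    rw [Equiv.permCongr_apply, E.apply_symm_apply, Equiv.symm_symm]
    show y (act p.2 p.1.out) = act (xor p.2.1 (c p.1).1, xor p.2.2 (c p.1).2) (σ p.1).out
    rw [hcomm, hc, ← hmul]
    rfl
  have h := congrArg Perm.sign key
  rw [Perm.sign_permCongr, map_mul, Perm.sign_prodCongrLeft, Perm.sign_prodCongrRight] at h
  rw [h, Finset.prod_congr rfl fun q _ => hsh (c q), Finset.prod_const_one, mul_one, Finset.prod_const,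
    Finset.card_univ, Fintype.card_prod, Fintype.card_bool, show 2 * 2 = 2 + 2 from rfl, pow_add, Int.units_sq,
    mul_one]

end CfsgLib.OvalPlane
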