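import Cfsg.Agent.Lib.OvalPlane.Klein
import Cfsg.Agent.Lib.OvalPlane.SignFree

set_option autoImplicit false
set_option linter.unusedSectionVars false
set_option linter.unusedVariables false
set_option linter.style.haveILetI false

/-!
Homologies in planes of order `1` modulo `4`: commuting homologies and their common centralisers.
-/

namespace CfsgLib.OvalPlane

open CfsgLib.TTP

universe u v w

variable {P : Type u} {L : Type v} {π : Pl P L} {G : Type w} [Group G] [Finite P] [Finite L]
variable {A : Act π G}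

/-- The standing hypotheses for planes of order `1` modulo `4`. -/
structure Mod1 (O : Oval A) : Prop where
  perfect : commutator G = ⊤
  mod : π.n % 4 = 1

/-- The points of the oval fixed by an element. -/
def Oval.fixO (O : Oval A) (g : G) : Set P := {x | x ∈ O.pts ∧ A.p g x = x}

theorem Oval.map_fixO (O : Oval A) (g k : G) {x : P} :
    A.p k x ∈ O.fixO (k * g * k⁻¹) ↔ x ∈ O.fixO g := by
  show _ ∧ _ ↔ _ ∧ _
  rw [O.mem_iff, A.p_mul, A.p_mul, A.p_inv_apply, (A.p k).injective.eq_iff]

theorem Oval.map_fixO_of_comm (O : Oval A) {g k : G} (h : k * g = g * k) {x : P} :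
    A.p k x ∈ O.fixO g ↔ x ∈ O.fixO g := by
  have e : k * g * k⁻¹ = g := by rw [h, mul_inv_cancel_right]
  conv_lhs => rw [← e]
  exact O.map_fixO g k

variable {O : Oval A}

namespace Mod1

variable (M : Mod1 O)
include M

theorem fix_pair {u : G} (hu : IsHom A u) :
    ∃ x y, x ≠ y ∧ x ∈ O.pts ∧ y ∈ O.pts ∧ O.fixO u = {x, y} := by
  obtain ⟨c, a, h⟩ := hu
  obtain ⟨x, y, hxy, hx, hy, e⟩ := (O.hom_fix M.perfect h).2 M.mod
  exact ⟨x, y, hxy, hx, hy, (h.fix_eq_cont O).trans e⟩

theorem ncard_fixO {u : G} (hu : IsHom A u) : (O.fixO u).ncard = 2 := by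
  obtain ⟨x, y, hxy, -, -, e⟩ := M.fix_pair hu
  rw [e, Set.ncard_pair hxy]

theorem eq_of_fixO {u v : G} (hu : IsHom A u) (hv : IsHom A v) (h : O.fixO u = O.fixO v) : u = v := by
  obtain ⟨c, a, Hu⟩ := hu
  obtain ⟨c', a', Hv⟩ := hv
  obtain ⟨x, y, hxy, hx, hy, e⟩ := (O.hom_fix M.perfect Hu).2 M.mod
  have h' : O.cont c = O.cont c' :=
    (Hu.fix_eq_cont O).symm.trans (h.trans (Hv.fix_eq_cont O))
  have hc : O.pole x y = c := O.pole_eq hx hy hxy
    (show x ∈ O.cont c by rw [e]; exact Or.inl rfl).2 (show y ∈ O.cont c by rw [e]; exact Or.inr rfl).2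
  have hc' : O.pole x y = c' := O.pole_eq hx hy hxy
    (show x ∈ O.cont c' by rw [← h', e]; exact Or.inl rfl).2 (show y ∈ O.cont c' by rw [← h', e]; exact Or.inr rfl).2
  exact Hu.eq_of_centre O ((hc'.symm.trans hc) ▸ Hv)

theorem other_fixed {u g : G} (hu : IsHom A u) (hc : g * u = u * g) {x : P} (hx : x ∈ O.fixO u)
    (hgx : A.p g x = x) : ∀ y ∈ O.fixO u, A.p g y = y := by
  intro y hy
  obtain ⟨p, q, hpq, -, -, e⟩ := M.fix_pair hu
  have hgy : A.p g y ∈ O.fixO u := (O.map_fixO_of_comm hc).mpr hy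
  by_cases hyx : y = x
  · rw [hyx, hgx]
  have hxy : O.fixO u = {x, y} := by
    refine (Set.eq_of_subset_of_ncard_le (Set.insert_subset hx (Set.singleton_subset_iff.mpr hy)) ?_).symm
    rw [M.ncard_fixO hu, Set.ncard_pair (Ne.symm hyx)]
  rw [hxy] at hgy
  rcases hgy with h | h
  · exact absurd ((A.p g).injective (h.trans hgx.symm)) hyx
  · exact h

/-- Commuting homologies have disjoint pairs. -/
theorem disjoint_fixO {u v : G} (hu : IsHom A u) (hv : IsHom A v) (hne : u ≠ v) (hc : u * v = v * u) {x : P}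
    (hx : x ∈ O.fixO u) : x ∉ O.fixO v := fun hx' => hne (M.eq_of_fixO hu hv (by
  refine Set.eq_of_subset_of_ncard_le (fun y hy => ⟨hy.1, M.other_fixed hu hc.symm hx hx'.2 y hy⟩) ?_
  rw [M.ncard_fixO hu, M.ncard_fixO hv]))

theorem exists_fix {u : G} (hu : u * u = 1) (hu1 : u ≠ 1) : ∃ x ∈ O.pts, A.p u x = x := by
  rcases hom_or_baer O hu hu1 with h | h
  · obtain ⟨x, y, -, hx, -, e⟩ := M.fix_pair h
    exact ⟨x, hx, (show x ∈ O.fixO u by rw [e]; exact Or.inl rfl).2⟩
  · exact h.exists_fix O M.perfect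

/-- Every four-group contains a homology. -/
theorem klein_hom {s t : G} (hs : s * s = 1) (hs1 : s ≠ 1) (ht : t * t = 1) (ht1 : t ≠ 1) (hne : s ≠ t)
    (hc : s * t = t * s) : IsHom A s ∨ IsHom A t ∨ IsHom A (s * t) := by
  have hp : s * t * (s * t) = 1 := by rw [mul_assoc, ← mul_assoc t s t, ← hc, mul_assoc s t t, ht, mul_one, hs]
  have hp1 : s * t ≠ 1 := fun e => hne (by rw [eq_inv_of_mul_eq_one_left e, inv_eq_self ht])
  by_contra! h
  exact no_baer_klein O ((hom_or_baer O hs hs1).resolve_left h.1) ((hom_or_baer O ht ht1).resolve_left h.2.1)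
    ((hom_or_baer O hp hp1).resolve_left h.2.2) hc hne (M.exists_fix hs hs1) (M.exists_fix ht ht1)
    (M.exists_fix hp hp1)

/-- The product of two commuting homologies is a homology. -/
theorem prod_hom {u v : G} (hu : IsHom A u) (hv : IsHom A v) (hne : u ≠ v) (hc : u * v = v * u) :
    IsHom A (u * v) := by
  classical
  obtain ⟨cu, au, Hu⟩ := hu
  obtain ⟨cv, av, Hv⟩ := hv
  have hp : u * v * (u * v) = 1 := by
    rw [mul_assoc, ← mul_assoc v u v, ← hc, mul_assoc u v v, Hv.sq, mul_one, Hu.sq]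
  have hp1 : u * v ≠ 1 := fun e => hne (by rw [eq_inv_of_mul_eq_one_left e, inv_eq_self Hv.sq])
  refine (hom_or_baer O hp hp1).resolve_right fun hb => ?_
  set t := u * v with ht
  have hct : t * u = u * t := by rw [ht, mul_assoc, ← hc]
  have hfix : ∀ x, A.p t x = x → A.p u x = x → A.p v x = x := fun x h1 h2 => by
    rw [ht, A.p_mul] at h1
    exact (A.p u).injective (h1.trans h2.symm)
  set E := {x | A.p t x = x ∧ A.p u x = x}
  have haxes : au ≠ av := fun e => hne (Hu.eq_of_axis O (e ▸ Hv))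
  have hE : E ⊆ {cu, cv, π.meet au av} := by
    rintro x ⟨h1, h2⟩
    rcases Hu.fix_cases h2 with e | e
    · exact Or.inl e
    rcases Hv.fix_cases (hfix x h1 h2) with e' | e'
    · exact Or.inr (Or.inl e')
    · exact Or.inr (Or.inr (π.meet_eq haxes e e').symm)
  obtain ⟨S, hS, hSc, hb2⟩ := pairs_bound O hct Hu.sq (E := E) fun x h1 h2 => ⟨h1, h2⟩
  have hS1 : S ⊆ {π.meet au av} := by
    intro p hp
    obtain ⟨y, hy, hty, huy⟩ := hSc p hp
    rcases hE (hS hp).1 with rfl | rfl | h
    · exact absurd ((Hu.fix_iff O hy.1).mpr hy.2) huy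
    · have hvy : A.p v y = y := (Hv.fix_iff O hy.1).mpr hy.2
      refine absurd ?_ huy
      rw [ht, A.p_mul, hvy] at hty
      exact hty
    · exact h
  obtain ⟨x, hx, hxt⟩ := hb.exists_fix O M.perfect
  have hall : {y | y ∈ O.pts ∧ A.p t y = y ∧ A.p u y ≠ y} = {y | y ∈ O.pts ∧ A.p t y = y} := by
    ext y
    refine ⟨fun h => ⟨h.1, h.2.1⟩, fun h => ⟨h.1, h.2, fun huy => ?_⟩⟩
    exact M.disjoint_fixO ⟨_, _, Hu⟩ ⟨_, _, Hv⟩ hne hc (x := y) ⟨h.1, huy⟩ ⟨h.1, hfix y h.2 huy⟩
  rw [hall, hb.card_oval O hx hxt] at hb2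
  have h1 := Set.ncard_le_ncard hS1
  rw [Set.ncard_singleton] at h1
  have := hb.plane.one_lt_n
  omega

end Mod1

/-- Two commuting homologies. -/
structure Four (A : Act π G) (h u : G) : Prop where
  hh : IsHom A h
  hu : IsHom A u
  ne : h ≠ u
  comm : h * u = u * h

namespace Four

variable {h u : G}

theorem symm (F : Four A h u) : Four A u h := ⟨F.hu, F.hh, F.ne.symm, F.comm.symm⟩

theorem ne_left (F : Four A h u) : h * u ≠ h := fun e => F.hu.ne (mul_left_cancel (e.trans (mul_one h).symm))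

theorem ne_right (F : Four A h u) : h * u ≠ u := fun e => F.hh.ne (mul_right_cancel (e.trans (one_mul u).symm))

theorem comm_left (F : Four A h u) : h * (h * u) = h * u * h := by rw [mul_assoc h u h, ← F.comm]

theorem comm_right (F : Four A h u) : u * (h * u) = h * u * u := by rw [← mul_assoc u h u, ← F.comm]

/-- The six fixed points of a four-group. -/
def six (O : Oval A) (_ : Four A h u) : Set P := O.fixO h ∪ O.fixO u ∪ O.fixO (h * u)

theorem six_subset (F : Four A h u) : F.six O ⊆ O.pts := by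
  rintro x ((hx | hx) | hx) <;> exact hx.1

/-- The common centraliser fixing the six points. -/
def Dv (O : Oval A) (F : Four A h u) : Subgroup G :=
  Subgroup.centralizer {h} ⊓ Subgroup.centralizer {u} ⊓ ⨅ x : F.six O, A.stP x

theorem mem_Dv (F : Four A h u) {y : G} :
    y ∈ F.Dv O ↔ y * h = h * y ∧ y * u = u * y ∧ ∀ x ∈ F.six O, A.p y x = x := by
  simp only [Dv, Subgroup.mem_inf, Subgroup.mem_centralizer_singleton_iff, Subgroup.mem_iInf, Act.mem_stP,
    Subtype.forall, and_assoc]

theorem comm_Dv (F : Four A h u) {y : G} (hy : y ∈ F.Dv O) : y * (h * u) = h * u * y := by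
  obtain ⟨h1, h2, -⟩ := F.mem_Dv.mp hy
  rw [← mul_assoc, h1, mul_assoc, h2, ← mul_assoc]

variable (M : Mod1 O)
include M

theorem hom_prod (F : Four A h u) : IsHom A (h * u) := M.prod_hom F.hh F.hu F.ne F.comm

theorem four_le_six (F : Four A h u) : 4 ≤ (F.six O).ncard := by
  have hd : Disjoint (O.fixO h) (O.fixO u) :=
    Set.disjoint_left.mpr fun x hx => M.disjoint_fixO F.hh F.hu F.ne F.comm hx
  refine le_trans ?_ (Set.ncard_le_ncard (s := O.fixO h ∪ O.fixO u) Set.subset_union_left)
  rw [Set.ncard_union_eq hd, M.ncard_fixO F.hh, M.ncard_fixO F.hu]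

theorem quad_six (F : Four A h u) {S : Set P} (hS : F.six O ⊆ S) : π.Quad S :=
  O.quad_of_card ((F.four_le_six M).trans (Set.ncard_le_ncard fun x hx => ⟨F.six_subset hx, hS hx⟩))

/-- Elements moving exactly one of the three pairs are odd permutations. -/
theorem no_single {a b y : G} (F : Four A a b) (ha : y * a = a * y) (hb : y * b = b * y)
    (h1 : ∃ x ∈ O.fixO a, A.p y x ≠ x) (h2 : ∀ x ∈ O.fixO b, A.p y x = x)
    (h3 : ∀ x ∈ O.fixO (a * b), A.p y x = x) : False := by
  classical
  haveI := Fintype.ofFinite ↥O.pts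
  obtain ⟨x, hx, hyx⟩ := h1
  set x' := A.p y x with hx'
  have hx'a : x' ∈ O.fixO a := (O.map_fixO_of_comm ha).mpr hx
  have hpair : O.fixO a = {x, x'} := (Set.eq_of_subset_of_ncard_le
    (Set.insert_subset hx (Set.singleton_subset_iff.mpr hx'a))
    (by rw [M.ncard_fixO F.hh, Set.ncard_pair (Ne.symm hyx)])).symm
  have hx'x : A.p y x' = x := by
    have h := (O.map_fixO_of_comm ha).mpr hx'a
    rw [hpair] at h
    rcases h with h | h
    · exact h
    · exact absurd ((A.p y).injective (h.trans hx')) hyx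
  have hab : y * (a * b) = a * b * y := by rw [← mul_assoc, ha, mul_assoc, hb, ← mul_assoc]
  set X : ↥O.pts := ⟨x, hx.1⟩
  set X' : ↥O.pts := ⟨x', hx'a.1⟩
  set τ := O.perm y * Equiv.swap X X' with hτ
  have hτ6 : ∀ z : ↥O.pts, (z : P) ∈ F.six O → τ z = z := by
    intro z hz
    rw [hτ, Equiv.Perm.mul_apply]
    rcases hz with (hz | hz) | hz
    · rw [hpair] at hz
      rcases hz with hz | hz
      · rw [show z = X from Subtype.ext hz, Equiv.swap_apply_left]
        exact Subtype.ext hx'x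
      · rw [show z = X' from Subtype.ext hz, Equiv.swap_apply_right]
        exact Subtype.ext rfl
    all_goals
      have hne : z ≠ X ∧ z ≠ X' := by
        constructor <;> intro e <;> rw [e] at hz <;>
          first
            | exact M.disjoint_fixO F.hh F.hu F.ne F.comm hx hz
            | exact M.disjoint_fixO F.hh F.hu F.ne F.comm hx'a hz
            | exact M.disjoint_fixO F.hh (F.hom_prod M) F.ne_left.symm F.comm_left hx hz
            | exact M.disjoint_fixO F.hh (F.hom_prod M) F.ne_left.symm F.comm_left hx'a hz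
      rw [Equiv.swap_apply_of_ne_of_ne hne.1 hne.2]
      refine Subtype.ext ?_
      first
        | exact h2 _ hz
        | exact h3 _ hz
  let p : ↥O.pts → Prop := fun z => (z : P) ∉ F.six O
  have hperm6 : ∀ {g : G}, g * a = a * g → g * b = b * g → ∀ z : P, A.p g z ∈ F.six O ↔ z ∈ F.six O := by
    intro g hga hgb z
    have hgab : g * (a * b) = a * b * g := by rw [← mul_assoc, hga, mul_assoc, hgb, ← mul_assoc]
    simp only [Four.six, Set.mem_union, O.map_fixO_of_comm hga, O.map_fixO_of_comm hgb, O.map_fixO_of_comm hgab]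
  have hτout : ∀ z : ↥O.pts, (z : P) ∉ F.six O → τ z = O.perm y z := by
    intro z hz
    rw [hτ, Equiv.Perm.mul_apply, Equiv.swap_apply_of_ne_of_ne]
    · intro e; exact hz (Or.inl (Or.inl (by rw [e]; exact hx)))
    · intro e; exact hz (Or.inl (Or.inl (by rw [e]; exact hx'a)))
  have h₁ : ∀ z, p (τ z) ↔ p z := by
    intro z
    by_cases hz : (z : P) ∈ F.six O
    · rw [hτ6 z hz]
    · rw [hτout z hz]
      exact not_congr (hperm6 ha hb z)
  have h₂ : ∀ z, τ z ≠ z → p z := fun z hne hz => hne (hτ6 z hz)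
  have hga : ∀ z, p (O.perm a z) ↔ p z := fun z => not_congr (hperm6 rfl F.comm z)
  have hgb : ∀ z, p (O.perm b z) ↔ p z := fun z => not_congr (hperm6 F.comm.symm rfl z)
  set τ' := τ.subtypePerm h₁
  set a' := (O.perm a).subtypePerm hga
  set b' := (O.perm b).subtypePerm hgb
  have key : Equiv.Perm.sign τ' = 1 := by
    refine sign_eq_one_of_commute_klein a' b' τ' ?_ ?_ ?_ ?_ ?_ ?_ ?_ ?_
    · exact Equiv.ext fun z => Subtype.ext (Subtype.ext (by
        show A.p a (A.p a _) = _
        rw [← A.p_mul, F.hh.sq, map_one]; rfl))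
    · exact Equiv.ext fun z => Subtype.ext (Subtype.ext (by
        show A.p b (A.p b _) = _
        rw [← A.p_mul, F.hu.sq, map_one]; rfl))
    · exact Equiv.ext fun z => Subtype.ext (Subtype.ext (by
        show A.p a (A.p b _) = A.p b (A.p a _)
        rw [← A.p_mul, ← A.p_mul, F.comm]))
    · exact fun z e => z.2 (Or.inl (Or.inl ⟨z.1.2, congrArg (fun w => ((w : {w // p w}).1 : P)) e⟩))
    · exact fun z e => z.2 (Or.inl (Or.inr ⟨z.1.2, congrArg (fun w => ((w : {w // p w}).1 : P)) e⟩))
    · exact fun z e => z.2 (Or.inr ⟨z.1.2, by rw [A.p_mul]; exact congrArg (fun w => ((w : {w // p w}).1 : P)) e⟩)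
    · refine Equiv.ext fun z => Subtype.ext ?_
      show τ (O.perm a z.1) = O.perm a (τ z.1)
      rw [hτout _ z.2, hτout _ ((hga _).mpr z.2), ← Equiv.Perm.mul_apply, ← map_mul, ha, map_mul]
      rfl
    · refine Equiv.ext fun z => Subtype.ext ?_
      show τ (O.perm b z.1) = O.perm b (τ z.1)
      rw [hτout _ z.2, hτout _ ((hgb _).mpr z.2), ← Equiv.Perm.mul_apply, ← map_mul, hb, map_mul]
      rfl
  rw [Equiv.Perm.sign_subtypePerm τ h₁ h₂, hτ, map_mul, O.sign_perm M.perfect,
    Equiv.Perm.sign_swap (fun e => hyx (congrArg Subtype.val e).symm)] at key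
  exact absurd key (by decide)

/-- The common centraliser is the four-group times the elements fixing the six points. -/
theorem exists_fix_six (F : Four A h u) {y : G} (hh : y * h = h * y) (hu : y * u = u * y) :
    ∃ v, (v = 1 ∨ v = h ∨ v = u ∨ v = h * u) ∧ y * v ∈ F.Dv O := by
  classical
  have hFhv : Four A h (h * u) := ⟨F.hh, F.hom_prod M, F.ne_left.symm, F.comm_left⟩
  have hFuv : Four A u (h * u) := ⟨F.hu, F.hom_prod M, F.ne_right.symm, F.comm_right⟩
  have hhu : h * (h * u) = u := by rw [← mul_assoc, F.hh.sq, one_mul]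
  have huu : u * (h * u) = h := by rw [← mul_assoc, ← F.comm, mul_assoc, F.hu.sq, mul_one]
  have hyv : y * (h * u) = h * u * y := by rw [← mul_assoc, hh, mul_assoc, hu, ← mul_assoc]
  -- every element of the four-group fixes its pair and moves the other pairs
  have fixd : ∀ {w g : G}, IsHom A w → y * w = w * y → g * w = w * g →
      (∀ x ∈ O.fixO w, A.p g x ≠ x) → (∃ x ∈ O.fixO w, A.p y x ≠ x) → ∀ x ∈ O.fixO w, A.p (y * g) x = x := by
    intro w g hw hyw hgw hg hy x hx
    rw [A.p_mul]
    obtain ⟨x₀, hx₀, hy₀⟩ := hy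
    have hgx : A.p g x ∈ O.fixO w := (O.map_fixO_of_comm hgw).mpr hx
    have hnot : ∀ z ∈ O.fixO w, A.p y z ≠ z := fun z hz e => hy₀ (M.other_fixed hw hyw hz e x₀ hx₀)
    have hpair : O.fixO w = {x, A.p g x} := (Set.eq_of_subset_of_ncard_le
      (Set.insert_subset hx (Set.singleton_subset_iff.mpr hgx))
      (by rw [M.ncard_fixO hw, Set.ncard_pair (Ne.symm (hg x hx))])).symm
    have h1 := (O.map_fixO_of_comm hyw).mpr hgx
    rw [hpair] at h1
    rcases h1 with h1 | h1
    · exact h1
    · exact absurd h1 (hnot _ hgx)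
  have keep : ∀ {w g : G}, y * w = w * y → (∀ x ∈ O.fixO w, A.p g x = x) →
      (∀ x ∈ O.fixO w, A.p y x = x) → ∀ x ∈ O.fixO w, A.p (y * g) x = x := fun hyw hg hy x hx => by
    rw [A.p_mul, hg x hx, hy x hx]
  have mv : ∀ {w g : G}, IsHom A w → IsHom A g → w ≠ g → w * g = g * w → ∀ x ∈ O.fixO w, A.p g x ≠ x :=
    fun hw hg hne hc x hx e => M.disjoint_fixO hw hg hne hc hx ⟨hx.1, e⟩
  have st : ∀ {w : G}, ∀ x ∈ O.fixO w, A.p w x = x := fun x hx => hx.2
  have mem : ∀ {v : G}, y * v * h = h * (y * v) → y * v * u = u * (y * v) →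
      (∀ x ∈ O.fixO h, A.p (y * v) x = x) → (∀ x ∈ O.fixO u, A.p (y * v) x = x) →
      (∀ x ∈ O.fixO (h * u), A.p (y * v) x = x) → y * v ∈ F.Dv O := by
    intro v e1 e2 f1 f2 f3
    refine F.mem_Dv.mpr ⟨e1, e2, ?_⟩
    rintro x ((hx | hx) | hx)
    exacts [f1 x hx, f2 x hx, f3 x hx]
  have cy : ∀ {w v : G}, y * w = w * y → v * w = w * v → y * v * w = w * (y * v) := fun h1 h2 => by
    rw [mul_assoc, h2, ← mul_assoc, h1, mul_assoc]
  by_cases p1 : ∀ x ∈ O.fixO h, A.p y x = x
  · by_cases p2 : ∀ x ∈ O.fixO u, A.p y x = x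
    · by_cases p3 : ∀ x ∈ O.fixO (h * u), A.p y x = x
      · exact ⟨1, Or.inl rfl, mem (by rw [mul_one, hh]) (by rw [mul_one, hu]) (by simpa using p1) (by simpa using p2)
          (by simpa using p3)⟩
      · push Not at p3
        exact (no_single M hFhv.symm hyv hh p3 p1 (by rw [← hFhv.comm, hhu]; exact p2)).elim
    · push Not at p2
      by_cases p3 : ∀ x ∈ O.fixO (h * u), A.p y x = x
      · exact (no_single M F.symm hu hh p2 p1 (by rw [← F.comm]; exact p3)).elim
      · push Not at p3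
        refine ⟨h, Or.inr (Or.inl rfl), mem (cy hh rfl) (cy hu F.comm) ?_ ?_ ?_⟩
        · exact keep hh st p1
        · exact fixd F.hu hu F.comm (mv F.hu F.hh F.ne.symm F.comm.symm) p2
        · exact fixd (F.hom_prod M) hyv F.comm_left (mv (F.hom_prod M) F.hh F.ne_left F.comm_left.symm) p3
  · push Not at p1
    by_cases p2 : ∀ x ∈ O.fixO u, A.p y x = x
    · by_cases p3 : ∀ x ∈ O.fixO (h * u), A.p y x = x
      · exact (no_single M F hh hu p1 p2 p3).elim
      · push Not at p3
        refine ⟨u, Or.inr (Or.inr (Or.inl rfl)), mem (cy hh F.comm.symm) (cy hu rfl) ?_ ?_ ?_⟩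
        · exact fixd F.hh hh F.comm.symm (mv F.hh F.hu F.ne F.comm) p1
        · exact keep hu st p2
        · exact fixd (F.hom_prod M) hyv F.comm_right (mv (F.hom_prod M) F.hu F.ne_right F.comm_right.symm) p3
    · push Not at p2
      by_cases p3 : ∀ x ∈ O.fixO (h * u), A.p y x = x
      · refine ⟨h * u, Or.inr (Or.inr (Or.inr rfl)), mem (cy hh F.comm_left.symm) (cy hu F.comm_right.symm) ?_ ?_ ?_⟩
        · exact fixd F.hh hh F.comm_left.symm (mv F.hh (F.hom_prod M) F.ne_left.symm F.comm_left) p1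
        · exact fixd F.hu hu F.comm_right.symm (mv F.hu (F.hom_prod M) F.ne_right.symm F.comm_right) p2
        · exact keep hyv st p3
      · push Not at p3
        -- multiplying by `h` leaves a single moved pair
        have e1 : y * h * h = h * (y * h) := cy hh rfl
        have e2 : y * h * u = u * (y * h) := cy hu F.comm
        obtain ⟨x, hx, hyx⟩ := p1
        refine (no_single M F e1 e2 ⟨x, hx, by rwa [A.p_mul, hx.2]⟩ ?_ ?_).elim
        · exact fixd F.hu hu F.comm (mv F.hu F.hh F.ne.symm F.comm.symm) p2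
        · exact fixd (F.hom_prod M) hyv F.comm_left (mv (F.hom_prod M) F.hh F.ne_left F.comm_left.symm) p3

/-- An involutory homology commuting with both homologies is one of the three. -/
theorem cent_hom (F : Four A h u) {w : G} (hw : IsHom A w) (c1 : w * h = h * w) (c2 : w * u = u * w) :
    w = h ∨ w = u ∨ w = h * u := by
  obtain ⟨v, hv, hmem⟩ := F.exists_fix_six M c1 c2
  by_contra! hne
  have hfix := (F.mem_Dv.mp hmem).2.2
  have hvc : w * v = v * w := by
    rcases hv with rfl | rfl | rfl | rfl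
    · simp
    · exact c1
    · exact c2
    · rw [← mul_assoc, c1, mul_assoc, c2, ← mul_assoc]
  have hv' : v = 1 ∨ IsHom A v ∧ w ≠ v := by
    rcases hv with rfl | rfl | rfl | rfl
    exacts [Or.inl rfl, Or.inr ⟨F.hh, hne.1⟩, Or.inr ⟨F.hu, hne.2.1⟩, Or.inr ⟨F.hom_prod M, hne.2.2⟩]
  have hhom : IsHom A (w * v) := by
    rcases hv' with rfl | ⟨h1, h2⟩
    · rwa [mul_one]
    · exact M.prod_hom hw h1 h2 hvc
  exact hhom.not_baer ⟨hhom.sq, hhom.ne, F.quad_six M hfix⟩

/-- A homology normalising the four-group centralises its partner. -/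
theorem centralize_Dv (F : Four A h u) {w : G} (hw : IsHom A w)
    (h1 : w * h * w = h ∨ w * h * w = u ∨ w * h * w = h * u)
    (h2 : w * u * w = h ∨ w * u * w = u ∨ w * u * w = h * u) : ∀ y ∈ F.Dv O, y * w = w * y := by
  obtain ⟨c, a, Hw⟩ := hw
  have hh2 := F.hh.sq
  have hu2 := F.hu.sq
  have hprod : w * (h * u) * w = h ∨ w * (h * u) * w = u ∨ w * (h * u) * w = h * u := by
    have e : w * (h * u) * w = w * h * w * (w * u * w) := by
      calc w * (h * u) * w = w * h * (w * w) * u * w := by rw [Hw.sq]; group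
        _ = _ := by group
    have hne : w * h * w ≠ w * u * w := fun e' => F.ne (mul_left_cancel (mul_right_cancel e'))
    rw [e]
    rcases h1 with a1 | a1 | a1 <;> rcases h2 with a2 | a2 | a2 <;> rw [a1, a2] at hne ⊢ <;>
      first
        | exact absurd rfl hne
        | exact Or.inr (Or.inr rfl)
        | exact Or.inr (Or.inr F.comm.symm)
        | exact Or.inl (by rw [← mul_assoc, ← F.comm, mul_assoc, hu2, mul_one])
        | exact Or.inl (by rw [mul_assoc, hu2, mul_one])
        | exact Or.inr (Or.inl (by rw [← mul_assoc, hh2, one_mul]))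
        | exact Or.inr (Or.inl (by rw [F.comm, mul_assoc, hh2, mul_one]))
  have hsix : ∀ x, A.p w x ∈ F.six O ↔ x ∈ F.six O := by
    have key : ∀ x ∈ F.six O, A.p w x ∈ F.six O := by
      intro x hx
      have hm : ∀ {g : G}, x ∈ O.fixO g → (w * g * w = h ∨ w * g * w = u ∨ w * g * w = h * u) → A.p w x ∈ F.six O := by
        intro g hg hcase
        have hx' := (O.map_fixO g w).mpr hg
        rw [inv_eq_self Hw.sq] at hx'
        rcases hcase with e | e | e <;> rw [e] at hx'
        exacts [Or.inl (Or.inl hx'), Or.inl (Or.inr hx'), Or.inr hx']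
      rcases hx with (hx | hx) | hx
      exacts [hm hx h1, hm hx h2, hm hx hprod]
    intro x
    refine ⟨fun hx => ?_, key x⟩
    have := key _ hx
    rwa [← A.p_mul, Hw.sq, map_one] at this
  have hconj : ∀ y ∈ F.Dv O, w * y * w ∈ F.Dv O := by
    intro y hy
    obtain ⟨y1, y2, y3⟩ := F.mem_Dv.mp hy
    have hc : ∀ {g : G}, (w * g * w = h ∨ w * g * w = u ∨ w * g * w = h * u) → w * y * w * g = g * (w * y * w) := by
      intro g hcase
      have hyg : y * (w * g * w) = w * g * w * y := by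
        rcases hcase with e | e | e <;> rw [e]
        exacts [y1, y2, F.comm_Dv hy]
      calc w * y * w * g = w * (y * (w * g * w)) * w * (1 : G) := by
            rw [mul_one]
            calc w * y * w * g = w * y * w * g * (w * w) := by rw [Hw.sq, mul_one]
              _ = _ := by group
        _ = w * (w * g * w * y) * w := by rw [hyg, mul_one]
        _ = (w * w) * g * (w * y * w) := by group
        _ = g * (w * y * w) := by rw [Hw.sq, one_mul]
    refine F.mem_Dv.mpr ⟨hc h1, hc h2, fun x hx => ?_⟩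
    rw [A.p_mul, A.p_mul, y3 _ ((hsix x).mpr hx), ← A.p_mul, Hw.sq, map_one]
    rfl
  have hn : w ∈ Subgroup.normalizer (F.Dv O : Set G) := by
    refine Subgroup.mem_normalizer_iff.mpr fun y => ?_
    rw [inv_eq_self Hw.sq]
    refine ⟨hconj y, fun hy => ?_⟩
    have := hconj _ hy
    rwa [show w * (w * y * w) * w = w * w * y * (w * w) by group, Hw.sq, one_mul, mul_one] at this
  exact O.centralize Hw hn (F.quad_six M fun x hx g hg => (F.mem_Dv.mp hg).2.2 x hx)

/-- The 2-subgroups fixing the six points are cyclic. -/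
theorem isCyclic_Dv (F : Four A h u) {R : Subgroup G} (hR : IsPGroup 2 R) (hle : R ≤ F.Dv O) : IsCyclic R :=
  isCyclic_of_fix O hR F.six_subset (F.four_le_six M) fun g hg x hx => (F.mem_Dv.mp (hle hg)).2.2 x hx

end Four

/-- An element of order four squaring to a homology commutes with no other homology. -/
theorem Mod1.order_four (M : Mod1 O) {s w : G} (hs : IsHom A (s * s)) (hw : IsHom A w) (hc : s * w = w * s) :
    w = s * s := by
  by_contra hne
  obtain ⟨x, y, hxy, hx, hy, e⟩ := M.fix_pair hw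
  have hcomm : w * (s * s) = s * s * w := by rw [← mul_assoc, ← hc, mul_assoc, ← hc, ← mul_assoc]
  have hxw : x ∈ O.fixO w := by rw [e]; exact Or.inl rfl
  refine M.disjoint_fixO hw hs hne hcomm hxw ⟨hx, ?_⟩
  have h1 := (O.map_fixO_of_comm hc).mpr hxw
  rw [A.p_mul]
  by_cases h : A.p s x = x
  · rw [h, h]
  have hsx : O.fixO w = {x, A.p s x} := (Set.eq_of_subset_of_ncard_le
    (Set.insert_subset hxw (Set.singleton_subset_iff.mpr h1))
    (by rw [M.ncard_fixO hw, Set.ncard_pair (Ne.symm h)])).symm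
  have h2 := (O.map_fixO_of_comm hc).mpr h1
  rw [hsx] at h2
  rcases h2 with h2 | h2
  · exact h2
  · exact absurd ((A.p s).injective h2) h

end CfsgLib.OvalPlane
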