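import Cfsg.Agent.Lib.OvalPlane.Setup
import Mathlib.GroupTheory.Nilpotent
import Mathlib.RingTheory.Coprime.Lemmas

set_option autoImplicit false
set_option linter.unusedSectionVars false
set_option linter.unusedVariables false
set_option linter.style.haveILetI false

/-!
The homologies of a Sylow 2-subgroup other than the central one are the reflections of a normal
dihedral subgroup.
-/

namespace CfsgLib.OvalPlane

open CfsgLib.TTP

universe u v w

variable {P : Type u} {L : Type v} {π : Pl P L} {G : Type w} [Group G] [Finite P] [Finite L]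
variable {A : Act π G} {O : Oval A} {M : Mod1 O} {S : Sylow 2 G} {h : G}

/-- A homology of the Sylow subgroup other than the central one. -/
def Setup.Other (hs : Setup M S h) (u : G) : Prop := u ∈ (S : Subgroup G) ∧ IsHom A u ∧ u ≠ h

/-- The shape of the other homologies. -/
structure Refl (hs : Setup M S h) (u z : G) : Prop where
  base : hs.Other u
  memz : z ∈ (S : Subgroup G)
  inv : u * z * u = z⁻¹
  refl : ∀ i : ℤ, hs.Other (z ^ i * u)
  shape : ∀ w, hs.Other w → ∃ i : ℤ, w = z ^ i * u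
  hmem : h ∈ Subgroup.zpowers z

namespace Setup

variable (hs : Setup M S h)
include hs

theorem four {u : G} (hu : hs.Other u) : Four A h u :=
  ⟨hs.hom, hu.2.1, fun e => hu.2.2 e.symm, (hs.central u hu.1).symm⟩

theorem fixes_or_moves {g : G} (hg : g ∈ (S : Subgroup G)) :
    (∀ x ∈ O.fixO h, A.p g x = x) ∨ ∀ x ∈ O.fixO h, A.p g x ≠ x := by
  by_contra! hc
  obtain ⟨⟨x, hx, hgx⟩, y, hy, hgy⟩ := hc
  exact hgx (M.other_fixed hs.hom (hs.central g hg) hy hgy x hx)

theorem other_moves {u : G} (hu : hs.Other u) : ∀ x ∈ O.fixO h, A.p u x ≠ x := fun x hx e =>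
  M.disjoint_fixO hs.hom hu.2.1 (Ne.symm hu.2.2) (hs.central u hu.1).symm hx ⟨hx.1, e⟩

theorem mul_fixes {g k : G} (hg : g ∈ (S : Subgroup G)) (hk : k ∈ (S : Subgroup G))
    (hgm : ∀ x ∈ O.fixO h, A.p g x ≠ x) (hkm : ∀ x ∈ O.fixO h, A.p k x ≠ x) :
    ∀ x ∈ O.fixO h, A.p (g * k) x = x := by
  intro x hx
  rw [A.p_mul]
  have hk' : A.p k x ∈ O.fixO h := (O.map_fixO_of_comm (hs.central k hk)).mpr hx
  have hg' := (O.map_fixO_of_comm (hs.central g hg)).mpr hk'
  have hpair : O.fixO h = {x, A.p k x} := (Set.eq_of_subset_of_ncard_le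
    (Set.insert_subset hx (Set.singleton_subset_iff.mpr hk'))
    (by rw [M.ncard_fixO hs.hom, Set.ncard_pair (Ne.symm (hkm x hx))])).symm
  rw [hpair] at hg'
  rcases hg' with e | e
  · exact e
  · exact absurd e (hgm _ hk')

theorem hom_fix_eq {k : G} (hk : k ∈ (S : Subgroup G)) (hh : IsHom A k) (hfix : ∀ x ∈ O.fixO h, A.p k x = x) :
    k = h := by
  by_contra hne
  obtain ⟨x, hx⟩ := (Set.ncard_pos).mp (show 0 < (O.fixO h).ncard by rw [M.ncard_fixO hs.hom]; norm_num)
  exact hs.other_moves ⟨hk, hh, hne⟩ x hx (hfix x hx)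

theorem other_conj {u g : G} (hu : hs.Other u) (hg : g ∈ (S : Subgroup G)) : hs.Other (g * u * g⁻¹) :=
  ⟨mul_mem (mul_mem hg hu.1) (inv_mem hg), hu.2.1.map g, fun e => hu.2.2 (by
    calc u = g⁻¹ * (g * u * g⁻¹) * g := by group
      _ = g⁻¹ * h * g := by rw [e]
      _ = h := by rw [hs.central g⁻¹ (inv_mem hg), inv_mul_cancel_right])⟩

theorem other_mul {u : G} (hu : hs.Other u) : hs.Other (h * u) :=
  ⟨mul_mem hs.mem hu.1, (hs.four hu).hom_prod M, (hs.four hu).ne_left⟩

/-- The reflection subgroup of two homologies generated with the first one. -/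
theorem inv_zpow' {u v : G} (hu : hs.Other u) (hv : hs.Other v) (i : ℤ) :
    u * (u * v) ^ i * u = (u * v) ^ (-i) := by
  have h1 : u * (u * v) * u⁻¹ = (u * v)⁻¹ := by
    rw [mul_inv_rev, inv_eq_self hu.2.1.sq, inv_eq_self hv.2.1.sq, ← mul_assoc u u v, hu.2.1.sq, one_mul]
  have h2 := _root_.conj_zpow (a := u) (b := u * v) (i := i)
  rw [h1, inv_zpow, inv_eq_self hu.2.1.sq] at h2
  rw [← h2, zpow_neg]

/-- Every element `(uv)^i u` is a homology other than the central one. -/
theorem other_refl {u v : G} (hu : hs.Other u) (hv : hs.Other v) (i : ℤ) : hs.Other ((u * v) ^ i * u) := by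
  set z := u * v with hz
  have hzS : ∀ j : ℤ, z ^ j ∈ (S : Subgroup G) := fun j => zpow_mem (mul_mem hu.1 hv.1) j
  have key : ∀ j : ℤ, z ^ j * u * (z ^ j)⁻¹ = z ^ (2 * j) * u := by
    intro j
    have h2 : u * z ^ (-j) = z ^ j * u := by
      have h := hs.inv_zpow' hu hv j
      rw [← hz] at h
      rw [← h, ← mul_assoc, ← mul_assoc, hu.2.1.sq, one_mul]
    rw [← zpow_neg, mul_assoc, h2, ← mul_assoc, ← zpow_add, two_mul]
  obtain ⟨j, rfl | rfl⟩ := Int.even_or_odd' i
  · rw [← key]; exact hs.other_conj hu (hzS j)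
  · have h1 : hs.Other (u * v * u⁻¹) := hs.other_conj hv hu.1
    have h2 := hs.other_conj h1 (hzS j)
    have e : z ^ j * (u * v * u⁻¹) * (z ^ j)⁻¹ = z ^ (2 * j + 1) * u := by
      rw [inv_eq_self hu.2.1.sq, ← hz]
      calc z ^ j * (z * u) * (z ^ j)⁻¹ = z ^ j * z * (z ^ j)⁻¹ * (z ^ j * u * (z ^ j)⁻¹) := by group
        _ = _ := by
          rw [key, ← zpow_add_one, ← zpow_neg, ← zpow_add, ← mul_assoc, ← zpow_add]
          congr 2; ring
    rwa [e] at h2

end Setup

/-- The other homologies are the reflections of one dihedral group. -/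
theorem Refl.exists [Finite G] [IsSimpleGroup G] (hs : Setup M S h) (hG : ¬ IsMulCommutative G) :
    ∃ u z, Refl hs u z := by
  classical
  haveI : Fact (Nat.Prime 2) := ⟨Nat.prime_two⟩
  haveI : Fintype G := Fintype.ofFinite G
  obtain ⟨u₀, hu₀, hh₀, hne₀⟩ := hs.exists_other hG
  have hne : (Finset.univ.filter fun p : G × G => hs.Other p.1 ∧ hs.Other p.2).Nonempty :=
    ⟨(u₀, u₀), Finset.mem_filter.mpr ⟨Finset.mem_univ _, ⟨hu₀, hh₀, hne₀⟩, ⟨hu₀, hh₀, hne₀⟩⟩⟩
  obtain ⟨⟨u, v⟩, huv, hmax⟩ := Finset.exists_max_image _ (fun p : G × G => orderOf (p.1 * p.2)) hne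
  simp only [Finset.mem_filter, Finset.mem_univ, true_and, Prod.forall] at huv hmax
  obtain ⟨hu, hv⟩ := huv
  set z := u * v with hz
  have hzS : z ∈ (S : Subgroup G) := mul_mem hu.1 hv.1
  have hinv : ∀ i : ℤ, u * z ^ i * u = z ^ (-i) := hs.inv_zpow' hu hv
  have hrefl : ∀ i : ℤ, hs.Other (z ^ i * u) := hs.other_refl hu hv
  have hu2 := hu.2.1.sq
  have huz : ∀ i : ℤ, u * z ^ i = z ^ (-i) * u := fun i => by rw [← hinv, mul_assoc, hu2, mul_one]
  -- the order of `z`
  obtain ⟨a, ha⟩ := IsPGroup.iff_orderOf.mp S.2 ⟨z, hzS⟩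
  rw [Subgroup.orderOf_mk] at ha
  have hk2 : 2 ≤ orderOf z := by
    have := hmax u (h * u) ⟨hu, hs.other_mul hu⟩
    rw [show u * (h * u) = h by rw [← mul_assoc, ← (hs.four hu).comm, mul_assoc, hu2, mul_one],
      Act.inv_order hs.hom.sq hs.hom.ne] at this
    exact this
  obtain ⟨a, rfl⟩ : ∃ b, a = b + 1 := ⟨a - 1, by
    rcases a with _ | b
    · rw [ha] at hk2; norm_num at hk2
    · omega⟩
  -- the involution of `z` is `h`
  have hfixz : ∀ x ∈ O.fixO h, A.p z x = x := hs.mul_fixes hu.1 hv.1 (hs.other_moves hu) (hs.other_moves hv)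
  have hfixpow : ∀ i : ℤ, ∀ x ∈ O.fixO h, A.p (z ^ i) x = x := fun i x hx => by
    have : Subgroup.zpowers z ≤ A.stP x := Subgroup.zpowers_le.mpr (hfixz x hx)
    exact this (Subgroup.zpow_mem _ (Subgroup.mem_zpowers z) i)
  have hh : z ^ (2 ^ a : ℕ) = h := by
    set t := z ^ (2 ^ a : ℕ) with ht
    have ht2 : t * t = 1 := by rw [ht, ← pow_add, ← two_mul, ← pow_succ', ← ha, pow_orderOf_eq_one]
    have ht1 : t ≠ 1 := pow_ne_one_of_lt_orderOf (pow_ne_zero _ two_ne_zero)
      (by rw [ha]; exact Nat.pow_lt_pow_right (by norm_num) (by omega))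
    have h1 := (hrefl (2 ^ a : ℕ)).2.1
    rw [zpow_natCast, ← ht] at h1
    have hc : u * (t * u) = t * u * u := by
      have e := huz (2 ^ a : ℕ)
      rw [zpow_neg, zpow_natCast, ← ht, inv_eq_self ht2] at e
      rw [← mul_assoc, e]
    have hne' : u ≠ t * u := fun e => ht1 (mul_right_cancel (b := u) (by rw [one_mul]; exact e.symm))
    have h2 := M.prod_hom hu.2.1 h1 hne' hc
    rw [hc, mul_assoc, hu2, mul_one] at h2
    exact hs.hom_fix_eq (pow_mem hzS _) h2 (by
      have := hfixpow ((2 ^ a : ℕ) : ℤ)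
      rwa [zpow_natCast, ← ht] at this)
  -- the subgroup
  let X : Subgroup G :=
    { carrier := {g | g ∈ Subgroup.zpowers z ∨ g * u ∈ Subgroup.zpowers z}
      one_mem' := Or.inl (one_mem _)
      mul_mem' := by
        rintro g k (⟨i, rfl⟩ | ⟨i, hi⟩) (⟨j, rfl⟩ | ⟨j, hj⟩)
        · exact Or.inl ⟨i + j, zpow_add z i j⟩
        · refine Or.inr ⟨i + j, ?_⟩
          show z ^ (i + j) = z ^ i * k * u
          rw [zpow_add, mul_assoc]; exact congrArg _ hj
        · refine Or.inr ⟨i - j, ?_⟩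
          have hg : g = z ^ i * u := by rw [show z ^ i = g * u from hi, mul_assoc, hu2, mul_one]
          show z ^ (i - j) = g * z ^ j * u
          rw [hg, mul_assoc (z ^ i) u, huz, mul_assoc, mul_assoc, hu2, mul_one, ← zpow_add, sub_eq_add_neg]
        · refine Or.inl ⟨i - j, ?_⟩
          have hg : g = z ^ i * u := by rw [show z ^ i = g * u from hi, mul_assoc, hu2, mul_one]
          have hk : k = z ^ j * u := by rw [show z ^ j = k * u from hj, mul_assoc, hu2, mul_one]
          show z ^ (i - j) = g * k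
          rw [hg, hk, mul_assoc (z ^ i) u, ← mul_assoc u, huz, mul_assoc _ u u, hu2, mul_one, ← zpow_add,
            sub_eq_add_neg]
      inv_mem' := by
        rintro g (⟨i, rfl⟩ | ⟨i, hi⟩)
        · exact Or.inl ⟨-i, zpow_neg z i⟩
        · refine Or.inr ⟨i, ?_⟩
          have hg : g = z ^ i * u := by rw [show z ^ i = g * u from hi, mul_assoc, hu2, mul_one]
          show z ^ i = g⁻¹ * u
          rw [hg, mul_inv_rev, inv_eq_self hu2, ← zpow_neg, huz, neg_neg, mul_assoc, hu2, mul_one] }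
  have hzX : ∀ i : ℤ, z ^ i ∈ X := fun i => Or.inl ⟨i, rfl⟩
  have huX : u ∈ X := Or.inr (by rw [hu2]; exact one_mem _)
  have hvX : v ∈ X := by
    have := mul_mem huX (hzX 1)
    rwa [zpow_one, hz, ← mul_assoc, hu2, one_mul] at this
  have hXU : ∀ w, hs.Other w → w ∈ X → ∃ i : ℤ, w = z ^ i * u := by
    rintro w hw (⟨i, rfl⟩ | ⟨i, hi⟩)
    · obtain ⟨x, hx⟩ := (Set.ncard_pos).mp (show 0 < (O.fixO h).ncard by rw [M.ncard_fixO hs.hom]; norm_num)
      exact absurd (hfixpow i x hx) (hs.other_moves hw x hx)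
    · exact ⟨i, by rw [show z ^ i = w * u from hi, mul_assoc, hu2, mul_one]⟩
  suffices hall : ∀ w, hs.Other w → w ∈ X from
    ⟨u, z, ⟨hu, hzS, by simpa using hinv 1, hrefl, fun w hw => hXU w hw (hall w hw), ⟨((2 ^ a : ℕ) : ℤ), by
      show z ^ ((2 ^ a : ℕ) : ℤ) = h
      rw [zpow_natCast]; exact hh⟩⟩⟩
  by_contra! hout
  obtain ⟨w₀, hw₀, hw₀X⟩ := hout
  -- a homology outside `X` normalising it
  obtain ⟨w, hw, hwX, hwu, hwv⟩ : ∃ w, hs.Other w ∧ w ∉ X ∧ w * u * w⁻¹ ∈ X ∧ w * v * w⁻¹ ∈ X := by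
    by_contra! hno
    have hXS : X ≤ (S : Subgroup G) := by
      rintro g (⟨i, rfl⟩ | ⟨i, hi⟩)
      · exact zpow_mem hzS i
      · have hg : g = z ^ i * u := by rw [show z ^ i = g * u from hi, mul_assoc, hu2, mul_one]
        exact hg ▸ (hrefl i).1
    have hnorm : ∀ g, g * u * g⁻¹ ∈ X → g * v * g⁻¹ ∈ X → g ∈ Subgroup.normalizer (X : Set G) := by
      intro g h1 h2
      have hz' : g * z * g⁻¹ ∈ X := by
        rw [hz, show g * (u * v) * g⁻¹ = g * u * g⁻¹ * (g * v * g⁻¹) by group]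
        exact mul_mem h1 h2
      have key : ∀ k ∈ X, g * k * g⁻¹ ∈ X := by
        rintro k (⟨i, rfl⟩ | ⟨i, hi⟩)
        · show g * z ^ i * g⁻¹ ∈ X
          rw [← _root_.conj_zpow]
          exact zpow_mem hz' i
        · have hk : k = z ^ i * u := by rw [show z ^ i = k * u from hi, mul_assoc, hu2, mul_one]
          rw [hk, show g * (z ^ i * u) * g⁻¹ = g * z ^ i * g⁻¹ * (g * u * g⁻¹) by group, ← _root_.conj_zpow]
          exact mul_mem (zpow_mem hz' i) h1
      refine Subgroup.mem_normalizer_iff.mpr fun k => ⟨key k, fun hk => ?_⟩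
      have hmap : X.map (MulAut.conj g).toMonoidHom = X := by
        refine Subgroup.eq_of_le_of_card_ge ?_ (Subgroup.card_map_of_injective (MulAut.conj g).injective).ge
        rintro _ ⟨k, hk, rfl⟩
        exact key k hk
      rw [← hmap] at hk
      obtain ⟨k', hk', e⟩ := hk
      have e' : g * k' * g⁻¹ = g * k * g⁻¹ := e
      exact mul_left_cancel (mul_right_cancel e') ▸ hk'
    set N := ((Subgroup.normalizer (X : Set G)).subgroupOf (S : Subgroup G)) with hN
    have hNtop : N ≠ ⊤ := by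
      intro e
      have hw' : (⟨w₀, hw₀.1⟩ : (S : Subgroup G)) ∈ N := e ▸ Subgroup.mem_top _
      have hw'' := Subgroup.mem_normalizer_iff.mp (Subgroup.mem_subgroupOf.mp hw')
      exact hno w₀ hw₀ hw₀X ((hw'' u).mp huX) ((hw'' v).mp hvX)
    haveI : Group.IsNilpotent (S : Subgroup G) := S.2.isNilpotent
    obtain ⟨m, hm, hmN⟩ := SetLike.exists_of_lt (normalizerCondition_of_isNilpotent (G := (S : Subgroup G)) N (lt_top_iff_ne_top.mpr hNtop))
    refine hmN (show m ∈ (Subgroup.normalizer (X : Set G)).subgroupOf (S : Subgroup G) from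
      Subgroup.mem_subgroupOf.mpr (hnorm (m : G) ?_ ?_))
    all_goals
      have hmN' := Subgroup.mem_normalizer_iff.mp hm
      have step : ∀ t, hs.Other t → t ∈ X → (m : G) * t * (m : G)⁻¹ ∈ X := by
        intro t ht htX
        have htN : (⟨t, ht.1⟩ : (S : Subgroup G)) ∈ N :=
          Subgroup.mem_subgroupOf.mpr (Subgroup.le_normalizer htX)
        have h1 := Subgroup.mem_normalizer_iff.mp (Subgroup.mem_subgroupOf.mp ((hmN' _).mp htN))
        by_contra hout
        exact hno _ (hs.other_conj ht m.2) hout ((h1 u).mp huX) ((h1 v).mp hvX)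
      first
        | exact step u hu huX
        | exact step v hv hvX
  have hw2 := hw.2.1.sq
  rw [inv_eq_self hw2] at hwu hwv
  obtain ⟨c, hc⟩ : ∃ c : ℤ, w * u * w = z ^ c * u := hXU _ (by
    have := hs.other_conj hu hw.1
    rwa [inv_eq_self hw2] at this) hwu
  obtain ⟨r, hr⟩ : ∃ r : ℤ, w * z * w = z ^ r := by
    obtain ⟨d, hd⟩ : ∃ d : ℤ, w * v * w = z ^ d * u := hXU _ (by
      have := hs.other_conj hv hw.1
      rwa [inv_eq_self hw2] at this) hwv
    refine ⟨c - d, ?_⟩
    rw [hz, show w * (u * v) * w = w * u * (1 : G) * v * w by group]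
    calc w * u * (1 : G) * v * w = w * u * (w * w) * v * w := by rw [hw2]
      _ = (w * u * w) * (w * v * w) := by group
      _ = z ^ c * (u * z ^ d * u) := by rw [hc, hd]; group
      _ = _ := by rw [hinv, ← zpow_add, sub_eq_add_neg]
  have hwz : ∀ i : ℤ, w * z ^ i * w = z ^ (r * i) := fun i => by
    have h := _root_.conj_zpow (a := w) (b := z) (i := i)
    rw [inv_eq_self hw2, hr, ← zpow_mul] at h
    exact h.symm
  have hzeq : ∀ i j : ℤ, z ^ i = z ^ j ↔ (2 ^ (a + 1) : ℤ) ∣ j - i := fun i j => by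
    rw [zpow_eq_zpow_iff_modEq, ha, Int.modEq_iff_dvd]; push_cast; rfl
  have hc2 : Even c := by
    by_contra hodd
    rw [Int.not_even_iff_odd] at hodd
    have hord : orderOf (z ^ c) = orderOf z := by
      have hcop : Nat.Coprime (orderOf z) c.natAbs := by
        rw [ha]; exact Nat.Coprime.pow_left _ (Nat.coprime_two_left.mpr (Int.natAbs_odd.mpr hodd))
      rcases Int.natAbs_eq c with e | e <;> rw [e]
      · rw [zpow_natCast]; exact hcop.orderOf_pow
      · rw [zpow_neg, orderOf_inv, zpow_natCast]; exact hcop.orderOf_pow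
    have hsq : (w * u) ^ 2 = z ^ c := by
      rw [pow_two, ← mul_assoc, hc, mul_assoc, hu2, mul_one]
    have h1 := hmax w u ⟨hw, hu⟩
    have h2 : orderOf (w * u) = 2 * orderOf z := by
      have hwu : w * u ∈ (S : Subgroup G) := mul_mem hw.1 hu.1
      obtain ⟨b, hb⟩ := IsPGroup.iff_orderOf.mp S.2 ⟨w * u, hwu⟩
      rw [Subgroup.orderOf_mk] at hb
      have h3 := orderOf_pow' (w * u) (n := 2) two_ne_zero
      rw [hsq, hord, ha, hb] at h3
      rcases b with _ | b
      · rw [pow_zero] at h3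
        have h4 : 2 ≤ 2 ^ (a + 1) := Nat.le_self_pow (by omega) 2
        rw [h3] at h4
        exact absurd h4 (not_le.mpr (Nat.lt_of_le_of_lt (Nat.div_le_self _ _) (by norm_num)))
      · rw [Nat.gcd_eq_right (dvd_pow_self 2 (by omega)), pow_succ 2 b, Nat.mul_div_cancel _ two_pos] at h3
        rw [hb, ha, h3, pow_succ' 2 b]
    rw [h2] at h1
    omega
  obtain ⟨c', rfl⟩ := hc2
  -- a reflection centralised by `w`
  obtain ⟨j, hj⟩ : ∃ j : ℤ, z ^ (r * j + (c' + c')) = z ^ j := by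
    rcases Nat.eq_zero_or_pos a with rfl | ha0
    · refine ⟨0, (hzeq _ _).mpr ⟨-c', ?_⟩⟩
      ring
    -- `w` inverts the elements of order four
    have hr4 : r % 4 = 3 := by
      have hodd : r % 2 = 1 := by
        by_contra hev
        obtain ⟨q, rfl⟩ : ∃ q, r = 2 * q := ⟨r / 2, by omega⟩
        have h1 : orderOf (z ^ (2 * q)) = orderOf z := by
          rw [← hr]
          have := MulEquiv.orderOf_eq (MulAut.conj w) z
          rwa [MulAut.conj_apply, inv_eq_self hw2] at this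
        have h2 : (z ^ (2 * q)) ^ (2 ^ a) = 1 := by
          rw [← zpow_natCast, ← zpow_mul, ← zpow_zero z, hzeq]
          exact ⟨-q, by push_cast; ring⟩
        have h3 := orderOf_dvd_of_pow_eq_one h2
        rw [h1, ha, Nat.pow_dvd_pow_iff_le_right (by norm_num)] at h3
        omega
      by_contra hne
      obtain ⟨q, rfl⟩ : ∃ q, r = 4 * q + 1 := ⟨r / 4, by omega⟩
      set s := z ^ ((2 ^ (a - 1) : ℕ) : ℤ) with hsdef
      have hss : s * s = h := by
        rw [hsdef, ← zpow_add, ← hh, ← zpow_natCast z (2 ^ a)]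
        congr 1
        push_cast
        rw [← two_mul, ← pow_succ', Nat.sub_add_cancel ha0]
      have hsw : s * w = w * s := by
        have h1 : w * s * w = s := by
          rw [hsdef, hwz, hzeq]
          refine ⟨-q, ?_⟩
          have : (2 : ℤ) ^ (a + 1) = 4 * 2 ^ (a - 1) := by
            rw [show a + 1 = (a - 1) + 2 by omega, pow_add]; ring
          rw [this]; push_cast; ring
        calc s * w = w * s * w * w := by rw [h1]
          _ = w * s := by rw [mul_assoc, hw2, mul_one]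
      exact hw.2.2 ((M.order_four (hss ▸ hs.hom) hw.2.1 hsw).trans hss)
    obtain ⟨q, rfl⟩ : ∃ q, r = 4 * q + 3 := ⟨r / 4, by omega⟩
    obtain ⟨s, t, hst⟩ : IsCoprime (2 * q + 1) ((2 : ℤ) ^ a) :=
      IsCoprime.pow_right ⟨1, -q, by ring⟩
    refine ⟨-c' * s, (hzeq _ _).mpr ⟨-(c' * t), ?_⟩⟩
    have : (2 : ℤ) ^ (a + 1) = 2 * 2 ^ a := pow_succ' 2 a
    rw [this]
    linear_combination (2 * c') * hst
  have hcomm : w * (z ^ j * u) = z ^ j * u * w := by
    have e : w * (z ^ j * u) * w = z ^ j * u := by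
      calc w * (z ^ j * u) * w = w * z ^ j * (w * w) * u * w := by rw [hw2]; group
        _ = (w * z ^ j * w) * (w * u * w) := by group
        _ = z ^ (r * j + (c' + c')) * u := by rw [hwz, hc, ← mul_assoc, ← zpow_add]
        _ = _ := by rw [hj]
    calc w * (z ^ j * u) = w * (z ^ j * u) * w * w := by rw [mul_assoc _ w w, hw2, mul_one]
      _ = z ^ j * u * w := by rw [e]
  have hjX : z ^ j * u ∈ X := mul_mem (hzX j) huX
  rcases (hs.four (hrefl j)).cent_hom M hw.2.1 (hs.central w hw.1) hcomm with e | e | e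
  · exact hw.2.2 e
  · exact hwX (e ▸ hjX)
  · refine hwX (e ▸ mul_mem ?_ hjX)
    rw [← hh, ← zpow_natCast]
    exact hzX _

end CfsgLib.OvalPlane
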