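import Cfsg.Agent.Lib.SuborbitGroups.SDChar

/-!
A small principal block character makes the odd core of the centraliser of an involution central, when
that centraliser is `GL(2,3)` modulo its core and the quaternion subgroup centralises the core.
-/

set_option autoImplicit false
set_option linter.style.haveILetI false
set_option linter.unusedSectionVars false
set_option linter.unusedVariables false

namespace CfsgLib.OvalPlane.SD

open Cfsg CfsgLib.CharTheory CfsgLib.Blocks CfsgLib.Blocks.AbelianFree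
open CfsgLib.SuborbitGroups.SD (core_const column_le eight_values natCast_int_ext odd_of_mem normal_subgroupOf
  not_dvd_subgroupOf classInner_natCard Eqn small_degree)
open CfsgSimpleM11 (irr_of_isConj)
open scoped ComplexConjugate

universe w

/-- The local data around an involution whose centraliser is `GL(2,3)` modulo an odd core. -/
structure Loc (G : Type w) [Group G] (z s : G) (K Q Ds : Subgroup G) : Prop where
  hz : orderOf z = 2
  hs : orderOf s = 8
  hsz : s ^ 4 = z
  hs3 : IsConj s (s ^ 3)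
  hreal : ¬ IsConj s s⁻¹
  hKC : K ≤ Subgroup.centralizer ({z} : Set G)
  hKodd : Odd (Nat.card K)
  hKnorm : ∀ c ∈ Subgroup.centralizer ({z} : Set G), ∀ u ∈ K, c * u * c⁻¹ ∈ K
  hKidx : K.relIndex (Subgroup.centralizer ({z} : Set G)) = 48
  hKe : K ≤ Subgroup.centralizer ({s ^ 2} : Set G)
  hKeidx : K.relIndex (Subgroup.centralizer ({s ^ 2} : Set G)) = 8
  hQcard : Nat.card Q = 8
  hQK : ∀ q ∈ Q, ∀ u ∈ K, q * u = u * q
  hQ : ∀ q ∈ Q, q = 1 ∨ q = z ∨ ∃ c, c * q * c⁻¹ = s ^ 2
  hDsodd : Odd (Nat.card Ds)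
  hDsC : Ds ≤ Subgroup.centralizer ({s} : Set G)
  hDsnorm : ∀ c ∈ Subgroup.centralizer ({s} : Set G), ∀ u ∈ Ds, c * u * c⁻¹ ∈ Ds
  hDsidx : Ds.relIndex (Subgroup.centralizer ({s} : Set G)) = 8

variable {G : Type w} [Group G] [Fintype G] {z s : G} {K Q Ds : Subgroup G} {M : Ideal AlgInt}

/-- A principal block character of degree at most fifteen. -/
theorem exists_small (hM : IsPModular 2 M) (L : Loc G z s K Q Ds) :
    ∃ χ ∈ principalBlock M G, χ ≠ oneIrr G ∧ ∃ f : ℤ, (χ : G → ℂ) 1 = f ∧ f ≤ 15 := by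
  classical
  haveI : Fact (Nat.Prime 2) := ⟨Nat.prime_two⟩
  choose a b f A hfa hAa hre him hf hA using eight_values L.hs L.hs3 (G := G)
  have hf' : ∀ χ : IrrCharacter G, 0 < f χ := fun χ => by
    obtain ⟨d, hd, hd1⟩ := irr_degree_pos χ.2
    have : f χ = (d : ℤ) := natCast_int_ext ((hf χ).symm.trans (by rw [hd1]; push_cast; rfl))
    omega
  have hy : ∃ k, orderOf s = 2 ^ k := ⟨3, L.hs⟩
  haveI := normal_subgroupOf L.hDsnorm
  have hKn := not_dvd_subgroupOf L.hDsC L.hDsodd
  set B := principalBlock M G with hB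
  set R := regC 2 s with hR
  have havg : ∀ χ : IrrCharacter G, (R.card : ℂ) * (ind B χ * (χ : G → ℂ) s) = ∑ r ∈ R, (χ : G → ℂ) (s * r) := by
    intro χ
    have h := CfsgLib.Blocks.Dihedral.section_key hM hy (Ds.subgroupOf _) hKn (k := 3) L.hDsidx χ
      (one_mem_regC hM.1 s)
    rwa [mul_one] at h
  have hR0 : (R.card : ℂ) ≠ 0 := CfsgLib.Blocks.Dihedral.card_regC_ne hM.1 s
  have hbset : ∀ F : IrrCharacter G → ℂ, ∑ χ ∈ bset B, F χ = ∑ χ, ind B χ * F χ := by
    intro F
    rw [← Finset.sum_subset (Finset.subset_univ (bset B)) fun χ _ h => by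
      rw [ind_of_notMem fun h' => h (mem_bset.2 h'), zero_mul]]
    exact Finset.sum_congr rfl fun χ h => by rw [ind_of_mem (mem_bset.1 h), one_mul]
  have horth : ∀ g : G, (∀ r ∈ R, ¬ IsConj (s * r) g) →
      ∑ χ : IrrCharacter G, ind B χ * ((χ : G → ℂ) s * conj ((χ : G → ℂ) g)) = 0 := by
    intro g hg
    refine (mul_eq_zero.1 ?_).resolve_left hR0
    rw [Finset.mul_sum, Finset.sum_congr rfl fun χ _ => show (R.card : ℂ) * (ind B χ * ((χ : G → ℂ) s *
        conj ((χ : G → ℂ) g))) = ∑ r ∈ R, (χ : G → ℂ) (s * r) * conj ((χ : G → ℂ) g) by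
      rw [← Finset.sum_mul, ← havg χ]; ring, Finset.sum_comm]
    exact Finset.sum_eq_zero fun r hr => by rw [sum_irr_mul_conj, if_neg (hg r hr)]
  have hR2 : ∀ r ∈ R, Commute r s ∧ ¬ 2 ∣ orderOf r := fun r hr => mem_regC.1 hr
  have hpow : ∀ {a b : G}, IsConj a b → ∀ n : ℕ, b ^ n = 1 → a ^ n = 1 := by
    intro a b h n hn
    obtain ⟨c, hc⟩ := isConj_iff.1 h
    rw [← hc, conj_pow, conj_eq_one_iff] at hn
    exact hn
  have hns1 : ∀ r ∈ R, ¬ IsConj (s * r) 1 := fun r hr e => by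
    obtain ⟨c, hc⟩ := isConj_iff.1 e
    obtain ⟨hc1, hc2⟩ := hR2 r hr
    refine hc2 ?_
    rw [show r = s⁻¹ from eq_inv_of_mul_eq_one_right (conj_eq_one_iff.1 hc), orderOf_inv, L.hs]
    norm_num
  have hnz : ∀ r ∈ R, ¬ IsConj (s * r) z := fun r hr e => by
    obtain ⟨hc1, hc2⟩ := hR2 r hr
    have h2 := hpow e 2 (by rw [← L.hz]; exact pow_orderOf_eq_one z)
    rw [hc1.symm.mul_pow] at h2
    refine hc2 ?_
    have h3 : orderOf (r ^ 2) = orderOf (s ^ 2) := by rw [eq_inv_of_mul_eq_one_right h2, orderOf_inv]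
    have h4 : orderOf (s ^ 2) = 4 := by rw [orderOf_pow' s two_ne_zero, L.hs]; rfl
    have h5 := orderOf_pow_dvd (x := r) 2
    rw [h3, h4] at h5
    exact (by norm_num : (2 : ℕ) ∣ 4).trans h5
  have hreal : ∀ r ∈ R, ∀ c : G, c * (s * r) * c⁻¹ = (s * r)⁻¹ → False := fun r hr c h => by
    obtain ⟨hc1, hc2⟩ := hR2 r hr
    refine L.hreal (isConj_iff.2 ⟨c, ?_⟩)
    set m := orderOf r with hm
    have h1 : (s * r) ^ (m * m) = s := by
      rw [hc1.symm.mul_pow, pow_mul r, pow_orderOf_eq_one, one_pow, mul_one, pow_eq_pow_mod _ (show s ^ 8 = 1 by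
        rw [← L.hs]; exact pow_orderOf_eq_one s)]
      have : m % 8 = 1 ∨ m % 8 = 3 ∨ m % 8 = 5 ∨ m % 8 = 7 := by omega
      rw [show m * m % 8 = 1 by rw [Nat.mul_mod]; rcases this with e | e | e | e <;> rw [e], pow_one]
    have h2 : c * (s * r) ^ (m * m) * c⁻¹ = ((s * r) ^ (m * m))⁻¹ := by rw [← conj_pow, h, inv_pow]
    rwa [h1] at h2
  have hns' : ∀ r ∈ R, ¬ IsConj (s * r) s⁻¹ := fun r hr e => by
    obtain ⟨hc1, hc2⟩ := hR2 r hr
    have h8 : s ^ 8 = 1 := by rw [← L.hs]; exact pow_orderOf_eq_one s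
    have h := hpow e 8 (by rw [inv_pow, h8, inv_one])
    rw [hc1.symm.mul_pow, h8, one_mul] at h
    have hd : orderOf r ∣ 2 ^ 3 := orderOf_dvd_of_pow_eq_one h
    have h1 : orderOf r = 1 := by
      rw [Nat.dvd_prime_pow Nat.prime_two] at hd
      obtain ⟨i, -, hi⟩ := hd
      rcases Nat.eq_zero_or_pos i with rfl | hpos
      · simpa using hi
      · exact absurd (hi ▸ dvd_pow_self 2 hpos.ne') hc2
    rw [orderOf_eq_one_iff.1 h1, mul_one] at e
    exact L.hreal e
  -- the column of `s`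
  have hss : ∑ χ : IrrCharacter G, ind B χ * ((χ : G → ℂ) s * (χ : G → ℂ) s⁻¹) = 8 := by
    have h := CfsgLib.Blocks.Dihedral.section_norm hM hy (Ds.subgroupOf _) hKn (k := 3) L.hDsidx
    rw [hbset, show (Ds.subgroupOf (Subgroup.centralizer ({s} : Set G))).index = 8 from L.hDsidx] at h
    push_cast at h
    rw [← h]
    exact Finset.sum_congr rfl fun χ _ => by rw [irr_inv]
  have hsq : ∑ χ : IrrCharacter G, ind B χ * ((χ : G → ℂ) s * (χ : G → ℂ) s) = 0 := by
    rw [← horth _ hns']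
    exact Finset.sum_congr rfl fun χ _ => by rw [← irr_inv, inv_inv]
  have hindc : ∀ χ : IrrCharacter G, conj (ind B χ) = ind B χ := fun χ => by
    by_cases h : χ ∈ B
    · rw [ind_of_mem h, map_one]
    · rw [ind_of_notMem h, map_zero]
  have hsq' : ∑ χ : IrrCharacter G, ind B χ * ((χ : G → ℂ) s⁻¹ * (χ : G → ℂ) s⁻¹) = 0 := by
    have h := congrArg conj hsq
    rw [map_sum, map_zero] at h
    rw [← h]
    exact Finset.sum_congr rfl fun χ _ => by rw [map_mul, map_mul, hindc, irr_inv]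
  let a' : IrrCharacter G → ℤ := fun χ => if χ ∈ B then a χ else 0
  have ha' : ∀ χ : IrrCharacter G, (a' χ : ℂ) = ind B χ * (a χ : ℂ) := fun χ => by
    by_cases h : χ ∈ B
    · rw [ind_of_mem h, one_mul, show a' χ = a χ from if_pos h]
    · rw [ind_of_notMem h, zero_mul, show a' χ = 0 from if_neg h, Int.cast_zero]
  have ha4 : ∑ χ : IrrCharacter G, a' χ * a' χ = 4 := by
    apply natCast_int_ext
    push_cast
    rw [show (4 : ℂ) = (1 / 4) * (0 + 2 * 8 + 0) by norm_num]
    nth_rewrite 1 [← hsq]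
    rw [← hsq', ← hss, Finset.mul_sum, ← Finset.sum_add_distrib, ← Finset.sum_add_distrib, Finset.mul_sum]
    refine Finset.sum_congr rfl fun χ _ => ?_
    rw [ha']
    have hi : ind B χ * ind B χ = ind B χ := by
      by_cases h : χ ∈ B
      · rw [ind_of_mem h, one_mul]
      · rw [ind_of_notMem h, zero_mul]
    linear_combination (a χ : ℂ) ^ 2 * hi +
      (-(1 / 4) : ℂ) * ind B χ * ((χ : G → ℂ) s + (χ : G → ℂ) s⁻¹ + 2 * (a χ : ℂ)) * hre χ
  have hconjsum : ∀ F : IrrCharacter G → ℤ,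
      ∑ χ : IrrCharacter G, ind B χ * ((χ : G → ℂ) s * (F χ : ℂ)) = 0 → ∑ χ : IrrCharacter G, a' χ * F χ = 0 := by
    intro F hF
    apply natCast_int_ext
    have h := congrArg conj hF
    rw [map_sum, map_zero] at h
    push_cast
    rw [show (0 : ℂ) = (1 / 2) * (0 + 0) by norm_num]
    nth_rewrite 1 [← hF]
    rw [← h, ← Finset.sum_add_distrib, Finset.mul_sum]
    refine Finset.sum_congr rfl fun χ _ => ?_
    rw [map_mul, map_mul, hindc, map_intCast, ← irr_inv, ha']
    linear_combination (-(1 / 2) : ℂ) * ind B χ * (F χ : ℂ) * hre χ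
  have haf : ∑ χ : IrrCharacter G, a' χ * f χ = 0 := by
    refine hconjsum f ?_
    rw [← horth 1 hns1]
    exact Finset.sum_congr rfl fun χ _ => by rw [hf χ, map_intCast]
  have haA : ∑ χ : IrrCharacter G, a' χ * A χ = 0 := by
    refine hconjsum A ?_
    rw [← horth z hnz]
    exact Finset.sum_congr rfl fun χ _ => by rw [← L.hsz, hA χ, map_intCast]
  -- no product of two conjugates of `z` lies over `s`
  have hpairs : ∑ χ : IrrCharacter G, ind B χ * (((A χ * A χ : ℤ) : ℂ) * (χ : G → ℂ) s / (f χ : ℂ)) = 0 := by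
    set Z : Finset G := Finset.univ.filter fun x => IsConj z x with hZ
    have hZx : ∀ x ∈ Z, x * x = 1 := fun x hx => by
      obtain ⟨c, rfl⟩ := isConj_iff.1 (Finset.mem_filter.1 hx).2
      have : z * z = 1 := by rw [← sq, ← L.hz]; exact pow_orderOf_eq_one z
      rw [show c * z * c⁻¹ * (c * z * c⁻¹) = c * (z * z) * c⁻¹ by group, this]; group
    have hZconj : ∀ x ∈ Z, ∀ g : G, g * x * g⁻¹ ∈ Z := fun x hx g =>
      Finset.mem_filter.2 ⟨Finset.mem_univ _, (Finset.mem_filter.1 hx).2.trans (isConj_iff.2 ⟨g, rfl⟩)⟩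
    have hnone : ∀ r ∈ R, (Z.filter fun x => x⁻¹ * (s * r)⁻¹ ∈ Z) = ∅ := by
      refine fun r hr => Finset.filter_eq_empty_iff.2 fun x hx hy => hreal r hr x ?_
      have h1 := hZx x hx
      have hxi : x⁻¹ = x := inv_eq_of_mul_eq_one_left h1
      have h2 := hZx _ hy
      rw [hxi] at h2
      rw [hxi]
      set t := s * r
      have h3 : x * t⁻¹ * x = t := by
        calc x * t⁻¹ * x = x * t⁻¹ * (x * t⁻¹) * t := by group
          _ = t := by rw [h2, one_mul]
      calc x * t * x = x * (x * t⁻¹ * x) * x := by rw [h3]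
        _ = (x * x) * t⁻¹ * (x * x) := by group
        _ = t⁻¹ := by rw [h1]; group
    have hz1 : (Z.card : ℂ) ≠ 0 :=
      Nat.cast_ne_zero.2 (Finset.card_pos.2 ⟨z, Finset.mem_filter.2 ⟨Finset.mem_univ _, IsConj.refl z⟩⟩).ne'
    refine (mul_eq_zero.1 ?_).resolve_left hR0
    rw [Finset.mul_sum, Finset.sum_congr rfl fun χ _ => show (R.card : ℂ) * (ind B χ * (((A χ * A χ : ℤ) : ℂ) *
        (χ : G → ℂ) s / (f χ : ℂ))) = ∑ r ∈ R, ((A χ * A χ : ℤ) : ℂ) * (χ : G → ℂ) (s * r) / (f χ : ℂ) by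
      rw [← Finset.sum_div, ← Finset.mul_sum, ← havg χ]; ring, Finset.sum_comm]
    refine Finset.sum_eq_zero fun r hr => ?_
    have h := CfsgLib.BSW.card_pairs Z hZconj (s * r)⁻¹
    rw [hnone r hr, Finset.card_empty, Nat.cast_zero, mul_zero] at h
    have hzA : ∀ χ : IrrCharacter G, (χ : G → ℂ) z = (A χ : ℂ) := fun χ => by rw [← L.hsz]; exact hA χ
    have hterm : ∀ χ : IrrCharacter G, (∑ x ∈ Z, (χ : G → ℂ) x) ^ 2 * conj ((χ : G → ℂ) (s * r)⁻¹) / (χ : G → ℂ) 1 =
        (Z.card : ℂ) ^ 2 * (((A χ * A χ : ℤ) : ℂ) * (χ : G → ℂ) (s * r) / (f χ : ℂ)) := fun χ => by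
      rw [Finset.sum_congr rfl fun x hx => (irr_of_isConj χ (Finset.mem_filter.1 hx).2).symm,
        Finset.sum_const, nsmul_eq_mul, hzA χ, ← irr_inv, inv_inv, hf χ]
      push_cast
      ring
    rw [Finset.sum_congr rfl fun χ _ => hterm χ, ← Finset.mul_sum] at h
    exact (mul_eq_zero.1 h.symm).resolve_left (pow_ne_zero 2 hz1)
  have haAA : ∑ χ : IrrCharacter G, (a' χ : ℂ) * ((A χ * A χ : ℤ) : ℂ) / (f χ : ℂ) = 0 := by
    have h := congrArg conj hpairs
    rw [map_sum, map_zero] at h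
    rw [show (0 : ℂ) = (1 / 2) * (0 + 0) by norm_num]
    nth_rewrite 1 [← hpairs]
    rw [← h, ← Finset.sum_add_distrib, Finset.mul_sum]
    refine Finset.sum_congr rfl fun χ _ => ?_
    rw [map_mul, map_div₀, map_mul, map_intCast, map_intCast, hindc, ← irr_inv, ha']
    linear_combination (-(1 / 2) : ℂ) * ind B χ * ((A χ * A χ : ℤ) : ℂ) / (f χ : ℂ) * hre χ
  -- exactly four of them are nonzero
  set one := oneIrr G with hone
  have hone1 : a' one = 1 ∧ f one = 1 ∧ A one = 1 := by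
    refine ⟨(if_pos (oneIrr_mem hM)).trans (natCast_int_ext ?_), natCast_int_ext ?_, natCast_int_ext ?_⟩
    · have h := hre one
      have h1 : ∀ g : G, ((one : IrrCharacter G) : G → ℂ) g = 1 := fun _ => rfl
      rw [h1, h1] at h
      push_cast
      linear_combination (-(1 / 2) : ℂ) * h
    · rw [← hf one]; push_cast; rfl
    · rw [← hA one]; push_cast; rfl
  set N : Finset (IrrCharacter G) := (Finset.univ.filter fun χ => a' χ ≠ 0).erase one with hN
  have hsplit : ∀ F : IrrCharacter G → ℤ, (∀ χ, a' χ = 0 → F χ = 0) →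
      ∑ χ : IrrCharacter G, F χ = F one + ∑ χ ∈ N, F χ := by
    intro F hF
    have hmem : one ∈ Finset.univ.filter fun χ => a' χ ≠ 0 := by simp [hone1.1]
    rw [hN, Finset.add_sum_erase _ _ hmem, Finset.sum_filter_of_ne]
    intro χ _ hne e
    exact hne (hF χ e)
  have hN3 : ∑ χ ∈ N, a' χ * a' χ = 3 := by
    have h := hsplit (fun χ => a' χ * a' χ) (fun χ e => by simp [e])
    rw [ha4, hone1.1] at h
    linarith
  have ha1 : ∀ χ ∈ N, a' χ = 1 ∨ a' χ = -1 := by
    intro χ hχ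
    have hle := Finset.single_le_sum (f := fun χ => a' χ * a' χ) (fun i _ => mul_self_nonneg _) hχ
    rw [hN3] at hle
    have hne : a' χ ≠ 0 := (Finset.mem_filter.1 (Finset.mem_of_mem_erase hχ)).2
    have : -1 ≤ a' χ := by nlinarith
    have : a' χ ≤ 1 := by nlinarith
    omega
  have hcard : N.card = 3 := by
    have h1 : ∑ χ ∈ N, a' χ * a' χ = ∑ χ ∈ N, (1 : ℤ) :=
      Finset.sum_congr rfl fun χ hχ => by rcases ha1 χ hχ with e | e <;> rw [e] <;> norm_num
    rw [hN3, Finset.sum_const, nsmul_one] at h1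
    exact_mod_cast h1.symm
  obtain ⟨x, y, w, hxy, hxw, hyw, hNe⟩ := Finset.card_eq_three.1 hcard
  have hsum3 : ∀ F : IrrCharacter G → ℤ, ∑ χ ∈ N, F χ = F x + F y + F w := fun F => by
    rw [hNe, Finset.sum_insert (by simp [hxy, hxw]), Finset.sum_pair hyw, add_assoc]
  have hmemN : x ∈ N ∧ y ∈ N ∧ w ∈ N := by rw [hNe]; simp
  have hblock : ∀ χ ∈ N, χ ∈ B := fun χ hχ => by
    by_contra h
    exact (Finset.mem_filter.1 (Finset.mem_of_mem_erase hχ)).2 (if_neg h)
  have hbound : A x * A x + A y * A y + A w * A w ≤ 47 := by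
    have hn := L.hKnorm
    have hcol := column_le hM (x := z) ⟨1, L.hz⟩ L.hKC hn L.hKodd
    rw [L.hKidx, Complex.re_sum] at hcol
    have hval : ∀ χ : IrrCharacter G, ((χ : G → ℂ) z * conj ((χ : G → ℂ) z)).re = ((A χ * A χ : ℤ) : ℝ) := fun χ => by
      rw [← L.hsz, hA χ, map_intCast, ← Int.cast_mul, Complex.intCast_re]
    rw [Finset.sum_congr rfl fun χ _ => hval χ, ← Int.cast_sum] at hcol
    have hcol' : ∑ χ ∈ bset (principalBlock M G), A χ * A χ ≤ 48 := by exact_mod_cast hcol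
    have hsub : insert one N ⊆ bset (principalBlock M G) := fun χ hχ => by
      rcases Finset.mem_insert.1 hχ with rfl | h
      · exact mem_bset.2 (oneIrr_mem hM)
      · exact mem_bset.2 (hblock χ h)
    have hle := (Finset.sum_le_sum_of_subset_of_nonneg (f := fun χ => A χ * A χ) hsub
      fun i _ _ => mul_self_nonneg _).trans hcol'
    rw [Finset.sum_insert (by simp [hN]), hone1.2.2, hsum3] at hle
    linarith
  have hodd : ∀ χ ∈ N, Odd (a' χ * f χ) ∧ Odd (a' χ * A χ) := fun χ hχ => by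
    have h1 := hfa χ
    have h2 := hAa χ
    rw [← show a' χ = a χ from if_pos (hblock χ hχ)] at h1 h2
    constructor <;> rw [Int.odd_iff] <;> rcases ha1 χ hχ with e | e <;> rw [e] at h1 h2 ⊢ <;> omega
  have hg : a' x * f x + a' y * f y + a' w * f w = -1 := by
    have h := hsplit (fun χ => a' χ * f χ) (fun χ e => by simp [e])
    rw [haf, hone1.1, hone1.2.1, hsum3] at h
    linarith
  have hh : a' x * A x + a' y * A y + a' w * A w = -1 := by
    have h := hsplit (fun χ => a' χ * A χ) (fun χ e => by simp [e])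
    rw [haA, hone1.1, hone1.2.2, hsum3] at h
    linarith
  have haaN : ∀ χ ∈ N, a' χ * a' χ = 1 := fun χ hχ => by rcases ha1 χ hχ with e | e <;> rw [e] <;> norm_num
  have heq : Eqn ((a' x * A x) * (a' x * A x)) ((a' y * A y) * (a' y * A y)) ((a' w * A w) * (a' w * A w))
      (a' x * f x) (a' y * f y) (a' w * f w) := by
    have hmem : one ∈ Finset.univ.filter fun χ => a' χ ≠ 0 := by simp [hone1.1]
    have h : ∑ χ ∈ insert one N, (a' χ : ℂ) * ((A χ * A χ : ℤ) : ℂ) / (f χ : ℂ) = 0 := by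
      rw [← haAA, hN, Finset.insert_erase hmem]
      refine Finset.sum_filter_of_ne fun χ _ hne e => hne ?_
      simp [e]
    rw [Finset.sum_insert (by simp [hN]), hone1.1, hone1.2.1, hone1.2.2, hNe,
      Finset.sum_insert (by simp [hxy, hxw]), Finset.sum_pair hyw] at h
    have nx : (f x : ℂ) ≠ 0 := by exact_mod_cast (hf' x).ne'
    have ny : (f y : ℂ) ≠ 0 := by exact_mod_cast (hf' y).ne'
    have nw : (f w : ℂ) ≠ 0 := by exact_mod_cast (hf' w).ne'
    field_simp at h
    push_cast at h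
    have h' : f x * f y * f w + a' x * (A x * A x) * (f y * f w) + a' y * (A y * A y) * (f x * f w) +
        a' w * (A w * A w) * (f x * f y) = 0 := by
      have : ((f x : ℂ) * f y * f w + a' x * (A x * A x) * (f y * f w) + a' y * (A y * A y) * (f x * f w) +
          a' w * (A w * A w) * (f x * f y)) = 0 := by linear_combination h
      exact_mod_cast this
    have ex := haaN x hmemN.1
    have ey := haaN y hmemN.2.1
    have ew := haaN w hmemN.2.2
    unfold Eqn
    linear_combination a' x * a' y * a' w * h'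
  have hres := small_degree (hodd x hmemN.1).1 (hodd y hmemN.2.1).1 (hodd w hmemN.2.2).1
    (hodd x hmemN.1).2 (hodd y hmemN.2.1).2 (hodd w hmemN.2.2).2 hg hh (by
      have e : ∀ χ ∈ N, a' χ * A χ * (a' χ * A χ) = A χ * A χ := fun χ hχ => by
        linear_combination (A χ * A χ) * haaN χ hχ
      rw [e x hmemN.1, e y hmemN.2.1, e w hmemN.2.2]
      exact hbound) heq
  have hfin : ∀ χ ∈ N, |a' χ * f χ| ≤ 15 → ∃ χ ∈ principalBlock M G, χ ≠ oneIrr G ∧
      ∃ f : ℤ, (χ : G → ℂ) 1 = f ∧ f ≤ 15 := by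
    intro χ hχ hle
    refine ⟨χ, hblock χ hχ, Finset.ne_of_mem_erase hχ, f χ, hf χ, ?_⟩
    have h := le_abs_self (f χ)
    rcases ha1 χ hχ with e | e <;> rw [e] at hle <;> simp only [one_mul, neg_mul, abs_neg] at hle <;> linarith
  rcases hres with h | h | h
  exacts [hfin x hmemN.1 h, hfin y hmemN.2.1 h, hfin w hmemN.2.2 h]

/-- In a simple group the core is central. -/
theorem central_core [IsSimpleGroup G] (L : Loc G z s K Q Ds) :
    ∀ c ∈ Subgroup.centralizer ({z} : Set G), ∀ u ∈ K, c * u = u * c := by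
  classical
  obtain ⟨M, hM⟩ := exists_isPModular Nat.prime_two
  obtain ⟨χ, hχ, hne, f, hf, h15⟩ := exists_small hM L
  haveI : Fact (Nat.Prime 2) := ⟨Nat.prime_two⟩
  haveI := Fintype.ofFinite Q
  haveI := Fintype.ofFinite K
  have hzs : ∀ c ∈ Subgroup.centralizer ({s ^ 2} : Set G), c ∈ Subgroup.centralizer ({z} : Set G) := by
    intro c hc
    rw [Subgroup.mem_centralizer_singleton_iff] at hc ⊢
    rw [← L.hsz, show s ^ 4 = (s ^ 2) ^ 2 by rw [← pow_mul]]
    exact ((show Commute c (s ^ 2) from hc).pow_right 2).eq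
  -- the values on `q u`
  have he : ∀ r ∈ K, (χ : G → ℂ) (s ^ 2 * r) = (χ : G → ℂ) (s ^ 2) := by
    intro r hr
    haveI := normal_subgroupOf (fun c hc u hu => L.hKnorm c (hzs c hc) u hu)
    refine CfsgLib.Blocks.Dihedral.section_const hM ⟨2, ?_⟩ (K.subgroupOf _) (not_dvd_subgroupOf L.hKe L.hKodd)
      (k := 3) L.hKeidx hχ (mem_regC.2 ⟨?_, odd_of_mem L.hKodd hr⟩)
    · rw [orderOf_pow' s two_ne_zero, L.hs]; rfl
    · exact Subgroup.mem_centralizer_singleton_iff.1 (L.hKe hr)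
  have hqu : ∀ q ∈ Q, q ≠ 1 → ∀ r ∈ K, (χ : G → ℂ) (q * r) = (χ : G → ℂ) q := by
    intro q hq hq1 r hr
    rcases L.hQ q hq with e | rfl | ⟨c, hc⟩
    · exact absurd e hq1
    · exact core_const hM ⟨1, L.hz⟩ L.hKC L.hKnorm L.hKodd hχ hr
    · have h1 : (χ : G → ℂ) (q * r) = (χ : G → ℂ) (s ^ 2 * (c * r * c⁻¹)) := by
        rw [← hc, show c * q * c⁻¹ * (c * r * c⁻¹) = c * (q * r) * c⁻¹ by group, CfsgSimpleM11.irr_conjInv]
      rw [h1, ← CfsgSimpleM11.irr_conjInv χ q c, hc]
      refine he _ (L.hKnorm c ?_ r hr)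
      have hq4 : orderOf q = 4 := by
        rw [← Blocks.conj_orderOf c, hc, orderOf_pow' s two_ne_zero, L.hs]; rfl
      have h2 : orderOf (q * q) = 2 := by rw [← pow_two, orderOf_pow' q two_ne_zero, hq4]; rfl
      have h4 : q * q = z := by
        rcases L.hQ _ (mul_mem hq hq) with e | e | ⟨d, hd⟩
        · rw [e, orderOf_one] at h2; omega
        · exact e
        · exfalso
          have := Blocks.conj_orderOf d (q * q)
          rw [hd, h2, orderOf_pow' s two_ne_zero, L.hs] at this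
          norm_num at this
      rw [Subgroup.mem_centralizer_singleton_iff]
      refine mul_inv_eq_iff_eq_mul.1 ?_
      conv_lhs => rw [← h4]
      rw [← L.hsz, show s ^ 4 = s ^ 2 * s ^ 2 by rw [← pow_add], ← hc]; group
  let j : Q × K →* G :=
    { toFun := fun p => (p.1 : G) * p.2
      map_one' := by simp
      map_mul' := fun p p' => by
        show ((p.1 * p'.1 : Q) : G) * ((p.2 * p'.2 : K) : G) = _
        rw [Subgroup.coe_mul, Subgroup.coe_mul, mul_assoc, ← mul_assoc (p'.1 : G), L.hQK _ p'.1.2 _ p.2.2]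
        group }
  let ψ : K → ℂ := fun r => (χ : G → ℂ) r
  have hψ : IsCharacter K ψ := isCharacter_comp (isCharacter_of_irr χ.2) K.subtype
  choose m hm using fun φ : IrrCharacter K => classInner_char_nat hψ (isCharacter_of_irr φ.2)
  choose d hd hd1 using fun φ : IrrCharacter K => irr_degree_pos φ.2
  have hexp : ∀ r : K, ψ r = ∑ φ : IrrCharacter K, (m φ : ℂ) * (φ : K → ℂ) r := by
    intro r
    have h := congrFun (eq_sum_irr (isClassFunction_char hψ)) r
    simpa [hm] using h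
  have h8 : ∀ φ : IrrCharacter K, φ ≠ oneIrr K → ∃ k : ℕ, m φ = 8 * k := by
    intro φ hφ
    have hφc : IsCharacter (Q × K) (fun p => (φ : K → ℂ) p.2) :=
      isCharacter_comp (isCharacter_of_irr φ.2) (MonoidHom.snd Q K)
    obtain ⟨k, hk⟩ := classInner_char_nat (isCharacter_comp (isCharacter_of_irr χ.2) j) hφc
    refine ⟨k, ?_⟩
    have horth : ∑ r : K, conj ((φ : K → ℂ) r) = 0 := by
      have h := classInner_irr_ne (oneIrr K).2 φ.2 fun e => hφ (Subtype.ext e.symm)
      rw [classInner_natCard, mul_eq_zero] at h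
      refine (h.resolve_left (inv_ne_zero (Nat.cast_ne_zero.2 Nat.card_pos.ne'))).symm.trans ?_ |>.symm
      exact Finset.sum_congr rfl fun r _ => one_mul _
    rw [classInner_natCard, Nat.card_prod, L.hQcard, Fintype.sum_prod_type,
      ← Finset.add_sum_erase _ _ (Finset.mem_univ (1 : Q))] at hk
    have hzero : ∀ q ∈ (Finset.univ : Finset Q).erase 1,
        ∑ r : K, (χ : G → ℂ) (j (q, r)) * conj ((φ : K → ℂ) r) = 0 := by
      intro q hq
      have hne : (q : G) ≠ 1 := fun e => Finset.ne_of_mem_erase hq (Subtype.ext e)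
      show ∑ r : K, (χ : G → ℂ) ((q : G) * r) * _ = 0
      rw [Finset.sum_congr rfl fun r _ => by rw [hqu q q.2 hne r r.2], ← Finset.mul_sum, horth, mul_zero]
    rw [Finset.sum_eq_zero hzero, add_zero] at hk
    have hmφ := hm φ
    rw [classInner_natCard] at hmφ
    have e1 : ∀ r : K, j ((1 : Q), r) = (r : G) := fun r => one_mul _
    simp only [e1] at hk
    have hK0 : (Nat.card K : ℂ) ≠ 0 := Nat.cast_ne_zero.2 Nat.card_pos.ne'
    have : (m φ : ℂ) = ((8 * k : ℕ) : ℂ) := by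
      rw [← hmφ, Nat.cast_mul, ← hk]
      push_cast
      field_simp
      exact Finset.sum_congr rfl fun _ _ => rfl
    exact_mod_cast this
  have hsum : f = ((∑ φ : IrrCharacter K, m φ * d φ : ℕ) : ℤ) := by
    have : (f : ℂ) = ((∑ φ : IrrCharacter K, m φ * d φ : ℕ) : ℂ) := by
      rw [← hf, show (χ : G → ℂ) 1 = ψ 1 from rfl, hexp 1, Nat.cast_sum]
      exact Finset.sum_congr rfl fun φ _ => by rw [Nat.cast_mul, hd1]
    exact_mod_cast this
  intro c hc u hu
  -- the nontrivial constituent is linear and invariant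
  let τ : K →* K :=
    { toFun := fun r => ⟨c * r * c⁻¹, L.hKnorm c hc r r.2⟩
      map_one' := Subtype.ext (by simp)
      map_mul' := fun a b => Subtype.ext (by simp [mul_assoc]) }
  have hτs : Function.Surjective τ := fun r =>
    ⟨⟨c⁻¹ * r * c, by simpa using L.hKnorm c⁻¹ (inv_mem hc) r r.2⟩, Subtype.ext (by simp [τ, mul_assoc])⟩
  have hinv : ∀ φ : IrrCharacter K, m φ ≠ 0 → ∀ r : K, (φ : K → ℂ) (τ r) = (φ : K → ℂ) r := by
    intro φ h0
    by_cases hφ : φ = oneIrr K
    · subst hφ; intro r; rfl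
    let φ' : IrrCharacter K := ⟨fun r => (φ : K → ℂ) (τ r), isIrrCharacter_comp_surjective φ.2 τ hτs⟩
    have hne' : φ' ≠ oneIrr K := fun e => hφ (Subtype.ext (funext fun r => by
      obtain ⟨r, rfl⟩ := hτs r
      exact congrFun (congrArg Subtype.val e) r))
    have hm' : m φ' = m φ := by
      have e : classInner ψ ((φ' : IrrCharacter K) : K → ℂ) = classInner ψ (φ : K → ℂ) := by
        rw [classInner_natCard, classInner_natCard]
        congr 1
        refine Fintype.sum_bijective τ ⟨Finite.injective_iff_surjective.mpr hτs, hτs⟩ _ _ fun r => ?_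
        show (χ : G → ℂ) r * _ = (χ : G → ℂ) (c * r * c⁻¹) * _
        rw [CfsgSimpleM11.irr_conjInv]
      have h2 := (hm φ').symm.trans (e.trans (hm φ))
      exact_mod_cast h2
    have heq : φ' = φ := by
      by_contra h
      obtain ⟨k, hk⟩ := h8 φ hφ
      have hle : m φ' * d φ' + m φ * d φ ≤ ∑ φ : IrrCharacter K, m φ * d φ := by
        rw [← Finset.sum_pair (f := fun φ => m φ * d φ) h]
        exact Finset.sum_le_sum_of_subset (Finset.subset_univ _)
      have h1 : m φ' ≤ m φ' * d φ' := Nat.le_mul_of_pos_right _ (hd φ')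
      have h2 : m φ ≤ m φ * d φ := Nat.le_mul_of_pos_right _ (hd φ)
      omega
    exact fun r => congrFun (congrArg Subtype.val heq) r
  set r₀ : K := τ ⟨u, hu⟩ * (⟨u, hu⟩ : K)⁻¹ with hr₀
  have hval : ψ r₀ = ψ 1 := by
    rw [hexp, hexp]
    refine Finset.sum_congr rfl fun φ _ => ?_
    by_cases h0 : m φ = 0
    · rw [h0, Nat.cast_zero, zero_mul, zero_mul]
    by_cases hφ : φ = oneIrr K
    · subst hφ; rfl
    have hd' : d φ = 1 := by
      obtain ⟨k, hk⟩ := h8 φ hφ
      have hle : m φ * d φ ≤ ∑ φ : IrrCharacter K, m φ * d φ :=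
        Finset.single_le_sum (f := fun φ => m φ * d φ) (fun _ _ => Nat.zero_le _) (Finset.mem_univ φ)
      have h2 : m φ * d φ ≤ 15 := by omega
      by_contra h
      have h3 : 2 ≤ d φ := by have := hd φ; omega
      have h4 : 8 * 2 ≤ m φ * d φ := Nat.mul_le_mul (by omega) h3
      omega
    obtain ⟨l, hl⟩ := exists_hom_of_degree_one (isCharacter_of_irr φ.2) (by rw [hd1, hd', Nat.cast_one])
    have h1 := hinv φ h0 ⟨u, hu⟩
    rw [hl] at h1 ⊢
    refine congrArg _ ?_
    show ((l r₀ : ℂˣ) : ℂ) = ((l 1 : ℂˣ) : ℂ)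
    rw [hr₀, map_mul, map_inv, Units.ext h1, mul_inv_cancel, map_one]
  have hN := (inferInstance : (charKernel (χ : G → ℂ) (isCharacter_of_irr χ.2)).Normal)
  rcases hN.eq_bot_or_eq_top with e | e
  · have h1 := (mem_charKernel (isCharacter_of_irr χ.2) (r₀ : G)).2 hval
    rw [e, Subgroup.mem_bot] at h1
    exact mul_inv_eq_iff_eq_mul.1 (mul_inv_eq_one.1 h1)
  · exfalso
    refine hne (Subtype.ext ?_)
    have hall : ∀ g : G, (χ : G → ℂ) g = (χ : G → ℂ) 1 := fun g =>
      (mem_charKernel (isCharacter_of_irr χ.2) g).1 (e ▸ Subgroup.mem_top g)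
    by_contra h
    have h1 := classInner_irr_ne χ.2 (oneIrr G).2 h
    rw [classInner_natCard, Finset.sum_congr rfl fun g _ => by rw [hall g]] at h1
    have h2 : ∀ g : G, conj (((oneIrr G : IrrCharacter G) : G → ℂ) g) = 1 := fun g => map_one _
    simp only [h2, mul_one, Finset.sum_const, nsmul_eq_mul, mul_eq_zero, Finset.card_univ] at h1
    rcases h1 with h1 | h1 | h1
    · exact inv_ne_zero (Nat.cast_ne_zero.2 Nat.card_pos.ne') h1
    · exact Nat.cast_ne_zero.2 Fintype.card_ne_zero h1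
    · exact irr_ne_zero χ.2 h1

end CfsgLib.OvalPlane.SD
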