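import Cfsg.Agent.Lib.OvalPlane.SDCoreData
import Cfsg.Agent.Lib.OvalPlane.SDCharGen

set_option autoImplicit false

/-!
In a simple group the odd core of the centraliser is central.
-/

namespace CfsgLib.OvalPlane.SD

universe w

theorem CoreData.central {G : Type w} [Group G] [Finite G] [IsSimpleGroup G] (_hG : ¬ IsMulCommutative G)
    {z s : G} {K Q : Subgroup G} (L : CoreData z s K Q) :
    ∀ c ∈ Subgroup.centralizer ({z} : Set G), ∀ u ∈ K, c * u = u * c := by
  letI := Fintype.ofFinite G
  have hcs : ∀ c ∈ Subgroup.centralizer ({s} : Set G), c ∈ Subgroup.centralizer ({z} : Set G) := fun c hc => by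
    rw [Subgroup.mem_centralizer_singleton_iff] at hc ⊢
    rw [← L.hsz]
    exact ((show Commute c s from hc).pow_right 4).eq
  refine central_core (s := s) (Q := Q) (Ds := K ⊓ Subgroup.centralizer ({s} : Set G))
    { hz := L.hz, hs := L.hs, hsz := L.hsz, hs3 := L.hs3, hreal := L.hreal, hKC := L.hKC, hKodd := L.hKodd
      hKnorm := L.hKnorm, hKidx := L.hKidx, hKe := L.hKe, hKeidx := L.hKeidx, hQcard := L.hQcard, hQK := L.hQK
      hQ := L.hQ
      hDsodd := L.hKodd.of_dvd_nat (Subgroup.card_dvd_of_le inf_le_left)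
      hDsC := inf_le_right
      hDsnorm := fun c hc u hu => ⟨L.hKnorm c (hcs c hc) u hu.1, (Subgroup.centralizer ({s} : Set G)).mul_mem ((Subgroup.centralizer ({s} : Set G)).mul_mem hc hu.2) ((Subgroup.centralizer ({s} : Set G)).inv_mem hc)⟩
      hDsidx := (Subgroup.inf_relIndex_right _ _).trans L.hKs }

end CfsgLib.OvalPlane.SD
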