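import Mathlib.GroupTheory.Index
import Mathlib.GroupTheory.OrderOfElement

set_option autoImplicit false

/-!
Local data around a central involution `z` of a semidihedral Sylow 2-subgroup of order 16 whose centraliser
modulo its odd core `K` is `GL(2,3)`, the quaternion part `Q` centralising `K`.
-/

namespace CfsgLib.OvalPlane.SD

universe w

/-- The centraliser of an involution `z` modulo its odd core `K` is `GL(2,3)`. -/
structure CoreData {G : Type w} [Group G] (z s : G) (K Q : Subgroup G) : Prop where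
  hz : orderOf z = 2
  hs : orderOf s = 8
  hsz : s ^ 4 = z
  hs3 : IsConj s (s ^ 3)
  hreal : ¬ IsConj s s⁻¹
  hKC : K ≤ Subgroup.centralizer ({z} : Set G)
  hKodd : Odd (Nat.card K)
  hKnorm : ∀ c ∈ Subgroup.centralizer ({z} : Set G), ∀ u ∈ K, c * u * c⁻¹ ∈ K
  hKidx : K.relIndex (Subgroup.centralizer ({z} : Set G)) = 48
  hKs : K.relIndex (Subgroup.centralizer ({s} : Set G)) = 8
  hKe : K ≤ Subgroup.centralizer ({s ^ 2} : Set G)
  hKeidx : K.relIndex (Subgroup.centralizer ({s ^ 2} : Set G)) = 8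
  hQcard : Nat.card Q = 8
  hQK : ∀ q ∈ Q, ∀ u ∈ K, q * u = u * q
  hQ : ∀ q ∈ Q, q = 1 ∨ q = z ∨ ∃ c, c * q * c⁻¹ = s ^ 2

end CfsgLib.OvalPlane.SD
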