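import Cfsg.Agent.Lib.OvalPlane.SDInterface
import Cfsg.Agent.Lib.Fusion.RankTwoSimple
import Cfsg.Agent.Lib.Fusion.GLTwoSylow
import Cfsg.Agent.Lib.QDWreathedNoIndexTwo.Main
import Cfsg.Agent.Lib.PSolvable
import Cfsg.Agent.Lib.CoprimeGen
import Cfsg.Agent.Lib.QuasiDihedral
import Cfsg.Agent.S0197

set_option autoImplicit false
set_option linter.unusedSectionVars false
set_option linter.style.haveILetI false
set_option linter.unusedVariables false

/-!
The semidihedral case, last step: the centraliser of an involution cannot be a central extension of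
`GL(2,3)` by a group of odd order.
-/

namespace CfsgLib.OvalPlane.SD

open Cfsg

universe w

/-- Two by two matrices over the field with three elements. -/
abbrev M3 := Matrix (Fin 2) (Fin 2) (ZMod 3)

theorem m3_central : ∀ a : M3, a * a = 1 → a * !![1, 1; 0, 1] = !![1, 1; 0, 1] * a →
    a * !![1, 0; 1, 1] = !![1, 0; 1, 1] * a → a = 1 ∨ a = -1 := by decide +kernel

theorem m3_cent_invol : ∀ a : M3, a * a = 1 → a ≠ 1 → a ≠ -1 → ∀ b : M3, b.det ≠ 0 → a * b = b * a →
    b * b = 1 := by decide +kernel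

theorem m3_three : ∀ b : M3, b * b * b = 1 → b ≠ 1 →
    (b * (!![0, 1; 1, 0] * b * !![0, 1; 1, 0])) ^ 3 ≠ 1 ∨
      (b * (!![1, 1; 0, 1] * b * !![1, 2; 0, 1])) ^ 3 ≠ 1 := by decide +kernel

theorem m3_sq : ∀ b : M3, b.det ≠ 0 →
    ∃ q : M3, q.det ≠ 0 ∧ (b = q * q ∨ b = -(q * q) ∨ b = !![1, 0; 0, 2] * (q * q) ∨
      b = !![1, 0; 0, 2] * -(q * q)) := by decide +kernel

theorem gl_det_ne (g : GL (Fin 2) (ZMod 3)) : (g : M3).det ≠ 0 :=
  (Matrix.isUnit_iff_isUnit_det _).mp g.isUnit |>.ne_zero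

/-- The diagonal reflection. -/
def glRef : GL (Fin 2) (ZMod 3) := ⟨!![1, 0; 0, 2], !![1, 0; 0, 2], by decide, by decide⟩

/-- A second reflection. -/
def glRef' : GL (Fin 2) (ZMod 3) := ⟨!![1, 1; 0, 2], !![1, 1; 0, 2], by decide, by decide⟩

/-- An element whose square is minus one. -/
def glI : GL (Fin 2) (ZMod 3) := ⟨!![0, 1; 2, 0], !![0, 2; 1, 0], by decide, by decide⟩

theorem card_gl : Nat.card (GL (Fin 2) (ZMod 3)) = 48 := by
  haveI : Fact (Nat.Prime 3) := ⟨Nat.prime_three⟩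
  rw [Matrix.card_GL_field]
  simp [Fin.prod_univ_two, ZMod.card]

theorem eq_one_of_pow_three {g : GL (Fin 2) (ZMod 3)} (h : Odd (orderOf g)) : g ^ 3 = 1 := by
  have h1 : orderOf g ∣ 16 * 3 := by
    have h1 := orderOf_dvd_natCard g
    rw [card_gl] at h1
    exact h1
  have h2 : (orderOf g).Coprime 16 := by
    rw [show 16 = 2 ^ 4 from rfl]
    exact (Nat.coprime_two_right.mpr h).pow_right 4
  exact orderOf_dvd_iff_pow_eq_one.mp (h2.dvd_of_dvd_mul_left h1)

variable {G : Type w} [Group G] [Finite G] {h : G} {D : Subgroup G}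

/-- The data of the centraliser. -/
structure Frame (h : G) (D : Subgroup G) : Type w where
  hh : h * h = 1
  h1 : h ≠ 1
  hodd : Odd (Nat.card D)
  hle : D ≤ Subgroup.centralizer {h}
  hcent : Subgroup.centralizer {h} ≤ Subgroup.centralizer (D : Set G)
  f : Subgroup.centralizer ({h} : Set G) →* GL (Fin 2) (ZMod 3)
  hsurj : Function.Surjective f
  hker : f.ker = D.subgroupOf (Subgroup.centralizer {h})

theorem eq_one_of_sq_mem (hodd : Odd (Nat.card D)) {x : G} (hx : x ∈ D) (h2 : x * x = 1) : x = 1 := by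
  obtain ⟨k, hk⟩ := hodd
  have h3 : (⟨x, hx⟩ : D) ^ (2 * k + 1) = 1 := hk ▸ pow_card_eq_one'
  have h4 : (⟨x, hx⟩ : D) * ⟨x, hx⟩ = 1 := Subtype.ext h2
  rw [pow_succ, pow_mul, pow_two, h4, one_pow, one_mul] at h3
  exact congrArg Subtype.val h3

namespace Frame

variable (F : Frame h D)
include F

theorem hmem : h ∈ Subgroup.centralizer ({h} : Set G) := Subgroup.mem_centralizer_singleton_iff.mpr rfl

theorem mem_D {c : Subgroup.centralizer ({h} : Set G)} : F.f c = 1 ↔ (c : G) ∈ D := by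
  rw [← MonoidHom.mem_ker, F.hker, Subgroup.mem_subgroupOf]

theorem comm_D {c : G} (hc : c ∈ Subgroup.centralizer ({h} : Set G)) {d : G} (hd : d ∈ D) : d * c = c * d :=
  Subgroup.mem_centralizer_iff.mp (F.hcent hc) d hd

theorem f_h : F.f ⟨h, F.hmem⟩ = -1 := by
  have hne : F.f ⟨h, F.hmem⟩ ≠ 1 := fun e => F.h1 (eq_one_of_sq_mem F.hodd (F.mem_D.mp e) F.hh)
  have hcomm : ∀ b, F.f ⟨h, F.hmem⟩ * b = b * F.f ⟨h, F.hmem⟩ := fun b => by
    obtain ⟨c, rfl⟩ := F.hsurj b
    rw [← map_mul, ← map_mul]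
    exact congrArg F.f (Subtype.ext (Subgroup.mem_centralizer_singleton_iff.mp c.2).symm)
  have hsq : F.f ⟨h, F.hmem⟩ * F.f ⟨h, F.hmem⟩ = 1 := by
    rw [← map_mul, ← map_one F.f]; exact congrArg F.f (Subtype.ext F.hh)
  rcases m3_central _ (congrArg Units.val hsq)
      (congrArg Units.val (hcomm ⟨!![1, 1; 0, 1], !![1, 2; 0, 1], by decide, by decide⟩))
      (congrArg Units.val (hcomm ⟨!![1, 0; 1, 1], !![1, 0; 2, 1], by decide, by decide⟩)) with e | e
  · exact absurd (Units.ext e) hne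
  · exact Units.ext e

/-- Elements of two-power order lift. -/
theorem lift {g : GL (Fin 2) (ZMod 3)} {j : ℕ} (hg : g ^ 2 ^ j = 1) :
    ∃ u : Subgroup.centralizer ({h} : Set G), u ^ 2 ^ j = 1 ∧ F.f u = g := by
  obtain ⟨c, hc⟩ := F.hsurj g
  have hcD : ((c ^ 2 ^ j : Subgroup.centralizer ({h} : Set G)) : G) ∈ D := F.mem_D.mp (by rw [map_pow, hc, hg])
  obtain ⟨x, hx⟩ : ∃ x, Nat.card D * x ≡ 1 [MOD 2 ^ j] := by
    obtain ⟨x, hx⟩ := Nat.exists_mul_mod_eq_one_of_coprime (n := Nat.card D) (k := 2 ^ (j + 1))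
      ((Nat.coprime_two_right.mpr F.hodd).pow_right _) (Nat.one_lt_two_pow (by omega))
    refine ⟨x, (Nat.ModEq.of_dvd (pow_dvd_pow 2 (Nat.le_succ j)) ?_)⟩
    rw [Nat.ModEq, hx.2, Nat.mod_eq_of_lt (Nat.one_lt_two_pow (by omega))]
  refine ⟨c ^ (Nat.card D * x), ?_, ?_⟩
  · rw [← pow_mul, mul_comm (Nat.card D * x) (2 ^ j), pow_mul, pow_mul]
    have e : (c ^ 2 ^ j) ^ Nat.card D = 1 := Subtype.ext (by
      have := congrArg Subtype.val (pow_card_eq_one' (x := (⟨_, hcD⟩ : D)))
      rw [SubgroupClass.coe_pow]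
      exact this)
    rw [e, one_pow]
  · rw [map_pow, hc, pow_eq_pow_mod _ hg, hx, ← pow_eq_pow_mod _ hg, pow_one]

theorem lift_invol {g : GL (Fin 2) (ZMod 3)} (hg : g * g = 1) : ∃ u : Subgroup.centralizer ({h} : Set G), u * u = 1 ∧ F.f u = g := by
  obtain ⟨u, hu, e⟩ := F.lift (j := 1) (g := g) (by rw [pow_one, pow_two, hg])
  exact ⟨u, by rw [← pow_two]; rwa [pow_one] at hu, e⟩

/-- The central involution is a square in its centraliser. -/
theorem exists_sqrt : ∃ q ∈ Subgroup.centralizer ({h} : Set G), q * q = h := by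
  obtain ⟨q, hq, e⟩ := F.lift (j := 2) (g := glI) (Units.ext (by decide))
  refine ⟨q, q.2, ?_⟩
  have h2 : ((q * q : Subgroup.centralizer ({h} : Set G)) : G) * h ∈ D := F.mem_D (c := q * q * ⟨h, F.hmem⟩) |>.mp (by
    rw [map_mul, map_mul, e, F.f_h]; exact Units.ext (by decide))
  have hq2 : (q : G) * q * ((q : G) * q) = 1 := by
    have := congrArg Subtype.val hq
    rw [SubgroupClass.coe_pow, show 2 ^ 2 = 2 * 2 from rfl, pow_mul, pow_two, pow_two] at this
    simpa using this
  have hc : h * ((q : G) * q) = (q : G) * q * h :=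
    (Subgroup.mem_centralizer_singleton_iff.mp (q * q : Subgroup.centralizer ({h} : Set G)).2).symm
  have h3 : (q : G) * q * h = 1 := eq_one_of_sq_mem F.hodd h2 (by
    rw [show (q : G) * q * h * ((q : G) * q * h) = (q : G) * q * (h * ((q : G) * q)) * h by group, hc,
      show (q : G) * q * ((q : G) * q * h) * h = (q : G) * q * ((q : G) * q) * (h * h) by group, hq2, F.hh, one_mul])
  calc (q : G) * q = (q : G) * q * (h * h) := by rw [F.hh, mul_one]
    _ = (q : G) * q * h * h := by group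
    _ = h := by rw [h3, one_mul]

/-- An element of odd order commuting with an involution other than `h` lies in `D`. -/
theorem odd_mem {k : G} (hk : k * k = 1) (hk1 : k ≠ 1) (hkh : k ≠ h) (hkc : k ∈ Subgroup.centralizer ({h} : Set G)) {x : G} (hx : x ∈ Subgroup.centralizer ({h} : Set G))
    (hxk : x * k = k * x) (hxo : Odd (orderOf x)) : x ∈ D := by
  have a2 : F.f ⟨k, hkc⟩ * F.f ⟨k, hkc⟩ = 1 := by
    rw [← map_mul, ← map_one F.f]; exact congrArg F.f (Subtype.ext hk)
  have a1 : (F.f ⟨k, hkc⟩ : M3) ≠ 1 := fun e => hk1 (eq_one_of_sq_mem F.hodd (F.mem_D.mp (Units.ext e)) hk)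
  have am : (F.f ⟨k, hkc⟩ : M3) ≠ -1 := fun e => by
    have hmem : k * h ∈ D := F.mem_D (c := ⟨k, hkc⟩ * ⟨h, F.hmem⟩) |>.mp (by
      rw [map_mul, F.f_h]
      refine Units.ext ?_
      rw [Units.val_mul, e, Units.val_neg, Units.val_one, neg_mul_neg, one_mul])
    have hc : h * k = k * h := (Subgroup.mem_centralizer_singleton_iff.mp hkc).symm
    have := eq_one_of_sq_mem F.hodd hmem (by
      rw [show k * h * (k * h) = k * (h * k) * h by group, hc, ← mul_assoc, hk, one_mul, F.hh])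
    exact hkh (by rw [← mul_one k, ← F.hh, ← mul_assoc, this, one_mul])
  have b2 := m3_cent_invol _ (congrArg Units.val a2) a1 am _ (gl_det_ne (F.f ⟨x, hx⟩))
    (congrArg Units.val (show F.f ⟨k, hkc⟩ * F.f ⟨x, hx⟩ = F.f ⟨x, hx⟩ * F.f ⟨k, hkc⟩ by
      rw [← map_mul, ← map_mul]; exact congrArg F.f (Subtype.ext hxk.symm)))
  refine F.mem_D (c := ⟨x, hx⟩) |>.mp ?_
  obtain ⟨m, hm⟩ := hxo
  have b3 : F.f ⟨x, hx⟩ * F.f ⟨x, hx⟩ = 1 := Units.ext b2
  have h3 : (F.f ⟨x, hx⟩) ^ (2 * m + 1) = 1 := by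
    rw [← map_pow, ← map_one F.f]
    refine congrArg F.f (Subtype.ext ?_)
    rw [SubgroupClass.coe_pow, ← hm]
    exact pow_orderOf_eq_one x
  rwa [pow_succ, pow_mul, pow_two, b3, one_pow, one_mul] at h3

/-- Conjugate centralisers commuting with `h` have the same odd core. -/
theorem same_core {c : G} (hv : c * h * c⁻¹ ∈ Subgroup.centralizer ({h} : Set G)) (hne : c * h * c⁻¹ ≠ h) :
    Subgroup.centralizer {c * h * c⁻¹} ≤ Subgroup.centralizer (D : Set G) ∧ ∀ y, y ∈ D ↔ c⁻¹ * y * c ∈ D := by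
  have hk : c⁻¹ * h * c ∈ Subgroup.centralizer ({h} : Set G) := by
    rw [Subgroup.mem_centralizer_singleton_iff] at hv ⊢
    calc c⁻¹ * h * c * h = c⁻¹ * (h * (c * h * c⁻¹)) * c := by group
      _ = c⁻¹ * (c * h * c⁻¹ * h) * c := by rw [hv]
      _ = _ := by group
  have key : ∀ y ∈ D, c⁻¹ * y * c ∈ D := by
    intro y hy
    refine F.odd_mem (k := c⁻¹ * h * c) ?_ ?_ ?_ hk ?_ ?_ ?_
    · rw [show c⁻¹ * h * c * (c⁻¹ * h * c) = c⁻¹ * (h * h) * c by group, F.hh, mul_one, inv_mul_cancel]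
    · intro e
      refine F.h1 ?_
      calc h = c * (c⁻¹ * h * c) * c⁻¹ := by group
        _ = 1 := by rw [e, mul_one, mul_inv_cancel]
    · intro e
      refine hne ?_
      calc c * h * c⁻¹ = c * (c⁻¹ * h * c) * c⁻¹ := by rw [e]
        _ = h := by group
    · rw [Subgroup.mem_centralizer_singleton_iff]
      calc c⁻¹ * y * c * h = c⁻¹ * (y * (c * h * c⁻¹)) * c := by group
        _ = c⁻¹ * (c * h * c⁻¹ * y) * c := by rw [F.comm_D hv hy]
        _ = _ := by group
    · calc c⁻¹ * y * c * (c⁻¹ * h * c) = c⁻¹ * (y * h) * c := by group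
        _ = c⁻¹ * (h * y) * c := by rw [F.comm_D F.hmem hy]
        _ = _ := by group
    · have hoy : orderOf (c⁻¹ * y * c) = orderOf y := by
        simpa [MulAut.conj_apply] using MulEquiv.orderOf_eq (MulAut.conj c⁻¹) y
      rw [hoy]
      exact F.hodd.of_dvd_nat (by simpa using orderOf_dvd_natCard (⟨y, hy⟩ : D))
  have hiff : ∀ y, y ∈ D ↔ c⁻¹ * y * c ∈ D := by
    have hinj : Function.Injective (fun y : D => (⟨c⁻¹ * y * c, key y y.2⟩ : D)) := fun a b e => by
      have e' : c⁻¹ * (a : G) * c = c⁻¹ * b * c := congrArg Subtype.val e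
      exact Subtype.ext (mul_left_cancel (mul_right_cancel e'))
    refine fun y => ⟨key y, fun hy => ?_⟩
    obtain ⟨d, hd⟩ := Finite.surjective_of_injective hinj ⟨_, hy⟩
    have e' : c⁻¹ * (d : G) * c = c⁻¹ * y * c := congrArg Subtype.val hd
    rw [← mul_left_cancel (mul_right_cancel e')]
    exact d.2
  refine ⟨fun z hz => Subgroup.mem_centralizer_iff.mpr fun y hy => ?_, hiff⟩
  have hz' : c⁻¹ * z * c ∈ Subgroup.centralizer ({h} : Set G) := by
    rw [Subgroup.mem_centralizer_singleton_iff] at hz ⊢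
    calc c⁻¹ * z * c * h = c⁻¹ * (z * (c * h * c⁻¹)) * c := by group
      _ = c⁻¹ * (c * h * c⁻¹ * z) * c := by rw [hz]
      _ = _ := by group
  calc y * z = c * ((c⁻¹ * y * c) * (c⁻¹ * z * c)) * c⁻¹ := by group
    _ = c * ((c⁻¹ * z * c) * (c⁻¹ * y * c)) * c⁻¹ := by rw [F.comm_D hz' ((hiff y).mp hy)]
    _ = _ := by group

/-- An odd subgroup normalised by the whole centraliser is in `D`. -/
theorem odd_normal {x : G} (hx : x ∈ Subgroup.centralizer ({h} : Set G)) (M : Subgroup G) (hM : Odd (Nat.card M)) (hxM : x ∈ M)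
    (hn : ∀ c ∈ Subgroup.centralizer ({h} : Set G), c * x * c⁻¹ ∈ M) : x ∈ D := by
  by_contra hxD
  have hodd : ∀ z : Subgroup.centralizer ({h} : Set G), (z : G) ∈ M → F.f z ^ 3 = 1 := fun z hz => eq_one_of_pow_three
    ((hM.of_dvd_nat (by simpa using orderOf_dvd_natCard (⟨_, hz⟩ : M))).of_dvd_nat
      (by simpa using orderOf_map_dvd F.f z))
  set b := F.f ⟨x, hx⟩
  have b1 : (b : M3) ≠ 1 := fun e => hxD (F.mem_D.mp (Units.ext e))
  have b3 : (b : M3) * b * b = 1 := by
    have := congrArg Units.val (hodd ⟨x, hx⟩ hxM)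
    rwa [pow_succ, pow_two] at this
  have key : ∀ g : GL (Fin 2) (ZMod 3), ((b : M3) * ((g : M3) * b * (↑g⁻¹ : M3))) ^ 3 = 1 := by
    intro g
    obtain ⟨c, rfl⟩ := F.hsurj g
    have := congrArg Units.val (hodd (⟨x, hx⟩ * (c * ⟨x, hx⟩ * c⁻¹)) (mul_mem hxM (hn c c.2)))
    simpa [mul_assoc] using this
  rcases m3_three _ b3 b1 with e | e
  · exact e (key ⟨!![0, 1; 1, 0], !![0, 1; 1, 0], by decide, by decide⟩)
  · exact e (key ⟨!![1, 1; 0, 1], !![1, 2; 0, 1], by decide, by decide⟩)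

end Frame

theorem finish [IsSimpleGroup G] (hG : ¬ IsMulCommutative G) (H : SDHyp G) {h : G} (hh : h * h = 1) (h1 : h ≠ 1)
    (hS : (H.S : Subgroup G) ≤ Subgroup.centralizer {h}) (D : Subgroup G) (hodd : Odd (Nat.card D))
    (hle : D ≤ Subgroup.centralizer {h}) (hcent : Subgroup.centralizer {h} ≤ Subgroup.centralizer (D : Set G))
    (f : Subgroup.centralizer ({h} : Set G) →* GL (Fin 2) (ZMod 3)) (hsurj : Function.Surjective f)
    (hker : f.ker = D.subgroupOf (Subgroup.centralizer {h})) : False := by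
  classical
  haveI : Fact (Nat.Prime 2) := ⟨Nat.prime_two⟩
  haveI : Fact (Nat.Prime 3) := ⟨Nat.prime_three⟩
  let F : Frame h D := ⟨hh, h1, hodd, hle, hcent, f, hsurj, hker⟩
  obtain ⟨k, hk3, hcard, -⟩ := CfsgLib.QD.exists_data H.quasi
  have h16S : 16 ∣ Nat.card (H.S : Subgroup G) := by
    rw [hcard]
    exact (pow_dvd_pow 2 (show 4 ≤ k + 1 by omega))
  have hconj : ∀ {a : G}, a * a = 1 → a ≠ 1 → ∃ c, c * h * c⁻¹ = a := fun {a} e1 e2 =>
    isConj_iff.mp (CfsgLib.RankTwoSimple.isConj_of_card_classes (CfsgLib.RankTwoSimple.classes_of_quasiDihedral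
      H.S H.quasi (h16S.trans (H.S : Subgroup G).card_subgroup_dvd_card)).1
      (orderOf_eq_prime (by rw [pow_two, hh]) h1) (orderOf_eq_prime (by rw [pow_two, e1]) e2))
  set C := Subgroup.centralizer ({h} : Set G) with hC
  set HD := Subgroup.centralizer (D : Set G) with hHD
  have hCH : C ≤ HD := hcent
  obtain ⟨u₀, hu₀, hfu⟩ := F.lift_invol (g := glRef) (Units.ext (by decide))
  obtain ⟨u₁, hu₁, hfu'⟩ := F.lift_invol (g := glRef') (Units.ext (by decide))
  set u : G := u₀.1 with hu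
  have u2 : u * u = 1 := congrArg Subtype.val hu₀
  have huC : u ∈ C := u₀.2
  have u1 : u ≠ 1 := fun e => absurd (congrArg Units.val
    (hfu.symm.trans ((congrArg F.f (Subtype.ext e : u₀ = 1)).trans (map_one _)))) (by decide)
  have uh : u ≠ h := fun e => absurd (congrArg Units.val
    (hfu.symm.trans ((congrArg F.f (Subtype.ext e : u₀ = ⟨h, F.hmem⟩)).trans F.f_h))) (by decide)
  -- the odd core of the centraliser of `D` is `D`
  set R := (oddCore HD).map HD.subtype with hR
  have hRodd : Odd (Nat.card R) := by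
    rw [Subgroup.card_map_of_injective HD.subtype_injective]
    exact Nat.coprime_two_right.mp (card_pPrimeCore_coprime 2)
  have hRconj : ∀ g ∈ HD, ∀ y ∈ R, g * y * g⁻¹ ∈ R := by
    rintro g hg _ ⟨y, hy, rfl⟩
    exact ⟨⟨g, hg⟩ * y * ⟨g, hg⟩⁻¹, (inferInstance : (oddCore HD).Normal).conj_mem y hy _, rfl⟩
  have hRC : ∀ c : G, Subgroup.centralizer {c * h * c⁻¹} ≤ HD → (∀ y, y ∈ D ↔ c⁻¹ * y * c ∈ D) →
      ∀ y ∈ R, y * (c * h * c⁻¹) = c * h * c⁻¹ * y → y ∈ D := by
    intro c hc hiff y hy hyc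
    rw [hiff y]
    have hx : c⁻¹ * y * c ∈ C := Subgroup.mem_centralizer_singleton_iff.mpr (by
      calc c⁻¹ * y * c * h = c⁻¹ * (y * (c * h * c⁻¹)) * c := by group
        _ = c⁻¹ * (c * h * c⁻¹ * y) * c := by rw [hyc]
        _ = _ := by group)
    refine F.odd_normal hx (R.map (MulAut.conj c⁻¹).toMonoidHom) ?_ ⟨y, hy, by simp⟩ ?_
    · rw [Subgroup.card_map_of_injective (MulEquiv.injective _)]; exact hRodd
    · intro z hz
      refine ⟨c * z * c⁻¹ * y * (c * z * c⁻¹)⁻¹, hRconj _ (hc (Subgroup.mem_centralizer_singleton_iff.mpr ?_)) y hy,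
        by simp [mul_assoc]⟩
      calc c * z * c⁻¹ * (c * h * c⁻¹) = c * (z * h) * c⁻¹ := by group
        _ = c * (h * z) * c⁻¹ := by rw [Subgroup.mem_centralizer_singleton_iff.mp hz]
        _ = _ := by group
  have hRD : R ≤ D := by
    set V := Subgroup.closure ({h, u} : Set G) with hV
    have huh : u * h = h * u := Subgroup.mem_centralizer_singleton_iff.mp huC
    have hVC : V ≤ C := (Subgroup.closure_le _).mpr (Set.insert_subset F.hmem (Set.singleton_subset_iff.mpr huC))
    haveI : IsMulCommutative V := by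
      refine Subgroup.isMulCommutative_closure ?_
      rintro a (rfl | rfl) b (rfl | rfl)
      exacts [rfl, huh.symm, huh, rfl]
    have hVmem : ∀ g ∈ V, g = 1 ∨ g = h ∨ g = u ∨ g = h * u := by
      intro g hg
      induction hg using Subgroup.closure_induction with
      | mem a ha => rcases ha with rfl | rfl <;> simp
      | one => exact Or.inl rfl
      | mul a b _ _ ha hb =>
        have e1 : ∀ x, h * (h * x) = x := fun x => by rw [← mul_assoc, hh, one_mul]
        have e3 : ∀ x, u * (h * x) = h * (u * x) := fun x => by rw [← mul_assoc, huh, mul_assoc]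
        rcases ha with rfl | rfl | rfl | rfl <;> rcases hb with rfl | rfl | rfl | rfl <;>
          simp [mul_assoc, hh, u2, huh, e1, e3]
      | inv a _ ha =>
        rcases ha with rfl | rfl | rfl | rfl
        · simp
        · simp [inv_eq_of_mul_eq_one_right hh]
        · simp [inv_eq_of_mul_eq_one_right u2]
        · simp [inv_eq_of_mul_eq_one_right hh, inv_eq_of_mul_eq_one_right u2, huh]
    have hVn : ¬ IsCyclic V := by
      intro hc
      have huV : u ∈ V := Subgroup.subset_closure (Or.inr rfl)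
      have hhV : h ∈ V := Subgroup.subset_closure (Or.inl rfl)
      haveI := Fintype.ofFinite V
      have h2 := hc.card_pow_eq_one_le (n := 2) (by norm_num)
      have : ({1, ⟨h, hhV⟩, ⟨u, huV⟩} : Finset V) ⊆ Finset.univ.filter (fun a : V => a ^ 2 = 1) := by
        intro a ha
        simp only [Finset.mem_insert, Finset.mem_singleton] at ha
        rcases ha with rfl | rfl | rfl <;> simp [Subtype.ext_iff, pow_two, hh, u2]
      have h3 := (Finset.card_le_card this).trans h2
      rw [Finset.card_insert_of_notMem (by simp [Subtype.ext_iff, h1.symm, u1.symm]),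
        Finset.card_insert_of_notMem (by simp [Subtype.ext_iff, uh.symm]), Finset.card_singleton] at h3
      omega
    have hgen := coprime_generated_by_centralizers hVn (K := R)
      (fun g hg => Subgroup.mem_normalizer_iff.mpr fun y => ⟨hRconj g (hCH (hVC hg)) y, fun hy => by
        have := hRconj g⁻¹ (inv_mem (hCH (hVC hg))) _ hy
        simpa [mul_assoc] using this⟩)
      (by
        have hle : Nat.card V ∣ 4 := by
          haveI : Fact (Nat.Prime 2) := ⟨Nat.prime_two⟩
          have hV4 : Nat.card V ≤ 4 := (Nat.card_le_card_of_surjective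
            (fun i : Fin 4 => (⟨![1, h, u, h * u] i, by
              fin_cases i
              exacts [one_mem _, Subgroup.subset_closure (Or.inl rfl), Subgroup.subset_closure (Or.inr rfl),
                mul_mem (Subgroup.subset_closure (Or.inl rfl)) (Subgroup.subset_closure (Or.inr rfl))]⟩ : V))
            (fun a => by
              rcases hVmem a a.2 with e | e | e | e
              exacts [⟨0, Subtype.ext e.symm⟩, ⟨1, Subtype.ext e.symm⟩, ⟨2, Subtype.ext e.symm⟩,
                ⟨3, Subtype.ext e.symm⟩])).trans (by simp)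
          have h2 : 2 ∣ Nat.card V := by
            rw [← orderOf_eq_prime (p := 2) (by rw [pow_two, hh]) h1]
            simpa using orderOf_dvd_natCard (⟨h, Subgroup.subset_closure (Or.inl rfl)⟩ : V)
          have hpos : 0 < Nat.card V := Nat.card_pos
          obtain ⟨j, hj⟩ := h2
          have : j = 1 ∨ j = 2 := by omega
          rcases this with rfl | rfl <;> rw [hj] <;> norm_num
        refine Nat.Coprime.coprime_dvd_left hle ?_
        rw [show 4 = 2 ^ 2 from rfl]
        exact (Nat.coprime_two_left.mpr hRodd).pow_left 2)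
    rw [← hgen]
    refine iSup₂_le fun a ha y hy => ?_
    have hy2 : y * a = a * y := Subgroup.mem_centralizer_singleton_iff.mp hy.2
    obtain ⟨c, hc⟩ : ∃ c, c * h * c⁻¹ = a := by
      refine hconj ?_ ha.2
      rcases hVmem a ha.1 with rfl | rfl | rfl | rfl
      · simp
      · exact hh
      · exact u2
      · rw [show h * u * (h * u) = h * (u * h) * u by group, huh, ← mul_assoc, hh, one_mul, u2]
    by_cases hah : a = h
    · subst hah
      exact F.odd_normal (Subgroup.mem_centralizer_singleton_iff.mpr hy2) R hRodd hy.1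
        (fun c hc => hRconj c (hCH hc) y hy.1)
    · obtain ⟨s1, s2⟩ := F.same_core (c := c) (by rw [hc]; exact hVC ha.1) (by rw [hc]; exact hah)
      exact hRC c s1 s2 y hy.1 (by rw [hc]; exact hy2)
  -- no subgroup of index two
  have hDodd : ∀ {y : G}, y ∈ D → Odd (orderOf y) := fun {y} hy =>
    hodd.of_dvd_nat (by simpa using orderOf_dvd_natCard (⟨y, hy⟩ : D))
  have hSH : (H.S : Subgroup G) ≤ HD := hS.trans hCH
  have hno : ∀ N : Subgroup HD, N.index ≠ 2 := by
    intro N hN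
    haveI := Subgroup.normal_of_index_eq_two hN
    have hsq : ∀ a : G, ∀ ha : a ∈ HD, (⟨a * a, mul_mem ha ha⟩ : HD) ∈ N := fun a ha =>
      Subgroup.sq_mem_of_index_two hN ⟨a, ha⟩ |> (fun e => by rwa [pow_two] at e)
    have hinvN : ∀ a : G, ∀ ha : a ∈ C, a * a = 1 → a ≠ 1 → (⟨a, hCH ha⟩ : HD) ∈ N := by
      intro a ha a2 a1
      obtain ⟨q, hq, hqq⟩ := F.exists_sqrt
      obtain ⟨c, hc⟩ := hconj a2 a1
      by_cases hah : a = h
      · subst hah
        simpa [hqq] using hsq q (hCH hq)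
      have s1 := (F.same_core (c := c) (by rw [hc]; exact ha) (by rw [hc]; exact hah)).1
      have hmem : c * q * c⁻¹ ∈ HD := s1 (Subgroup.mem_centralizer_singleton_iff.mpr (by
        rw [show c * q * c⁻¹ * (c * h * c⁻¹) = c * (q * h) * c⁻¹ by group,
          Subgroup.mem_centralizer_singleton_iff.mp hq]
        group))
      have := hsq _ hmem
      simpa [show c * q * c⁻¹ * (c * q * c⁻¹) = a by rw [← hc, ← hqq]; group] using this
    have hDN : ∀ d : G, ∀ hd : d ∈ D, ∀ hd' : d ∈ HD, (⟨d, hd'⟩ : HD) ∈ N := by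
      intro d hd hd'
      obtain ⟨m, hm⟩ := hDodd hd
      have := hsq (d ^ (m + 1)) (pow_mem hd' _)
      have e : d ^ (m + 1) * d ^ (m + 1) = d := by
        rw [← pow_add, show m + 1 + (m + 1) = orderOf d + 1 by omega, pow_succ, pow_orderOf_eq_one, one_mul]
      simpa only [e] using this
    have hall : ∀ c : C, (⟨c, hCH c.2⟩ : HD) ∈ N := by
      let N' := N.comap (Subgroup.inclusion hCH)
      intro c
      show c ∈ N'
      have hk' : F.f.ker ≤ N' := fun d hd => hDN d (F.mem_D.mp hd) _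
      have him : F.f c ∈ N'.map F.f := by
        obtain ⟨q, hq, hb⟩ := m3_sq _ (gl_det_ne (F.f c))
        have hqm : ∀ g : GL (Fin 2) (ZMod 3), g * g ∈ N'.map F.f := fun g => by
          obtain ⟨z, rfl⟩ := F.hsurj g
          refine ⟨z * z, ?_, map_mul _ _ _⟩
          exact hsq _ (hCH z.2)
        have hm1 : (-1 : GL (Fin 2) (ZMod 3)) ∈ N'.map F.f := ⟨⟨h, F.hmem⟩, hinvN h F.hmem hh h1, F.f_h⟩
        have hd : glRef ∈ N'.map F.f := ⟨u₀, hinvN u huC u2 u1, hfu⟩
        set g := Matrix.GeneralLinearGroup.mkOfDetNeZero q hq with hg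
        rcases hb with e | e | e | e
        · rw [show F.f c = g * g from Units.ext e]; exact hqm g
        · rw [show F.f c = -1 * (g * g) from Units.ext (by rw [e]; simp [hg])]
          exact mul_mem hm1 (hqm g)
        · rw [show F.f c = glRef * (g * g) from Units.ext e]; exact mul_mem hd (hqm g)
        · rw [show F.f c = glRef * (-1 * (g * g)) from Units.ext (by
            rw [e, Units.val_mul, Units.val_mul, Units.val_mul, Units.val_neg, Units.val_one, neg_one_mul]; rfl)]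
          exact mul_mem hd (mul_mem hm1 (hqm g))
      obtain ⟨z, hz, hzc⟩ := him
      have : z⁻¹ * c ∈ N' := hk' (by rw [MonoidHom.mem_ker, map_mul, map_inv, hzc, inv_mul_cancel])
      simpa using mul_mem hz this
    have hle2 : (H.S : Subgroup G) ≤ N.map HD.subtype := fun s hs => ⟨⟨s, hSH hs⟩, hall ⟨s, hS hs⟩, rfl⟩
    refine H.S.not_dvd_index ((show 2 ∣ (N.map HD.subtype).index from ?_).trans (Subgroup.index_dvd_of_le hle2))
    rw [Subgroup.index_map_subtype, hN]
    exact dvd_mul_right 2 _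
  -- the simple normal subgroup of odd index
  obtain ⟨L, hLn, hLodd, hLs, -⟩ := CfsgLib.QDWNoTwo.main (H.S.subtype hSH)
    (Or.inl (CfsgLib.GLTwoSylow.isQuasiDihedral_congr (Subgroup.subgroupOfEquivOfLe hSH).symm H.quasi)) hno
  haveI := hLn
  haveI := hLs
  set π := QuotientGroup.mk' (oddCore HD)
  have hker' : ∀ y : HD, π y = 1 ↔ (y : G) ∈ D := fun y => by
    rw [← MonoidHom.mem_ker, QuotientGroup.ker_mk']
    refine ⟨fun e => hRD ⟨y, e, rfl⟩, fun e => ?_⟩
    have hn : (D.subgroupOf HD).Normal := ⟨fun d hd g => by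
      rw [Subgroup.mem_subgroupOf] at hd ⊢
      have := Subgroup.mem_centralizer_iff.mp g.2 _ hd
      simp only [Subgroup.coe_mul, Subgroup.coe_inv, ← this]
      simpa [mul_assoc] using hd⟩
    refine le_pPrimeCore (N := D.subgroupOf HD) ?_ (Subgroup.mem_subgroupOf.mpr e)
    exact Nat.coprime_two_right.mpr (hodd.of_dvd_nat (Subgroup.card_dvd_of_injective
      ((Subgroup.subtype HD).comp (D.subgroupOf HD).subtype |>.codRestrict D fun z => z.2)
      fun a b e => Subtype.ext (Subtype.ext (congrArg Subtype.val e :))))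
  have hDsq : ∀ {a b : G}, a ∈ HD → a * a = 1 → a * b * a * b⁻¹ ∈ D → a * b = b * a := by
    intro a b ha a2 hd
    set d := a * b * a * b⁻¹ with hdd
    have hac : d * a = a * d := Subgroup.mem_centralizer_iff.mp ha d hd
    have e : b = d * d * b := by
      calc b = a * a * b * (a * a) := by rw [a2, one_mul, mul_one]
        _ = a * (d * b) * a := by rw [hdd]; group
        _ = (a * d) * (b * a) := by group
        _ = (d * a) * (b * a) := by rw [hac]
        _ = d * (a * b * a * b⁻¹) * b := by group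
    have hd1 : d = 1 := eq_one_of_sq_mem hodd hd (by
      have := congrArg (· * b⁻¹) e
      simpa [mul_assoc] using this.symm)
    calc a * b = d * b * a⁻¹ := by rw [hdd]; group
      _ = b * a := by rw [hd1, one_mul, inv_eq_of_mul_eq_one_right a2]
  have hhH : h ∈ HD := hCH F.hmem
  set hb := π ⟨h, hhH⟩ with hhb
  have hb1 : hb ≠ 1 := fun e => h1 (eq_one_of_sq_mem hodd ((hker' _).mp e) hh)
  have hb2 : hb * hb = 1 := by rw [hhb, ← map_mul, ← map_one π]; exact congrArg π (Subtype.ext hh)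
  have hcenb : ∀ y : HD, π y * hb = hb * π y → (y : G) ∈ C := by
    intro y hy
    refine Subgroup.mem_centralizer_singleton_iff.mpr (hDsq hhH hh ?_).symm
    refine (hker' (⟨h, hhH⟩ * y * ⟨h, hhH⟩ * y⁻¹)).mp ?_
    rw [map_mul, map_mul, map_mul, map_inv, mul_assoc hb (π y) hb, hy, ← mul_assoc hb, hb2, one_mul, mul_inv_cancel]
  let φ := π.comp (Subgroup.inclusion hCH)
  have hφk : φ.ker = F.f.ker := Subgroup.ext fun c => by
    rw [MonoidHom.mem_ker, MonoidHom.mem_ker, F.mem_D]; exact hker' _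
  have hφr : φ.range = Subgroup.centralizer {hb} := le_antisymm
    (by
      rintro _ ⟨c, rfl⟩
      refine Subgroup.mem_centralizer_singleton_iff.mpr ?_
      show π _ * π _ = π _ * π _
      rw [← map_mul, ← map_mul]
      exact congrArg π (Subtype.ext (Subgroup.mem_centralizer_singleton_iff.mp c.2)))
    (fun z hz => by
      obtain ⟨y, rfl⟩ := QuotientGroup.mk'_surjective _ z
      exact ⟨⟨y, hcenb y (Subgroup.mem_centralizer_singleton_iff.mp hz)⟩, rfl⟩)
  obtain ⟨eC⟩ : Nonempty (Subgroup.centralizer {hb} ≃* GL (Fin 2) (ZMod 3)) :=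
    ⟨(MulEquiv.subgroupCongr hφr.symm).trans ((QuotientGroup.quotientKerEquivRange φ).symm.trans
      ((QuotientGroup.quotientMulEquivOfEq hφk).trans (QuotientGroup.quotientKerEquivOfSurjective F.f F.hsurj)))⟩
  have htwo : ∀ z : HD ⧸ oddCore HD, ∀ j : ℕ, z ^ 2 ^ j = 1 → z ∈ L := by
    intro z j hz
    rw [← QuotientGroup.eq_one_iff]
    have h2 : (z : (HD ⧸ oddCore HD) ⧸ L) ^ 2 ^ j = 1 := by rw [← QuotientGroup.mk_pow, hz]; rfl
    refine orderOf_eq_one_iff.mp (Nat.eq_one_of_dvd_coprimes ?_ (orderOf_dvd_of_pow_eq_one h2) (orderOf_dvd_natCard _))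
    rw [← Subgroup.index_eq_card]
    exact ((Nat.coprime_two_left.mpr hLodd).pow_left j)
  have hbL : hb ∈ L := htwo hb 1 (by rw [pow_one, pow_two, hb2])
  -- the element of order three
  set w : C := u₀ * u₁ with hw
  have hwD : F.f w ≠ 1 := by rw [hw, map_mul, hfu, hfu']; exact fun e => absurd (congrArg Units.val e) (by decide)
  have hwinv : u * (w : G) * u = (w : G)⁻¹ := by
    have e1 : ((u₁ : C) : G) * u₁ = 1 := congrArg Subtype.val hu₁
    rw [hw, Subgroup.coe_mul, mul_inv_rev, inv_eq_of_mul_eq_one_right e1, ← hu, inv_eq_of_mul_eq_one_right u2,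
      ← mul_assoc u, u2, one_mul]
  have hw3 : (w : G) * w * w = 1 := by
    have hd : (w : G) * w * w ∈ D := F.mem_D (c := w * w * w) |>.mp (by
      rw [map_mul, map_mul, hw, map_mul, hfu, hfu']; exact Units.ext (by decide))
    refine eq_one_of_sq_mem hodd hd ?_
    have e1 : u * ((w : G) * w * w) * u = ((w : G) * w * w)⁻¹ := by
      rw [show u * ((w : G) * w * w) * u = (u * w * u) * (u * w * u) * (u * w * u) by
        rw [show u * (w : G) * u * (u * w * u) * (u * w * u) = u * w * (u * u) * w * (u * u) * w * u by group, u2]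
        group, hwinv]
      group
    rw [← F.comm_D huC hd, mul_assoc, u2, mul_one] at e1
    nth_rewrite 2 [e1]
    exact mul_inv_cancel _
  set wb := π ⟨w, hCH w.2⟩ with hwb
  have hwb1 : wb ≠ 1 := fun e => hwD (F.mem_D.mpr ((hker' _).mp e))
  have hwbL : wb ∈ L := by
    have hmemL : ∀ z : C, z * z = 1 → π ⟨z, hCH z.2⟩ ∈ L := fun z hz => htwo _ 1 (by
      rw [pow_one, pow_two, ← map_mul, ← map_one π]
      exact congrArg π (Subtype.ext (congrArg Subtype.val hz :)))
    rw [hwb, show (⟨w, hCH w.2⟩ : HD) = ⟨u₀, hCH u₀.2⟩ * ⟨u₁, hCH u₁.2⟩ from Subtype.ext rfl, map_mul]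
    exact mul_mem (hmemL _ hu₀) (hmemL _ hu₁)
  have hwb3 : orderOf wb = 3 := orderOf_eq_prime (by
    rw [pow_succ, pow_two, hwb, ← map_mul, ← map_mul, ← map_one π]; exact congrArg π (Subtype.ext hw3)) hwb1
  have hwh : wb * hb = hb * wb := by
    rw [hwb, hhb, ← map_mul, ← map_mul]
    exact congrArg π (Subtype.ext (Subgroup.mem_centralizer_singleton_iff.mp w.2))
  -- the centraliser in `L`
  have hwbC : wb ∈ Subgroup.centralizer {hb} := Subgroup.mem_centralizer_singleton_iff.mpr hwh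
  have hcard48 : Nat.card (Subgroup.centralizer {hb}) = 48 := (Nat.card_congr eC.toEquiv).trans card_gl
  have hCL : Subgroup.centralizer {hb} ≤ L := by
    have h3 : 3 ∣ Nat.card ↥(L ⊓ Subgroup.centralizer {hb}) := by
      rw [← hwb3]
      have := orderOf_dvd_natCard (⟨wb, hwbL, hwbC⟩ : ↥(L ⊓ Subgroup.centralizer {hb}))
      rwa [← Subgroup.orderOf_coe] at this
    have h16 : 16 ∣ Nat.card ↥(L ⊓ Subgroup.centralizer {hb}) := by
      let ψ : (H.S : Subgroup G) →* HD ⧸ oddCore HD := π.comp (Subgroup.inclusion hSH)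
      have hinj : Function.Injective ψ := by
        refine (injective_iff_map_eq_one ψ).mpr fun s hs => ?_
        obtain ⟨j, hj⟩ := H.S.2.exists_card_eq (G := (H.S : Subgroup G))
        have hd : (s : G) ∈ D := (hker' _).mp hs
        refine Subtype.ext (orderOf_eq_one_iff.mp (Nat.eq_one_of_dvd_coprimes (a := Nat.card D) (b := 2 ^ j)
          ((Nat.coprime_two_right.mpr hodd).pow_right j)
          (by simpa using orderOf_dvd_natCard (⟨_, hd⟩ : D)) ?_))
        rw [← hj]
        simpa using orderOf_dvd_natCard s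
      refine h16S.trans ?_
      rw [Nat.card_congr (MonoidHom.ofInjective hinj).toEquiv]
      refine Subgroup.card_dvd_of_le ?_
      rintro _ ⟨s, rfl⟩
      obtain ⟨j, hj⟩ := H.S.2.exists_card_eq (G := (H.S : Subgroup G))
      refine ⟨htwo _ j (by rw [← map_pow, ← hj, pow_card_eq_one', map_one]), ?_⟩
      rw [SetLike.mem_coe, ← hφr]
      exact ⟨⟨s, hS s.2⟩, rfl⟩
    have h48 : 48 ∣ Nat.card ↥(L ⊓ Subgroup.centralizer {hb}) :=
      (show Nat.Coprime 16 3 by norm_num).mul_dvd_of_dvd_of_dvd h16 h3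
    have heq : L ⊓ Subgroup.centralizer {hb} = Subgroup.centralizer {hb} :=
      Subgroup.eq_of_le_of_card_ge inf_le_right (hcard48 ▸ Nat.le_of_dvd Nat.card_pos h48)
    exact heq ▸ inf_le_left
  set ht : L := ⟨hb, hbL⟩
  let θ : Subgroup.centralizer ({ht} : Set L) →* Subgroup.centralizer ({hb} : Set (HD ⧸ oddCore HD)) :=
    { toFun := fun z => ⟨((z : L) : HD ⧸ oddCore HD), Subgroup.mem_centralizer_singleton_iff.mpr
        (congrArg Subtype.val (Subgroup.mem_centralizer_singleton_iff.mp z.2) :)⟩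
      map_one' := rfl
      map_mul' := fun _ _ => rfl }
  have hθ : Function.Bijective θ := ⟨fun a b hab => Subtype.ext (Subtype.ext (congrArg Subtype.val hab :)), fun z =>
    ⟨⟨⟨z, hCL z.2⟩, Subgroup.mem_centralizer_singleton_iff.mpr
      (Subtype.ext (Subgroup.mem_centralizer_singleton_iff.mp z.2))⟩, rfl⟩⟩
  have e : Subgroup.centralizer ({ht} : Set L) ≃* GL (Fin 2) (ZMod 3) := (MulEquiv.ofBijective θ hθ).trans eC
  have h9 : 3 ^ 2 ∣ Nat.card L := by
    rcases Cfsg.Agent.S0197.result ht (orderOf_eq_prime (by rw [pow_two]; exact Subtype.ext hb2)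
      fun e' => hb1 (congrArg Subtype.val e')) e with e' | e' <;> rw [e'] <;> norm_num
  have hzp : IsPGroup 3 (Subgroup.zpowers (⟨wb, hwbL⟩ : L)) :=
    IsPGroup.of_card (n := 1) (by rw [Nat.card_zpowers, Subgroup.orderOf_mk, hwb3, pow_one])
  obtain ⟨P, hP⟩ := hzp.exists_le_sylow
  have hwP : (⟨wb, hwbL⟩ : L) ∈ (P : Subgroup L) := hP (Subgroup.mem_zpowers _)
  have hP9 : 9 ≤ Nat.card (P : Subgroup L) :=
    Nat.le_of_dvd Nat.card_pos (P.pow_dvd_card_of_pow_dvd_card h9)
  obtain ⟨y, hyP, hyw, hyn⟩ : ∃ y ∈ (P : Subgroup L), y * ⟨wb, hwbL⟩ = ⟨wb, hwbL⟩ * y ∧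
      y ∉ Subgroup.zpowers (⟨wb, hwbL⟩ : L) := by
    set W := Subgroup.zpowers (⟨wb, hwbL⟩ : L) with hW
    have hW3 : Nat.card W = 3 := by rw [hW, Nat.card_zpowers, Subgroup.orderOf_mk, hwb3]
    by_cases hz : (Subgroup.center (P : Subgroup L)).map (P : Subgroup L).subtype ≤ W
    · haveI : Nontrivial (P : Subgroup L) := Finite.one_lt_card_iff_nontrivial.mp (by omega)
      haveI := P.2.center_nontrivial
      have heq : (Subgroup.center (P : Subgroup L)).map (P : Subgroup L).subtype = W := by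
        refine Subgroup.eq_of_le_of_card_ge hz ?_
        have hd := Subgroup.card_dvd_of_le hz
        have hlt : 1 < Nat.card ↥((Subgroup.center (P : Subgroup L)).map (P : Subgroup L).subtype) := by
          rw [Subgroup.card_map_of_injective (P : Subgroup L).subtype_injective]
          exact Finite.one_lt_card
        rw [hW3] at hd ⊢
        rcases (Nat.dvd_prime Nat.prime_three).mp hd with e' | e' <;> omega
      obtain ⟨y, hyP, hy⟩ := SetLike.exists_of_lt (lt_of_le_of_ne hP fun e' => by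
        rw [← e', hW3] at hP9; omega)
      obtain ⟨z, hz', hz''⟩ := heq.ge (Subgroup.mem_zpowers (⟨wb, hwbL⟩ : L))
      refine ⟨y, hyP, ?_, hy⟩
      rw [← hz'']
      exact congrArg Subtype.val (Subgroup.mem_center_iff.mp hz' ⟨y, hyP⟩)
    · obtain ⟨_, ⟨y, hy, rfl⟩, hn⟩ := SetLike.not_le_iff_exists.mp hz
      exact ⟨y, y.2, (congrArg Subtype.val (Subgroup.mem_center_iff.mp hy ⟨_, hwP⟩) :).symm, hn⟩
  set ht' : L := y with hy'
  have hyc : ¬ (y : HD ⧸ oddCore HD) ∈ Subgroup.centralizer {hb} := by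
    intro hyc
    refine hyn ?_
    let W' := ((P : Subgroup L).map L.subtype) ⊓ Subgroup.centralizer {hb}
    have hW'p : IsPGroup 3 W' := (P.2.map L.subtype).to_le inf_le_left
    obtain ⟨j, hj⟩ := hW'p.exists_card_eq
    have hd : 3 ^ j ∣ 48 := by rw [← hj, ← hcard48]; exact Subgroup.card_dvd_of_le inf_le_right
    have hj1 : j ≤ 1 := by
      by_contra hj'
      have := (pow_dvd_pow 3 (show 2 ≤ j by omega)).trans hd
      norm_num at this
    have heq : Subgroup.zpowers wb = W' := Subgroup.eq_of_le_of_card_ge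
      (Subgroup.zpowers_le.mpr ⟨⟨_, hwP, rfl⟩, hwbC⟩) (by
        rw [hj, Nat.card_zpowers, hwb3]
        calc 3 ^ j ≤ 3 ^ 1 := Nat.pow_le_pow_right (by norm_num) hj1
          _ = 3 := pow_one 3)
    have hyW : (y : HD ⧸ oddCore HD) ∈ W' := ⟨⟨_, hyP, rfl⟩, hyc⟩
    rw [← heq] at hyW
    obtain ⟨i, hi⟩ := hyW
    exact ⟨i, Subtype.ext (by simpa using hi)⟩
  obtain ⟨y₀, hy₀⟩ := QuotientGroup.mk'_surjective (oddCore HD) (y : HD ⧸ oddCore HD)
  refine hyc (Subgroup.mem_centralizer_singleton_iff.mpr ?_)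
  set k : G := (y₀ : G) * h * (y₀ : G)⁻¹ with hk
  have hkH : k ∈ HD := mul_mem (mul_mem y₀.2 hhH) (inv_mem y₀.2)
  have k2 : k * k = 1 := by rw [hk, show (y₀:G) * h * (y₀:G)⁻¹ * ((y₀:G) * h * (y₀:G)⁻¹) = (y₀:G) * (h * h) * (y₀:G)⁻¹ by group, hh, mul_one, mul_inv_cancel]
  have k1 : k ≠ 1 := fun e' => h1 (conj_eq_one_iff.mp e')
  have hπk : π ⟨k, hkH⟩ = (y : HD ⧸ oddCore HD) * hb * (y : HD ⧸ oddCore HD)⁻¹ := by
    rw [← hy₀, hhb, ← map_inv, ← map_mul, ← map_mul]; rfl
  have hkw : k * (w : G) = (w : G) * k := by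
    refine hDsq hkH k2 ((hker' (⟨k, hkH⟩ * ⟨w, hCH w.2⟩ * ⟨k, hkH⟩ * ⟨w, hCH w.2⟩⁻¹)).mp ?_)
    have e1 : (y : HD ⧸ oddCore HD) * wb = wb * (y : HD ⧸ oddCore HD) := congrArg Subtype.val hyw
    have hc1 : Commute ((y : HD ⧸ oddCore HD)) wb := e1
    have hc2 : Commute hb wb := hwh.symm
    have e2 : Commute (π ⟨k, hkH⟩) wb := hπk ▸ (hc1.mul_left hc2).mul_left hc1.inv_left
    rw [map_mul, map_mul, map_mul, map_inv, mul_assoc (π ⟨k, hkH⟩), ← hwb, ← e2.eq, ← mul_assoc,
      ← map_mul π ⟨k, hkH⟩, show (⟨k, hkH⟩ * ⟨k, hkH⟩ : HD) = 1 from Subtype.ext k2, map_one, one_mul, mul_inv_cancel]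
  have hwG1 : (w : G) ≠ 1 := fun e' => hwD (by rw [show w = 1 from Subtype.ext e', map_one])
  have hwo : orderOf (w : G) = 3 := orderOf_eq_prime (by rw [pow_succ, pow_two]; exact hw3) hwG1
  have := H.inverted h u w hh h1 u2 u1 uh (Subgroup.mem_centralizer_singleton_iff.mp huC) hwG1
    (by rw [hwo]; decide) (Subgroup.mem_centralizer_singleton_iff.mp w.2) hwinv k k2 k1 hkw
  have e3 : π ⟨k, hkH⟩ = hb := congrArg π (Subtype.ext this)
  rw [hπk] at e3
  exact mul_inv_eq_iff_eq_mul.mp e3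

end CfsgLib.OvalPlane.SD
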