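import Cfsg.Agent.Lib.OvalPlane.SDEndLocal
import Cfsg.Agent.Lib.OvalPlane.SDCentral
import Cfsg.Agent.Lib.OvalPlane.SDFinish

/-!
The semidihedral case does not occur.
-/

set_option autoImplicit false

namespace CfsgLib.OvalPlane.SD

universe w

/-- No simple group satisfies the geometric consequences of the semidihedral case. -/
theorem sd_false {G : Type w} [Group G] [Finite G] [IsSimpleGroup G] (hG : ¬ IsMulCommutative G)
    (H : SDHyp G) : False := by
  obtain ⟨z, s, K, Q, f, hS, L, hf, hker⟩ := local_data H
  refine finish hG H (h := z) (by rw [← pow_two, ← L.hz]; exact pow_orderOf_eq_one z) (fun e => ?_) hS K L.hKodd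
    L.hKC (fun c hc => Subgroup.mem_centralizer_iff.2 fun u hu => (L.central hG c hc u hu).symm) f hf hker
  have h := L.hz
  rw [e, orderOf_one] at h
  norm_num at h

end CfsgLib.OvalPlane.SD
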