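import Cfsg.Agent.Lib.OvalPlane.SDEndQuot
import Cfsg.Agent.Lib.OvalPlane.SDCoreData
import Cfsg.Agent.Lib.OvalPlane.SDInterface
import Cfsg.Agent.Lib.SuborbitGroups.SDCore

/-!
The semidihedral case: the centraliser of an involution modulo its odd core is `GL(2,3)` and the quaternion
part centralises the core.
-/

set_option autoImplicit false
set_option linter.style.haveILetI false
set_option linter.unusedSectionVars false
set_option maxHeartbeats 1000000

namespace CfsgLib.OvalPlane.SD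

open Cfsg
open CfsgLib.SuborbitGroups.SD (eq_one_of_pow_two eq_of_four gm_central_invol gm_invol_det_one)
open CfsgLib.SuborbitGroups

universe w

/-- An automorphism of order two of an odd group, fixing what two further ones fix, is trivial. -/
theorem fixed_of_klein {K : Type*} [Group K] [Finite K] (hodd : Odd (Nat.card K)) {ε ν : MulAut K}
    (hν : ∀ k, ν (ν k) = k) (hε : ∀ k, ε (ε k) = k) (hc : ∀ k, ε (ν k) = ν (ε k))
    (h1 : ∀ k, ν k = k → ε k = k) (h2 : ∀ k, ε (ν k) = k → ε k = k) : ∀ k, ε k = k := by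
  obtain ⟨j, hj⟩ := hodd
  have hroot : ∀ a : K, a ^ (j + 1) * a ^ (j + 1) = a := fun a => by
    have h := pow_card_eq_one' (x := a)
    rw [hj] at h
    rw [← pow_add, show j + 1 + (j + 1) = 2 * j + 1 + 1 by omega, pow_succ, h, one_mul]
  have hinj : ∀ a b : K, a * a = b * b → a = b := fun a b h => by
    rw [← hroot a, ← hroot b, ← (Commute.refl a).mul_pow, ← (Commute.refl b).mul_pow, h]
  have hdec : ∀ k, ∃ c i, ν c = c ∧ ν i = i⁻¹ ∧ k = c * i := fun k => by
    set m := (ν k)⁻¹ * k with hm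
    have hνm : ν m = m⁻¹ := by rw [hm, map_mul, map_inv, hν, mul_inv_rev, inv_inv]
    refine ⟨k * (m ^ (j + 1))⁻¹, m ^ (j + 1), ?_, by rw [map_pow, hνm, inv_pow], by group⟩
    rw [map_mul, map_inv, map_pow, hνm, inv_pow, inv_inv,
      show ν k = k * m⁻¹ by rw [hm]; group, mul_assoc]
    congr 1
    refine mul_left_cancel (a := m) (mul_right_cancel (b := m ^ (j + 1)) ?_)
    rw [mul_inv_cancel_left, hroot, mul_assoc, inv_mul_cancel, mul_one]
  have huniq : ∀ c i c' i', ν c = c → ν i = i⁻¹ → ν c' = c' → ν i' = i'⁻¹ → c * i = c' * i' → c = c' := by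
    intro c i c' i' hc1 hi1 hc2 hi2 h
    have h' : c * i⁻¹ = c' * i'⁻¹ := by
      have e := congrArg ν h
      rwa [map_mul, map_mul, hc1, hi1, hc2, hi2] at e
    have hii : i = i' := by
      refine hinj i i' ?_
      have e1 : (c * i⁻¹)⁻¹ * (c * i) = (c' * i'⁻¹)⁻¹ * (c' * i') := by rw [h, h']
      simpa [mul_assoc] using e1
    rw [hii] at h
    exact mul_right_cancel h
  have hI : ∀ x, ε x = x⁻¹ → x = 1 := by
    intro x hx
    obtain ⟨c, i, hc1, hi1, rfl⟩ := hdec x
    have hεc := h1 c hc1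
    have hεi : ν (ε i) = (ε i)⁻¹ := by rw [← hc, hi1, map_inv]
    rw [map_mul, hεc, mul_inv_rev] at hx
    have hcc : c = c⁻¹ := huniq c (ε i) c⁻¹ (c * i⁻¹ * c⁻¹) hc1 hεi (by rw [map_inv, hc1])
      (by rw [map_mul, map_mul, map_inv, map_inv, hc1, hi1, mul_inv_rev, mul_inv_rev, inv_inv, inv_inv, mul_assoc])
      (by rw [hx]; group)
    have hc' : c = 1 := hinj c 1 (by rw [one_mul]; nth_rewrite 2 [hcc]; rw [mul_inv_cancel])
    subst hc'
    rw [inv_one, mul_one, one_mul] at hx
    rw [one_mul]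
    have h3 : ε i = i := h2 i (by rw [hi1, map_inv, hx, inv_inv])
    exact hinj i 1 (by rw [one_mul]; nth_rewrite 2 [← h3]; rw [hx, mul_inv_cancel])
  intro k
  refine (inv_mul_eq_one.1 (hI (k⁻¹ * ε k) ?_)).symm
  rw [map_mul, map_inv, hε, mul_inv_rev, inv_inv]

variable {G : Type w} [Group G] [Finite G]

/-- The local structure. -/
theorem local_data [IsSimpleGroup G] (H : SDHyp G) :
    ∃ (z s : G) (K Q : Subgroup G) (f : Subgroup.centralizer ({z} : Set G) →* GL (Fin 2) (ZMod 3)),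
      (H.S : Subgroup G) ≤ Subgroup.centralizer ({z} : Set G) ∧ CoreData z s K Q ∧ Function.Surjective f ∧
        f.ker = K.subgroupOf (Subgroup.centralizer ({z} : Set G)) := by
  classical
  haveI : Fact (Nat.Prime 2) := ⟨Nat.prime_two⟩
  letI := Fintype.ofFinite G
  set S := H.S with hSdef
  obtain ⟨n, hn, hcardS, d, hdM⟩ := CfsgLib.QD.exists_data (show IsQuasiDihedral ↥(S : Subgroup G) from H.quasi)
  set z : G := ((d.z : (S : Subgroup G)) : G) with hzdef
  set v : G := ((d.y : (S : Subgroup G)) : G) with hvdef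
  have hzS : z ∈ (S : Subgroup G) := (d.z : (S : Subgroup G)).2
  have hvS : v ∈ (S : Subgroup G) := (d.y : (S : Subgroup G)).2
  have hz : orderOf z = 2 := by rw [hzdef, Subgroup.orderOf_coe, CfsgLib.QD.orderOf_z]
  have hz2 : z * z = 1 := CfsgLib.Involutions.mul_self_eq_one_of_orderOf hz
  have hz1 : z ≠ 1 := fun e => by rw [e, orderOf_one] at hz; norm_num at hz
  have hv2 : v * v = 1 := congrArg Subtype.val (CfsgLib.QD.hyy d)
  have hv1 : v ≠ 1 := fun e => by
    have h := d.hy
    rw [← Subgroup.orderOf_coe, ← hvdef, e, orderOf_one] at h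
    norm_num at h
  have hvz : v ≠ z := fun e => CfsgLib.QD.y_not_mem d (by
    rw [show (d.y : (S : Subgroup G)) = d.z from Subtype.ext e]; exact CfsgLib.QD.z_mem_X d)
  have hvzc : v * z = z * v :=
    congrArg Subtype.val (Subgroup.mem_center_iff.mp (CfsgLib.QD.z_central d) d.y)
  -- the odd part of the centraliser of the four-group
  obtain ⟨D0, hD0odd, hD0c, hD0all⟩ := H.split z v hz2 hv2 hz1 hv1 hvz.symm hvzc.symm
  have hD0mem : ∀ y : G, Odd (orderOf y) → y * z = z * y → y * v = v * y → y ∈ D0 := by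
    intro y hy h1 h2
    obtain ⟨w, hw, hyw⟩ := hD0all y h1 h2
    have hww : w * w = 1 ∧ y * w = w * y := by
      rcases hw with rfl | rfl | rfl | rfl
      · simp
      · exact ⟨hz2, h1⟩
      · exact ⟨hv2, h2⟩
      · exact ⟨by rw [show z * v * (z * v) = z * (v * z) * v by group, hvzc,
          show z * (z * v) * v = z * z * (v * v) by group, hz2, hv2, one_mul],
          by rw [← mul_assoc, h1, mul_assoc, h2, mul_assoc]⟩
    have hw1 : w = 1 := by
      have h3 : (y * w) ^ (orderOf y * Nat.card D0) = 1 :=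
        orderOf_dvd_iff_pow_eq_one.1 ((Subgroup.orderOf_dvd_natCard D0 hyw).trans (dvd_mul_left _ _))
      rwa [(show Commute y w from hww.2).mul_pow, pow_mul, pow_orderOf_eq_one, one_pow, one_mul,
        odd_pow_self hww.1 (hy.mul hD0odd)] at h3
    rwa [hw1, mul_one] at hyw
  -- the centraliser
  set C := Subgroup.centralizer ({z} : Set G) with hC
  have hSC : (S : Subgroup G) ≤ C := fun g hg => Subgroup.mem_centralizer_singleton_iff.mpr
    (congrArg Subtype.val (Subgroup.mem_center_iff.mp (CfsgLib.QD.z_central d) ⟨g, hg⟩))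
  have hvC : v ∈ C := hSC hvS
  have hzC : z ∈ C := hSC hzS
  set O := oddCore C with hO
  have hodd : Odd (Nat.card O) := CfsgLib.odd_card_oddCore
  have hmax : ∀ N : Subgroup C, N.Normal → Odd (Nat.card N) → N ≤ O := fun N hN h => by
    haveI := hN
    exact CfsgLib.le_oddCore h
  have hSinj : ∀ c : C, (c : G) ∈ (S : Subgroup G) → c ∈ O → c = 1 := by
    intro c hcS hcO
    obtain ⟨k, hk⟩ := S.2 ⟨c, hcS⟩
    refine eq_one_of_pow_two hodd hcO (k := k) (Subtype.ext ?_)
    rw [Subgroup.coe_pow]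
    exact congrArg Subtype.val hk
  let vC : C := ⟨v, hvC⟩
  let zC : C := ⟨z, hzC⟩
  have hvCO : vC ∉ O := fun h => hv1 (congrArg Subtype.val (hSinj vC hvS h))
  have hzCO : zC ∉ O := fun h => hz1 (congrArg Subtype.val (hSinj zC hzS h))
  have hvzO : vC * zC ∉ O := fun h => hvz (by
    have h1 : v * z = 1 := congrArg Subtype.val (hSinj (vC * zC) (mul_mem hvS hzS) h)
    calc v = v * (z * z) := by rw [hz2, mul_one]
      _ = z := by rw [← mul_assoc, h1, one_mul])
  have hS16 : 16 ∣ Nat.card (S : Subgroup G) := ⟨d.M, by rw [d.hcard]⟩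
  have h16G : 16 ∣ Nat.card G := hS16.trans (Subgroup.card_subgroup_dvd_card _)
  have h4G : 4 ≤ Nat.card G := le_trans (by norm_num) (Nat.le_of_dvd Nat.card_pos h16G)
  have hidx : ∀ K : Subgroup G, K.index ≠ 2 := fun K hK =>
    CfsgLib.RankTwoSimple.not_index_two h4G (Subgroup.normal_of_index_eq_two hK) hK
  obtain ⟨hI, -⟩ := CfsgLib.RankTwoSimple.classes_of_quasiDihedral S H.quasi h16G
  obtain ⟨F, hF, hFt, hFodd, ⟨e⟩⟩ := Cfsg.Agent.S1240.result S (Or.inl H.quasi) hidx
    (fun a b ha hb => CfsgLib.RankTwoSimple.isConj_of_card_classes hI ha hb) z hz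
  let f : C →* C ⧸ O := QuotientGroup.mk' O
  have hSfinj : ∀ a b : C, (a : G) ∈ (S : Subgroup G) → (b : G) ∈ (S : Subgroup G) → f a = f b → a = b := by
    intro a b ha hb h
    exact inv_mul_eq_one.1 (hSinj _ (mul_mem (inv_mem ha) hb) (QuotientGroup.eq.1 h))
  let ι : (S : Subgroup G) →* C ⧸ O := f.comp (Subgroup.inclusion hSC)
  have hι : Function.Injective ι := fun a b h =>
    Subgroup.inclusion_injective hSC (hSfinj _ _ a.2 b.2 h)
  have h16Q : 16 ∣ Nat.card (C ⧸ O) := hS16.trans (Subgroup.card_dvd_of_injective ι hι)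
  obtain ⟨hDO, ⟨ψ⟩, h48⟩ := quotient_split O hodd hmax (z := zC) (v := vC)
    (Subgroup.mem_center_iff.2 fun g => Subtype.ext (Subgroup.mem_centralizer_singleton_iff.1 g.2))
    hzCO (Subtype.ext hv2) (Subtype.ext hz2) hvCO hvzO
    (fun c hc => by
      have hcz := Subgroup.mem_centralizer_singleton_iff.1 c.2
      have hcv : (c : G) * v = v * c := congrArg Subtype.val hc
      obtain ⟨w, hw, hcw⟩ := hD0all c hcz hcv
      obtain ⟨hdz, hdv⟩ := hD0c _ hcw
      refine ⟨⟨(c : G) * w, Subgroup.mem_centralizer_singleton_iff.2 hdz⟩, ?_, Subtype.ext hdv, ?_⟩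
      · rw [Subgroup.orderOf_mk]
        exact hD0odd.of_dvd_nat (Subgroup.orderOf_dvd_natCard D0 hcw)
      · rcases hw with rfl | rfl | rfl | rfl
        · exact Or.inl (Subtype.ext (mul_one _).symm)
        · refine Or.inr (Or.inl (Subtype.ext ?_))
          show (c : G) = z * ((c : G) * z)
          rw [hcz, ← mul_assoc, hz2, one_mul]
        · refine Or.inr (Or.inr (Or.inl (Subtype.ext ?_)))
          show (c : G) = v * ((c : G) * v)
          rw [hcv, ← mul_assoc, hv2, one_mul]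
        · refine Or.inr (Or.inr (Or.inr (Subtype.ext ?_)))
          show (c : G) = v * z * ((c : G) * (z * v))
          rw [← mul_assoc (c : G) z v, hcz, mul_assoc z (c : G) v, hcv,
            show v * z * (z * (v * c)) = v * (z * z) * v * c by group, hz2, mul_one, hv2, one_mul])
    (fun w hw hwv dd hd hdv => Subtype.ext (by
      have hwG : (w : G) * w = 1 := congrArg Subtype.val hw
      have hwvG : (w : G) * v * w = v * z := congrArg Subtype.val hwv
      refine H.centralize z v hz2 hv2 hz1 hv1 hvz.symm hvzc.symm w hwG ?_ (Or.inl ?_)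
        (Or.inr (Or.inr (by rw [hwvG, hvzc]))) dd (by rw [Subgroup.orderOf_coe]; exact hd)
        (Subgroup.mem_centralizer_singleton_iff.1 dd.2) (congrArg Subtype.val hdv)
      · intro h
        rw [h, one_mul, mul_one] at hwvG
        exact hz1 (left_eq_mul.1 hwvG)
      · rw [Subgroup.mem_centralizer_singleton_iff.1 w.2, mul_assoc, hwG, mul_one]))
    h16Q hFodd e
  have hM1 : d.M = 1 := by
    have h1 : Nat.card (S : Subgroup G) ∣ 48 := h48 ▸ Subgroup.card_dvd_of_injective ι hι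
    rw [d.hcard] at h1
    have hd : d.M ∣ 3 := Nat.dvd_of_mul_dvd_mul_left (by norm_num : 0 < 16) (show 16 * d.M ∣ 16 * 3 from h1)
    rcases (Nat.dvd_prime Nat.prime_three).1 hd with h | h
    · exact h
    · exfalso
      rw [hdM] at h
      rcases Nat.eq_zero_or_pos (n - 3) with h0 | h0
      · rw [h0] at h; norm_num at h
      · have := dvd_pow_self 2 h0.ne'
        rw [h] at this
        norm_num at this
  -- the element of order eight
  set s : G := ((d.x : (S : Subgroup G)) : G) with hsdef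
  have hsS : s ∈ (S : Subgroup G) := (d.x : (S : Subgroup G)).2
  have hs : orderOf s = 8 := by rw [hsdef, Subgroup.orderOf_coe, d.hx, hM1]
  have hsz : s ^ 4 = z := by
    rw [hzdef, hsdef, ← Subgroup.coe_pow]
    refine congrArg Subtype.val ?_
    show d.x ^ 4 = d.x ^ (4 * (d.M : ℤ))
    rw [hM1, ← zpow_natCast]
    norm_num
  have hs8 : s ^ 8 = 1 := by rw [← hs]; exact pow_orderOf_eq_one s
  have hvi : v⁻¹ = v := inv_eq_of_mul_eq_one_right hv2
  have hxy : v * s * v = s ^ 3 := by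
    have h := congrArg Subtype.val d.hxy
    rw [hM1, show (4 * ((1 : ℕ) : ℤ) - 1) = ((3 : ℕ) : ℤ) by norm_num, zpow_natCast] at h
    nth_rewrite 2 [← hvi]
    exact h
  -- `s ^ 2` centralises the odd part
  set u : G := v * s ^ 2 with hu
  have hv2s : v * s ^ 2 * v = s ^ 6 := by
    calc v * s ^ 2 * v = v * s * (v * v) * s * v := by rw [hv2, mul_one, pow_two, mul_assoc v s s]
      _ = (v * s * v) * (v * s * v) := by group
      _ = s ^ 6 := by rw [hxy, ← pow_add]
  have hu2 : u * u = 1 := by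
    rw [hu, ← mul_assoc, hv2s, ← pow_add]
    exact hs8
  have hu1 : u ≠ 1 := fun h => by
    have h1 : s ^ 2 = v := by rw [← hvi]; exact (inv_eq_of_mul_eq_one_right h).symm
    have h2 : s ^ 4 = 1 := by rw [show (4 : ℕ) = 2 + 2 from rfl, pow_add, h1, hv2]
    exact hz1 (hsz.symm.trans h2)
  have huz : u * z * u = z := by
    rw [Subgroup.mem_centralizer_singleton_iff.1 (mul_mem hvC (pow_mem (hSC hsS) 2) : u ∈ C), mul_assoc, hu2,
      mul_one]
  have huv : u * v * u = z * v := by
    rw [hu, hv2s, ← mul_assoc, show s ^ 6 * v * s ^ 2 = s ^ 6 * (v * s ^ 2 * v) * v⁻¹ by group, hv2s, hvi,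
      ← pow_add, show (6 + 6 : ℕ) = 4 + 8 from rfl, pow_add, hs8, mul_one, hsz]
  have hD0e : ∀ y ∈ D0, y * s ^ 2 = s ^ 2 * y := by
    intro y hy
    obtain ⟨h1, h2⟩ := hD0c y hy
    have h3 := H.centralize z v hz2 hv2 hz1 hv1 hvz.symm hvzc.symm u hu2 hu1 (Or.inl huz)
      (Or.inr (Or.inr huv)) y (hD0odd.of_dvd_nat (Subgroup.orderOf_dvd_natCard D0 hy)) h1 h2
    have h4 : s ^ 2 = v * u := by rw [hu, ← mul_assoc, hv2, one_mul]
    rw [h4, ← mul_assoc, h2, mul_assoc, h3, ← mul_assoc]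
  have hev : s ^ 2 * v = s⁻¹ * v * s := by
    calc s ^ 2 * v = s⁻¹ * s ^ 3 * v := by group
      _ = s⁻¹ * (v * s * v) * v := by rw [hxy]
      _ = s⁻¹ * v * s * (v * v) := by group
      _ = _ := by rw [hv2, mul_one]
  let sC : C := ⟨s, hSC hsS⟩
  have hsC8 : sC ^ 8 = 1 := Subtype.ext (by rw [Subgroup.coe_pow]; exact hs8)
  have hsC4 : sC ^ 4 = zC := Subtype.ext (by rw [Subgroup.coe_pow]; exact hsz)
  have hzCc : ∀ c : C, c * zC = zC * c := fun c => Subtype.ext (Subgroup.mem_centralizer_singleton_iff.1 c.2)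
  have hfixv : ∀ x ∈ O, vC * x = x * vC → x * sC ^ 2 = sC ^ 2 * x := by
    intro x hx hxv
    refine Subtype.ext (hD0e _ (hD0mem _ ?_ (Subgroup.mem_centralizer_singleton_iff.1 x.2)
      (congrArg Subtype.val hxv).symm))
    rw [Subgroup.orderOf_coe]
    exact hodd.of_dvd_nat (Subgroup.orderOf_dvd_natCard O hx)
  have hcomm_e : ∀ x ∈ O, sC ^ 2 * x = x * sC ^ 2 := by
    let ε : MulAut O := MulAut.conjNormal (sC ^ 2)
    let ν : MulAut O := MulAut.conjNormal vC
    have hval : ∀ (c : C) (k : O), ((MulAut.conjNormal c k : O) : C) = c * (k : C) * c⁻¹ := fun c k =>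
      MulAut.conjNormal_apply c k
    have hfix : ∀ (c : C) (k : O), MulAut.conjNormal c k = k ↔ c * (k : C) = (k : C) * c := fun c k => by
      rw [Subtype.ext_iff, hval, mul_inv_eq_iff_eq_mul]
    have hz' : ∀ k : O, MulAut.conjNormal zC k = k := fun k => (hfix zC k).2 (hzCc _).symm
    have hcomp : ∀ (a b : C) (k : O), MulAut.conjNormal a (MulAut.conjNormal b k) = MulAut.conjNormal (a * b) k :=
      fun a b k => by rw [map_mul, MulAut.mul_apply]
    have hvv : ∀ k : O, ν (ν k) = k := fun k => by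
      show MulAut.conjNormal vC (MulAut.conjNormal vC k) = k
      rw [hcomp, show vC * vC = 1 from Subtype.ext hv2, map_one, MulAut.one_apply]
    have hee : ∀ k : O, ε (ε k) = k := fun k => by
      show MulAut.conjNormal _ (MulAut.conjNormal _ k) = k
      rw [hcomp, ← pow_add, hsC4, hz']
    have hec : ∀ k : O, ε (ν k) = ν (ε k) := fun k => by
      show MulAut.conjNormal _ (MulAut.conjNormal _ k) = MulAut.conjNormal _ (MulAut.conjNormal _ k)
      rw [hcomp, hcomp, show vC * sC ^ 2 = zC * (sC ^ 2 * vC) by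
        rw [← hsC4, ← mul_assoc, ← pow_add]
        refine Subtype.ext ?_
        show v * s ^ 2 = s ^ (4 + 2) * v
        rw [← hv2s, mul_assoc _ v v, hv2, mul_one], map_mul MulAut.conjNormal zC, MulAut.mul_apply, hz']
    have h1 : ∀ k : O, ν k = k → ε k = k := fun k hk =>
      (hfix _ k).2 (hfixv k k.2 ((hfix vC k).1 hk)).symm
    have h2 : ∀ k : O, ε (ν k) = k → ε k = k := by
      intro k hk
      change MulAut.conjNormal (sC ^ 2) (MulAut.conjNormal vC k) = k at hk
      rw [hcomp, hfix, show sC ^ 2 * vC = sC⁻¹ * vC * sC from Subtype.ext hev] at hk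
      have h3 : vC * (sC * (k : C) * sC⁻¹) = (sC * (k : C) * sC⁻¹) * vC := by
        calc vC * (sC * (k : C) * sC⁻¹) = sC * (sC⁻¹ * vC * sC * k) * sC⁻¹ := by group
          _ = sC * ((k : C) * (sC⁻¹ * vC * sC)) * sC⁻¹ := by rw [hk]
          _ = _ := by group
      have h4 := hfixv _ ((inferInstance : O.Normal).conj_mem _ k.2 sC) h3
      refine (hfix _ k).2 ?_
      calc sC ^ 2 * (k : C) = sC⁻¹ * (sC ^ 2 * (sC * k * sC⁻¹)) * sC := by group
        _ = sC⁻¹ * ((sC * k * sC⁻¹) * sC ^ 2) * sC := by rw [h4]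
        _ = (k : C) * sC ^ 2 := by group
    intro x hx
    exact (hfix _ ⟨x, hx⟩).1 (fixed_of_klein hodd hvv hee hec h1 h2 ⟨x, hx⟩)
  -- the matrices
  let D : C →* GM := (Units.coeHom GM).comp ((ψ.toMonoidHom).comp f)
  have hDker : ∀ c, D c = 1 ↔ c ∈ O := fun c => by
    show ((ψ (f c) : GL (Fin 2) (ZMod 3)) : GM) = 1 ↔ _
    rw [Units.val_eq_one, EmbeddingLike.map_eq_one_iff]
    exact QuotientGroup.eq_one_iff c
  have hDdet : ∀ c, (D c).det ≠ 0 := fun c => by
    haveI : Fact (Nat.Prime 3) := ⟨Nat.prime_three⟩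
    exact ((ψ (f c) : GL (Fin 2) (ZMod 3)).isUnit.map Matrix.detMonoidHom).ne_zero
  have hDsurj : ∀ a : GM, a.det ≠ 0 → ∃ c, D c = a := by
    intro a ha
    haveI : Fact (Nat.Prime 3) := ⟨Nat.prime_three⟩
    obtain ⟨c, hc⟩ := QuotientGroup.mk'_surjective O (ψ.symm (Matrix.GeneralLinearGroup.mkOfDetNeZero a ha))
    refine ⟨c, ?_⟩
    show ((ψ (f c) : GL (Fin 2) (ZMod 3)) : GM) = a
    rw [show f c = _ from hc, ψ.apply_symm_apply]
    rfl
  have hDeq : ∀ a b : C, D a = D b → a⁻¹ * b ∈ O := fun a b h => by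
    rw [← hDker, map_mul, ← h, ← map_mul, inv_mul_cancel, map_one]
  have hDS : ∀ a b : C, (a : G) ∈ (S : Subgroup G) → (b : G) ∈ (S : Subgroup G) → D a = D b → a = b :=
    fun a b ha hb h => inv_mul_eq_one.1 (hSinj _ (mul_mem (inv_mem ha) hb) (hDeq a b h))
  have hDz : D zC = -1 := by
    refine (gm_central_invol _ ?_ fun b hb => ?_).resolve_left fun h => hzCO ((hDker _).1 h)
    · rw [← map_mul, show zC * zC = 1 from Subtype.ext hz2, map_one]
    · obtain ⟨c, rfl⟩ := hDsurj b hb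
      rw [← map_mul, ← map_mul]
      exact congrArg D (hzCc c).symm
  set a := D sC with ha
  have ha8 : a ^ 8 = 1 := by rw [ha, ← map_pow, hsC8, map_one]
  have ha4 : a ^ 4 ≠ 1 := by
    rw [ha, ← map_pow, hsC4, hDz]
    exact gm_neg_one_ne
  obtain ⟨-, hadet, hac1, hac2⟩ := gm_eight a ha8 ha4
  have hcentC : ∀ g : G, ∀ j : ℕ, s ^ j = z → g * s = s * g → g ∈ C := fun g j hj h =>
    Subgroup.mem_centralizer_singleton_iff.2 (hj ▸ ((show Commute g s from h).pow_right j).eq)
  have hcount : ∀ x : C, (Finset.univ.filter fun c : GM => c.det ≠ 0 ∧ c * D x = D x * c).card = 8 →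
      ∀ K : Subgroup C, (∀ c ∈ K, c * x = x * c) → Subgroup.zpowers sC ≤ K →
      (O.subgroupOf K).index = 8 := by
    intro x hx K hK hsK
    let Dh : K →* GL (Fin 2) (ZMod 3) := ((ψ.toMonoidHom).comp f).comp K.subtype
    have hker : Dh.ker = O.subgroupOf K := by
      ext c
      rw [MonoidHom.mem_ker, Subgroup.mem_subgroupOf, ← hDker]
      exact Units.val_eq_one.symm
    rw [← hker, Subgroup.index_ker]
    refine le_antisymm ?_ ?_
    · rw [← hx, ← Fintype.card_coe, ← Nat.card_eq_fintype_card]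
      refine Nat.card_le_card_of_injective (fun y => ⟨((y : GL (Fin 2) (ZMod 3)) : GM), ?_⟩)
        fun y y' h => Subtype.ext (Units.ext (congrArg Subtype.val h :))
      obtain ⟨c, hc⟩ := y.2
      rw [Finset.mem_filter, ← hc]
      exact ⟨Finset.mem_univ _, hDdet _, by
        show D (c : C) * D x = D x * D (c : C)
        rw [← map_mul, ← map_mul, hK _ c.2]⟩
    · have h8 : Nat.card (Subgroup.zpowers sC) = 8 := by
        rw [Nat.card_zpowers, ← Subgroup.orderOf_coe]
        exact hs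
      rw [← h8]
      refine Nat.card_le_card_of_injective (fun y => ⟨Dh ⟨y, hsK y.2⟩, ⟨_, rfl⟩⟩) fun y y' h => ?_
      have hS' : ∀ y : Subgroup.zpowers sC, ((y : C) : G) ∈ (S : Subgroup G) := fun y =>
        (Subgroup.zpowers_le.2 (show sC ∈ (S : Subgroup G).comap C.subtype from hsS)) y.2
      exact Subtype.ext (hDS _ _ (hS' y) (hS' y') (congrArg (fun g : GL (Fin 2) (ZMod 3) => (g : GM))
        (congrArg Subtype.val h)))
  let OG : Subgroup G := O.map C.subtype
  have hOGmem : ∀ g, g ∈ OG → ∃ h : g ∈ C, (⟨g, h⟩ : C) ∈ O := by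
    rintro _ ⟨c, hc, rfl⟩
    exact ⟨c.2, hc⟩
  have hOGle : OG ≤ C := fun g hg => (hOGmem g hg).1
  have hsOG : OG.subgroupOf C = O := by
    rw [Subgroup.subgroupOf, Subgroup.comap_map_eq_self_of_injective C.subtype_injective]
  have hrel : ∀ K : Subgroup G, K ≤ C → OG.relIndex K = (O.subgroupOf (K.subgroupOf C)).index := by
    intro K hK
    rw [← hsOG]
    exact (Subgroup.relIndex_subgroupOf hK).symm
  have hle2 : Subgroup.centralizer ({s ^ 2} : Set G) ≤ C := fun g hg => by
    refine Subgroup.mem_centralizer_singleton_iff.2 ?_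
    rw [← hsz, show s ^ 4 = (s ^ 2) ^ 2 by rw [← pow_mul]]
    exact ((show Commute g (s ^ 2) from Subgroup.mem_centralizer_singleton_iff.1 hg).pow_right 2).eq
  have hle1 : Subgroup.centralizer ({s} : Set G) ≤ C := fun g hg =>
    hcentC g 4 hsz (Subgroup.mem_centralizer_singleton_iff.1 hg)
  have hdet2 : (D (sC ^ 2)).det = 1 := by
    rw [map_pow, ← ha, Matrix.det_pow, hadet]
    decide
  let Q : Subgroup G :=
    { carrier := {g | g ∈ (S : Subgroup G) ∧ ∃ h : g ∈ C, (D ⟨g, h⟩).det = 1}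
      one_mem' := ⟨one_mem _, one_mem _, by
        rw [show (⟨1, one_mem C⟩ : C) = 1 from rfl, map_one, Matrix.det_one]⟩
      mul_mem' := fun {x y} ⟨hx, hx', hxd⟩ ⟨hy, hy', hyd⟩ => ⟨mul_mem hx hy, mul_mem hx' hy', by
        rw [show (⟨x * y, mul_mem hx' hy'⟩ : C) = ⟨x, hx'⟩ * ⟨y, hy'⟩ from rfl, map_mul, Matrix.det_mul,
          hxd, hyd, one_mul]⟩
      inv_mem' := fun {x} ⟨hx, hx', hxd⟩ => ⟨inv_mem hx, inv_mem hx', by
        have h : (D (⟨x, hx'⟩⁻¹ * ⟨x, hx'⟩)).det = 1 := by rw [inv_mul_cancel, map_one, Matrix.det_one]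
        rwa [map_mul, Matrix.det_mul, hxd, mul_one] at h⟩ }
  have hQconj : ∀ q (hq : q ∈ (S : Subgroup G)) (hqC : q ∈ C), (D ⟨q, hqC⟩).det = 1 →
      q = 1 ∨ q = z ∨ ∃ c : C, c * (⟨q, hqC⟩ : C) * c⁻¹ = sC ^ 2 := by
    intro q hq hqC hqd
    have h16' : (⟨q, hqC⟩ : C) ^ 16 = 1 := by
      refine Subtype.ext ?_
      have h := congrArg Subtype.val (pow_card_eq_one' (x := (⟨q, hq⟩ : (S : Subgroup G))))
      rw [d.hcard, hM1] at h
      exact h
    rcases gm_quarter (D ⟨q, hqC⟩) hqd (by rw [← map_pow, h16', map_one]) with h | h | h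
    · exact Or.inl (congrArg Subtype.val (hDS _ 1 hq (one_mem _) (h.trans (map_one D).symm)))
    · exact Or.inr (Or.inl (congrArg Subtype.val (hDS _ zC hq hzS (h.trans hDz.symm))))
    · have he : D (sC ^ 2) * D (sC ^ 2) = -1 := by rw [← map_mul, ← pow_add, hsC4, hDz]
      obtain ⟨b, hb, hbq⟩ := gm_four_conj _ _ hqd h hdet2 he
      obtain ⟨c, rfl⟩ := hDsurj b hb
      refine Or.inr (Or.inr ⟨c, ?_⟩)
      have hq4 : (⟨q, hqC⟩ : C) ^ 4 = 1 := by
        refine hDS _ _ (pow_mem hq 4) (one_mem _) ?_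
        rw [map_pow, pow_succ, pow_succ, pow_two, h, map_one, mul_assoc, h, neg_mul_neg, one_mul]
      refine eq_of_four hodd ?_ (by rw [← pow_mul]; exact hsC8) (hDeq _ _ ?_) hcomm_e
      · rw [conj_pow, hq4, mul_one, mul_inv_cancel]
      · rw [map_mul, map_mul, hbq, mul_assoc, ← map_mul, mul_inv_cancel, map_one, mul_one]
  refine ⟨z, s, OG, Q, (ψ.toMonoidHom).comp f, hSC, ?_,
    ψ.surjective.comp (QuotientGroup.mk'_surjective O), ?_⟩
  · exact
    { hz := hz
      hs := hs
      hsz := hsz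
      hs3 := isConj_iff.2 ⟨v, by rw [hvi]; exact hxy⟩
      hreal := by
        intro h
        obtain ⟨g, hg⟩ := isConj_iff.1 h
        have hgC : g ∈ C := by
          refine Subgroup.mem_centralizer_singleton_iff.2 ?_
          have h4 : g * s ^ 4 * g⁻¹ = (s ^ 4)⁻¹ := by rw [← conj_pow, hg, inv_pow]
          rw [hsz, inv_eq_of_mul_eq_one_right hz2] at h4
          exact mul_inv_eq_iff_eq_mul.1 h4
        refine gm_not_real a (D ⟨g, hgC⟩) ha8 ha4 (hDdet _) ?_
        rw [ha, ← map_pow, ← map_mul, ← map_mul]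
        refine congrArg D (Subtype.ext ?_)
        show g * s = s ^ 7 * g
        rw [← mul_inv_eq_iff_eq_mul, hg, inv_eq_iff_mul_eq_one, ← pow_succ']
        exact hs8
      hKC := hOGle
      hKodd := by
        show Odd (Nat.card (O.map C.subtype))
        rw [Subgroup.card_map_of_injective C.subtype_injective]
        exact hodd
      hKnorm := fun c hc u hu => by
        obtain ⟨h, hu'⟩ := hOGmem u hu
        exact ⟨⟨c, hc⟩ * ⟨u, h⟩ * ⟨c, hc⟩⁻¹, (inferInstance : O.Normal).conj_mem _ hu' _, rfl⟩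
      hKidx := by
        show (OG.subgroupOf C).index = 48
        rw [hsOG, Subgroup.index_eq_card]
        exact h48
      hKs := by
        rw [hrel _ hle1]
        refine hcount sC hac1 _ (fun c hc => ?_)
          (Subgroup.zpowers_le.2 (Subgroup.mem_centralizer_singleton_iff.2 rfl))
        exact Subtype.ext (Subgroup.mem_centralizer_singleton_iff.1 hc)
      hKe := fun u hu => by
        obtain ⟨h, hu'⟩ := hOGmem u hu
        exact Subgroup.mem_centralizer_singleton_iff.2 (congrArg Subtype.val (hcomm_e _ hu').symm)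
      hKeidx := by
        rw [hrel _ hle2]
        refine hcount (sC ^ 2) (by rw [map_pow]; exact hac2) _ (fun c hc => ?_)
          (Subgroup.zpowers_le.2 (Subgroup.mem_centralizer_singleton_iff.2 (Commute.self_pow s 2).eq))
        exact Subtype.ext (Subgroup.mem_centralizer_singleton_iff.1 hc)
      hQcard := by
        have hQS : Q ≤ (S : Subgroup G) := fun x hx => hx.1
        have hc : Nat.card (Q.subgroupOf (S : Subgroup G)) * (Q.subgroupOf (S : Subgroup G)).index = 16 := by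
          rw [Subgroup.card_mul_index, d.hcard, hM1]
        rw [← Nat.card_congr (Subgroup.subgroupOfEquivOfLe hQS).toEquiv]
        have hidx2 : (Q.subgroupOf (S : Subgroup G)).index = 2 := by
          rw [Subgroup.index_eq_two_iff]
          refine ⟨⟨s, hsS⟩, fun b => ?_⟩
          have hb : ∀ b : (S : Subgroup G), b ∈ Q.subgroupOf (S : Subgroup G) ↔
              (D ⟨b, hSC b.2⟩).det = 1 := fun b =>
            ⟨fun h => h.2.2, fun h => ⟨b.2, hSC b.2, h⟩⟩
          rw [hb, hb, show (⟨((b * ⟨s, hsS⟩ : (S : Subgroup G)) : G), hSC (b * ⟨s, hsS⟩).2⟩ : C) =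
            ⟨b, hSC b.2⟩ * sC from rfl, map_mul, Matrix.det_mul, ← ha, hadet]
          rcases gm_det_cases (D ⟨b, hSC b.2⟩) with h | h | h
          · exact absurd h (hDdet _)
          · right; rw [h]; exact ⟨rfl, by decide⟩
          · left; rw [h]; exact ⟨by decide, by decide⟩
        rw [hidx2] at hc
        omega
      hQK := fun q ⟨hq, hqC, hqd⟩ u hu => by
        obtain ⟨h, hu1⟩ := hOGmem u hu
        rcases hQconj q hq hqC hqd with rfl | rfl | ⟨c, hc⟩
        · rw [one_mul, mul_one]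
        · exact (Subgroup.mem_centralizer_singleton_iff.1 h).symm
        · have h2 := hcomm_e _ ((inferInstance : O.Normal).conj_mem _ hu1 c)
          rw [← hc] at h2
          have h3 : (⟨q, hqC⟩ : C) * ⟨u, h⟩ = ⟨u, h⟩ * ⟨q, hqC⟩ := by
            calc (⟨q, hqC⟩ : C) * ⟨u, h⟩ = c⁻¹ * (c * ⟨q, hqC⟩ * c⁻¹ * (c * ⟨u, h⟩ * c⁻¹)) * c := by group
              _ = c⁻¹ * (c * ⟨u, h⟩ * c⁻¹ * (c * ⟨q, hqC⟩ * c⁻¹)) * c := by rw [h2]
              _ = _ := by group
          exact congrArg Subtype.val h3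
      hQ := fun q ⟨hq, hqC, hqd⟩ => by
        rcases hQconj q hq hqC hqd with h | h | ⟨c, hc⟩
        exacts [Or.inl h, Or.inr (Or.inl h), Or.inr (Or.inr ⟨c, congrArg Subtype.val hc⟩)] }
  · ext c
    rw [MonoidHom.mem_ker, hsOG, MonoidHom.comp_apply]
    exact (EmbeddingLike.map_eq_one_iff (f := ψ)).trans (QuotientGroup.eq_one_iff c)

end CfsgLib.OvalPlane.SD
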