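import Cfsg.Agent.Lib.SuborbitGroups.SDModel
import Cfsg.Agent.Lib.PSL2Klein

/-!
An involutory automorphism of `SL(2,q)` with no fixed element of order four whose negated elements of
order four commute with all fixed elements forces `q = 3`.
-/

set_option autoImplicit false
set_option linter.style.haveILetI false
set_option linter.unusedSectionVars false

namespace CfsgLib.OvalPlane.SD

open CfsgLib.PSL2Klein

variable {F : Type} [Field F] [Fintype F]

local notation "q" => Fintype.card F
local notation "SL2" => Matrix.SpecialLinearGroup (Fin 2) F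
local notation "PSL" => Matrix.ProjectiveSpecialLinearGroup (Fin 2) F

theorem neg_one_central (x : SL2) : x * -1 = -1 * x := by rw [mul_neg, mul_one, neg_mul, one_mul]

theorem map_neg_one (h2 : (2 : F) ≠ 0) (α : MulAut SL2) : α (-1) = -1 := by
  have hs : α (-1) * α (-1) = 1 := by rw [← map_mul, neg_mul_neg, mul_one, map_one]
  rcases SL2Orders.eq_one_or_neg_one_of_sq h2 _ hs with h | h
  · exact absurd (congrArg (fun g : SL2 => g.1.trace) (α.injective (h.trans (map_one α).symm))) fun e => (trace_one_ne h2).1 (by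
      have e1 : (-1 : SL2).1.trace = -(1 : SL2).1.trace := Matrix.trace_neg _
      have e' : (-1 : SL2).1.trace = (1 : SL2).1.trace := e
      rw [e1] at e'
      exact (mul_eq_zero.mp (show (2 : F) * (1 : SL2).1.trace = 0 by linear_combination -e')).resolve_left h2)
  · exact h

theorem map_neg' (h2 : (2 : F) ≠ 0) (α : MulAut SL2) (g : SL2) : α (-g) = -α g := by
  rw [show -g = -1 * g by rw [neg_mul, one_mul], map_mul, map_neg_one h2, neg_mul, one_mul]

/-- Two anticommuting elements of order four: one or their product is fixed. -/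
theorem no_anti_pair (h2 : (2 : F) ≠ 0) {α : MulAut SL2} (h4 : ∀ g : SL2, g * g = -1 → α g ≠ g) {X Y : SL2}
    (hX : X.1.trace = 0) (hY : Y * X = -X * Y) (hαX : α X = X ∨ α X = -X) (hαY : α Y = Y ∨ α Y = -Y) :
    False := by
  obtain ⟨hXX, -, -⟩ := sq_of_trace h2 hX
  obtain ⟨hYY, -, -⟩ := sq_of_trace h2 (trace_of_anti h2 hY)
  rcases hαX with hx | hx
  · exact h4 X hXX hx
  rcases hαY with hy | hy
  · exact h4 Y hYY hy
  refine h4 (X * Y) ?_ (by rw [map_mul, hx, hy, neg_mul_neg])
  calc X * Y * (X * Y) = X * (Y * X) * Y := by simp only [mul_assoc]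
    _ = -((X * X) * (Y * Y)) := by rw [hY]; simp only [neg_mul, mul_neg, mul_assoc]
    _ = -1 := by rw [hXX, hYY, neg_mul_neg, mul_one]

/-- An involutory automorphism whose fixed points have no element of order four and commute with the
negated elements of order four forces three elements. -/
theorem card_eq_three_of_fixed (hodd : Odd q) {α : MulAut SL2} (hα : α * α = 1)
    (h4 : ∀ g : SL2, g * g = -1 → α g ≠ g)
    (h5 : ∀ Y g : SL2, Y * Y = -1 → α Y = -Y → α g = g → Commute Y g) : q = 3 := by
  classical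
  by_contra hne
  have h3 : 3 < q := by
    have h1 : 1 < q := Fintype.one_lt_card
    obtain ⟨k, hk⟩ := hodd
    omega
  have h2 : (2 : F) ≠ 0 := CfsgLib.GW.Model.two_ne_zero_of_odd hodd
  set Z := Subgroup.center SL2 with hZ
  have hmap : Z.map α.toMonoidHom = Z := Subgroup.characteristic_iff_map_eq.mp inferInstance α
  let φ : MulAut PSL := QuotientGroup.congr Z Z α hmap
  have hφmk : ∀ g : SL2, φ (PSL2.mk g) = PSL2.mk (α g) := fun g => rfl
  have hφ : φ * φ = 1 := by
    refine MulEquiv.ext fun x => ?_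
    obtain ⟨g, rfl⟩ := PSL2Product.mk_surjective x
    show φ (φ (PSL2.mk g)) = PSL2.mk g
    rw [hφmk, hφmk, show α (α g) = (α * α) g from rfl, hα, MulAut.one_apply]
  have hfix : ∀ g : SL2, φ (PSL2.mk g) = PSL2.mk g → α g = g ∨ α g = -g := fun g hg => by
    rw [hφmk] at hg
    rcases mk_eq_iff.1 hg with h | h
    · exact Or.inl h.symm
    · exact Or.inr (by nth_rewrite 2 [h]; rw [neg_neg])
  have htr : ∀ g : SL2, PSL2.mk g * PSL2.mk g = 1 → PSL2.mk g ≠ 1 → g.1.trace = 0 := fun g h h1 =>
    (invol_iff h2).1 ⟨h1, h⟩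
  -- an element of trace zero and one anticommuting with it
  have hw : (⟨!![0, 1; -1, 0], by simp [Matrix.det_fin_two]⟩ : SL2).1.trace = 0 := by simp [Matrix.trace_fin_two]
  obtain ⟨p, hp⟩ := CharP.exists F
  haveI := hp
  haveI : Fact p.Prime := ⟨CharP.char_is_prime F p⟩
  obtain ⟨e, he, he4⟩ : ∃ e : ℤ, (e = 1 ∨ e = -1) ∧ (4 : ℤ) ∣ (q : ℤ) - e := by
    obtain ⟨k, hk⟩ := hodd
    rcases Nat.even_or_odd k with ⟨j, hj⟩ | ⟨j, hj⟩
    · exact ⟨1, Or.inl rfl, j, by omega⟩
    · exact ⟨-1, Or.inr rfl, j + 1, by omega⟩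
  by_cases hf : CfsgLib.PSL2.fieldPart p φ = 1
  swap
  · obtain ⟨U, hU, hUfix⟩ := CfsgLib.GW.Model.field_involution_klein p h2 hφ hf
    haveI := hU
    obtain ⟨a, ha⟩ : ∃ a : U, a ≠ 1 := by
      by_contra h
      push Not at h
      have : Nat.card U ≤ 1 := Finite.card_le_one_iff_subsingleton.2 ⟨fun x y => (h x).trans (h y).symm⟩
      rw [hU.card_four] at this
      omega
    obtain ⟨b, hb, hba⟩ : ∃ b : U, b ≠ 1 ∧ b ≠ a := by
      by_contra h
      push Not at h
      have : Nat.card U ≤ 2 := by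
        refine (Nat.card_le_card_of_surjective (fun i : Fin 2 => ![(1 : U), a] i) fun x => ?_).trans (by simp)
        by_cases hx : x = 1
        · exact ⟨0, hx.symm⟩
        · exact ⟨1, (h x hx).symm⟩
      rw [hU.card_four] at this
      omega
    obtain ⟨A, hA⟩ := PSL2Product.mk_surjective (a : PSL)
    obtain ⟨B, hB⟩ := PSL2Product.mk_surjective (b : PSL)
    have hsq : ∀ u : U, (u : PSL) * u = 1 := fun u => congrArg Subtype.val (IsKleinFour.mul_self u)
    have htA : A.1.trace = 0 := htr A (by rw [hA]; exact hsq a) (by rw [hA]; exact fun h => ha (Subtype.ext h))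
    have htB : B.1.trace = 0 := htr B (by rw [hB]; exact hsq b) (by rw [hB]; exact fun h => hb (Subtype.ext h))
    have hcm : PSL2.mk (B * A) = PSL2.mk (A * B) := by
      rw [map_mul, map_mul, hA, hB]
      have hab : (a * b) * (a * b) = 1 := IsKleinFour.mul_self _
      have : b * a = a * b := by
        calc b * a = (a * a) * (b * a) * (b * b) := by rw [IsKleinFour.mul_self, IsKleinFour.mul_self, one_mul, mul_one]
          _ = a * ((a * b) * (a * b)) * b := by simp only [mul_assoc]
          _ = a * b := by rw [hab, mul_one]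
      exact congrArg Subtype.val this
    rcases mk_eq_iff.1 hcm with h | h
    · rcases eq_or_eq_neg h2 htB htA h with h' | h'
      · exact hba (Subtype.ext (by rw [← hA, ← hB, h']))
      · exact hba (Subtype.ext (by rw [← hA, ← hB]; exact mk_eq_iff.2 (Or.inr h')))
    · exact no_anti_pair h2 h4 htA (by rw [neg_mul, h, neg_neg]) (hfix A (by rw [hA]; exact hUfix _ a.2))
        (hfix B (by rw [hB]; exact hUfix _ b.2))
  by_cases hi : φ ∈ (MulAut.conj : PSL →* MulAut PSL).range
  · obtain ⟨x, hx⟩ := hi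
    obtain ⟨X, hX, hcase⟩ : ∃ X : SL2, X.1.trace = 0 ∧ ∀ g, α g = X * g * X⁻¹ ∨ α g = -(X * g * X⁻¹) ∨
        α g = g ∨ α g = -g := by
      by_cases hx1 : x = 1
      · refine ⟨_, hw, fun g => ?_⟩
        right; right
        refine hfix g ?_
        rw [← hx, hx1, map_one]
        rfl
      · obtain ⟨X, rfl⟩ := PSL2Product.mk_surjective x
        have hxx : PSL2.mk X * PSL2.mk X = 1 :=
          CfsgLib.GW.conj_psl_injective (by rw [map_mul, hx, hφ, map_one])
        refine ⟨X, htr X hxx hx1, fun g => ?_⟩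
        have h : φ (PSL2.mk g) = PSL2.mk (X * g * X⁻¹) := by rw [← hx, MulAut.conj_apply, map_mul, map_mul, map_inv]
        rw [hφmk] at h
        rcases mk_eq_iff.1 h.symm with h | h
        · exact Or.inl h
        · exact Or.inr (Or.inl h)
    obtain ⟨Y, hY⟩ := SL2Centralizer.exists_conj_neg h2 hX
    have hXY : X * Y * X⁻¹ = -Y := by
      have h1 : X * Y = -(Y * X) := by rw [hY, neg_mul, neg_neg]
      rw [h1, neg_mul, mul_inv_cancel_right]
    refine no_anti_pair h2 h4 hX hY ?_ ?_
    · rcases hcase X with h | h | h | h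
      · exact Or.inl (by rw [h, mul_inv_cancel_right])
      · exact Or.inr (by rw [h, mul_inv_cancel_right])
      · exact Or.inl h
      · exact Or.inr h
    · rcases hcase Y with h | h | h | h
      · exact Or.inr (by rw [h, hXY])
      · exact Or.inl (by rw [h, hXY, neg_neg])
      · exact Or.inl h
      · exact Or.inr h
  obtain ⟨d, u, hd, hu, huu, hu1, hinv, hord⟩ :=
    CfsgLib.GW.Model.diag_invol_dihedral hodd h3 p he he4 hφ hf hi
  have hdodd : Odd (orderOf d) := by
    rw [Nat.odd_iff]
    obtain ⟨j, hj⟩ := he4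
    omega
  obtain ⟨U, rfl⟩ := PSL2Product.mk_surjective u
  obtain ⟨hUU, -, -⟩ := sq_of_trace h2 (htr U huu hu1)
  obtain ⟨D, rfl⟩ := PSL2Product.mk_surjective d
  have hαU : α U = -U := (hfix U hu).resolve_left (h4 U hUU)
  obtain ⟨D', hD', hαD⟩ : ∃ D', PSL2.mk D' = PSL2.mk D ∧ α D' = D' := by
    rcases hfix D hd with h | h
    · exact ⟨D, rfl, h⟩
    · exfalso
      have hone : D ^ orderOf (PSL2.mk D) = 1 ∨ D ^ orderOf (PSL2.mk D) = -1 := by
        have h1 : PSL2.mk (D ^ orderOf (PSL2.mk D)) = PSL2.mk 1 := by rw [map_pow, pow_orderOf_eq_one, map_one]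
        rcases mk_eq_iff.1 h1 with e' | e'
        · exact Or.inl e'.symm
        · exact Or.inr (by rw [e', neg_neg])
      have h1 : α (D ^ orderOf (PSL2.mk D)) = -(D ^ orderOf (PSL2.mk D)) := by
        rw [map_pow, h, hdodd.neg_pow]
      rcases hone with e' | e' <;> rw [e'] at h1
      · rw [map_one] at h1
        exact (trace_one_ne h2).1 (by
          have e1 : (-1 : SL2).1.trace = -(1 : SL2).1.trace := Matrix.trace_neg _
          rw [← h1] at e1
          exact (mul_eq_zero.mp (show (2 : F) * (1 : SL2).1.trace = 0 by linear_combination e1)).resolve_left h2)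
      · rw [map_neg_one h2, neg_neg] at h1
        exact (trace_one_ne h2).1 (by
          have e1 : (-1 : SL2).1.trace = -(1 : SL2).1.trace := Matrix.trace_neg _
          rw [h1] at e1
          exact (mul_eq_zero.mp (show (2 : F) * (1 : SL2).1.trace = 0 by linear_combination e1)).resolve_left h2)
  have hc := h5 U D' hUU hαU hαD
  have hcm : Commute (PSL2.mk U) (PSL2.mk D) := hD' ▸ hc.map PSL2.mk
  rw [show PSL2.mk U * PSL2.mk D * (PSL2.mk U)⁻¹ = PSL2.mk D by rw [hcm.eq, mul_inv_cancel_right]] at hinv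
  have h2d : (PSL2.mk D) ^ 2 = 1 := by
    rw [pow_two]
    nth_rewrite 1 [hinv]
    rw [inv_mul_cancel]
  have hdle : orderOf (PSL2.mk D) = 1 := by
    rcases (Nat.dvd_prime Nat.prime_two).1 (orderOf_dvd_of_pow_eq_one h2d) with h | h
    · exact h
    · rw [h] at hdodd; exact absurd hdodd (by decide)
  rw [hdle] at hord
  have h1 : 1 < q := Fintype.one_lt_card
  omega

end CfsgLib.OvalPlane.SD
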