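import Cfsg.Agent.Lib.OvalPlane.SDEndThree
import Cfsg.Agent.Lib.SuborbitGroups.SDCore

/-!
The centraliser of an involution modulo its odd core is `GL(2,3)` when the odd part of the centraliser of
a four-group in it is centralised by the involutions normalising that four-group.
-/

set_option autoImplicit false
set_option linter.style.haveILetI false
set_option linter.unusedSectionVars false
set_option maxHeartbeats 800000

namespace CfsgLib.OvalPlane.SD

open Cfsg
open scoped commutatorElement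

universe u

variable {C : Type u} [Group C] [Finite C]

theorem odd_pow_self {H : Type*} [Group H] {x : H} (hx : x * x = 1) {n : ℕ} (hn : Odd n) : x ^ n = x := by
  obtain ⟨j, rfl⟩ := hn
  rw [pow_succ, pow_mul, pow_two, hx, one_pow, one_mul]

variable (O : Subgroup C) [O.Normal]

theorem lift_cent (hodd : Odd (Nat.card O)) {v : C} (hv2 : v * v = 1) {x : C ⧸ O}
    (hx : x * QuotientGroup.mk' O v = QuotientGroup.mk' O v * x) :
    ∃ c : C, c * v = v * c ∧ QuotientGroup.mk' O c = x := by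
  obtain ⟨c, rfl⟩ := QuotientGroup.mk'_surjective O x
  have hu : c * v * c⁻¹ * v ∈ O := by
    rw [← QuotientGroup.eq_one_iff]
    show QuotientGroup.mk' O (c * v * c⁻¹ * v) = 1
    rw [map_mul, map_mul, map_mul, map_inv, hx, mul_inv_cancel_right, ← map_mul, hv2, map_one]
  obtain ⟨y, hy, e⟩ := exists_conj_of_mem hodd
    (show c * v * c⁻¹ * (c * v * c⁻¹) = 1 by
      rw [show c * v * c⁻¹ * (c * v * c⁻¹) = c * (v * v) * c⁻¹ by group, hv2, mul_one, mul_inv_cancel]) hv2 hu
  refine ⟨y * c, ?_, ?_⟩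
  · calc y * c * v = y * (c * v * c⁻¹) * y⁻¹ * (y * c) := by group
      _ = v * (y * c) := by rw [e]
  · rw [map_mul, show QuotientGroup.mk' O y = 1 from (QuotientGroup.eq_one_iff y).2 hy, one_mul]

/-- The odd part of the centraliser of the four-group lies in the core, and the quotient is `GL(2,3)`. -/
theorem quotient_split (hodd : Odd (Nat.card O)) (hmax : ∀ N : Subgroup C, N.Normal → Odd (Nat.card N) → N ≤ O)
    {z v : C} (hz : z ∈ Subgroup.center C) (hz1 : z ∉ O) (hv2 : v * v = 1) (hz2 : z * z = 1)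
    (hv1 : v ∉ O) (hvz : v * z ∉ O)
    (hsplit : ∀ c : C, c * v = v * c → ∃ d, Odd (orderOf d) ∧ d * v = v * d ∧
      (c = d ∨ c = z * d ∨ c = v * d ∨ c = v * z * d))
    (hcen : ∀ w : C, w * w = 1 → w * v * w = v * z → ∀ d, Odd (orderOf d) → d * v = v * d → d * w = w * d)
    (h16 : 16 ∣ Nat.card (C ⧸ O)) {F : Type} [Field F] [Fintype F] (hF : Odd (Fintype.card F))
    (e : commutator (C ⧸ O) ≃* Matrix.SpecialLinearGroup (Fin 2) F) :
    (∀ d : C, Odd (orderOf d) → d * v = v * d → d ∈ O) ∧ Nonempty (C ⧸ O ≃* GL (Fin 2) (ZMod 3)) ∧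
      Nat.card (C ⧸ O) = 48 := by
  classical
  let f := QuotientGroup.mk' O
  set v' : C ⧸ O := f v with hv'
  set z' : C ⧸ O := f z with hz'
  have hvv : v' * v' = 1 := by rw [hv', ← map_mul, hv2, map_one]
  have hzz : z' * z' = 1 := by rw [hz', ← map_mul, hz2, map_one]
  have hv'1 : v' ≠ 1 := fun h => hv1 ((QuotientGroup.eq_one_iff v).1 h)
  have hz'1 : z' ≠ 1 := fun h => hz1 ((QuotientGroup.eq_one_iff z).1 h)
  have hvz' : v' * z' ≠ 1 := fun h => hvz ((QuotientGroup.eq_one_iff (v * z)).1 (by rw [← h]; rfl))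
  have hz'c : ∀ x, x * z' = z' * x := fun x => by
    obtain ⟨c, rfl⟩ := QuotientGroup.mk'_surjective O x
    rw [hz', ← map_mul, ← map_mul, Subgroup.mem_center_iff.1 hz c]
  have hfodd : ∀ d : C, Odd (orderOf d) → Odd (orderOf (f d)) := fun d h => h.of_dvd_nat (orderOf_map_dvd f d)
  have hsame : ∀ a b : C ⧸ O, Odd (orderOf b) → a * a = 1 → a * b = b * a →
      (a * b) ^ orderOf b = a := fun a b hb ha hab => by
    rw [(show Commute a b from hab).mul_pow, odd_pow_self ha hb, pow_orderOf_eq_one, mul_one]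
  have hcent : ∀ x : C ⧸ O, x * v' = v' * x → ∃ d, Odd (orderOf d) ∧ d * v = v * d ∧
      (x = f d ∨ x = z' * f d ∨ x = v' * f d ∨ x = v' * z' * f d) := by
    intro x hx
    obtain ⟨c, hc, rfl⟩ := lift_cent O hodd hv2 hx
    obtain ⟨d, hd, hdv, h⟩ := hsplit c hc
    refine ⟨d, hd, hdv, ?_⟩
    rcases h with rfl | rfl | rfl | rfl <;> simp [f, hv', hz']
  have hdv' : ∀ d : C, d * v = v * d → v' * f d = f d * v' := fun d h => by
    rw [hv', ← map_mul, ← map_mul, h]
  set L := commutator (C ⧸ O) with hLdef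
  have h2F : (2 : F) ≠ 0 := CfsgLib.GW.Model.two_ne_zero_of_odd hF
  have huniq : ∀ x : L, x * x = 1 → x = 1 ∨ x = e.symm (-1) := by
    intro x hx
    rcases SL2Orders.eq_one_or_neg_one_of_sq h2F (e x) (by rw [← map_mul, hx, map_one]) with h | h
    · exact Or.inl (EmbeddingLike.map_eq_one_iff.1 h)
    · exact Or.inr (by rw [← h, e.symm_apply_apply])
  set m : L := e.symm (-1) with hm
  have hm1 : m ≠ 1 := by
    intro h
    have h' : (-1 : Matrix.SpecialLinearGroup (Fin 2) F) = 1 := by rw [← e.apply_symm_apply (-1), ← hm, h, map_one]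
    exact (CfsgLib.PSL2Klein.trace_one_ne h2F).1 (by
      have e1 : (-1 : Matrix.SpecialLinearGroup (Fin 2) F).1.trace = -(1 : Matrix.SpecialLinearGroup (Fin 2) F).1.trace :=
        Matrix.trace_neg _
      rw [h'] at e1
      exact (mul_eq_zero.mp (show (2 : F) * (1 : Matrix.SpecialLinearGroup (Fin 2) F).1.trace = 0 by
        linear_combination e1)).resolve_left h2F)
  have hmm : m * m = 1 := e.injective (by rw [map_mul, map_one, hm, e.apply_symm_apply, neg_mul_neg, one_mul])
  have hmc : ∀ x : C ⧸ O, x * (m : C ⧸ O) = m * x := by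
    intro x
    have hmem : x * (m : C ⧸ O) * x⁻¹ ∈ L := (inferInstance : L.Normal).conj_mem _ m.2 x
    have hmm' : (m : C ⧸ O) * m = 1 := congrArg Subtype.val hmm
    rcases huniq ⟨_, hmem⟩ (Subtype.ext (by
      show x * (m : C ⧸ O) * x⁻¹ * (x * (m : C ⧸ O) * x⁻¹) = 1
      calc _ = x * ((m : C ⧸ O) * m) * x⁻¹ := by group
        _ = 1 := by rw [hmm', mul_one, mul_inv_cancel])) with h | h
    · exact absurd (Subtype.ext (conj_eq_one_iff.1 (congrArg Subtype.val h))) hm1
    · exact mul_inv_eq_iff_eq_mul.1 (congrArg Subtype.val h)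
  -- the involution is not central
  have hsmall : ¬ ∀ x : C ⧸ O, x * v' = v' * x := by
    intro hall
    have hp : IsPGroup 2 (⊤ : Subgroup (C ⧸ O)) → False := fun hp => by
      have hle : Nat.card (C ⧸ O) ≤ 4 := by
        refine (Nat.card_le_card_of_surjective (fun i : Fin 4 => ![1, z', v', v' * z'] i) fun x => ?_).trans (by simp)
        obtain ⟨d, hd, -, hx⟩ := hcent x (hall x)
        obtain ⟨k, hk⟩ := hp ⟨f d, Subgroup.mem_top _⟩
        have h1 : f d = 1 := orderOf_eq_one_iff.1 (Nat.eq_one_of_dvd_coprimes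
          ((Nat.coprime_two_left.2 (hfodd d hd)).pow_left k)
          (orderOf_dvd_of_pow_eq_one (congrArg Subtype.val hk)) dvd_rfl)
        rcases hx with rfl | rfl | rfl | rfl <;> rw [h1]
        exacts [⟨0, rfl⟩, ⟨1, (mul_one _).symm⟩, ⟨2, (mul_one _).symm⟩, ⟨3, (mul_one _).symm⟩]
      have := Nat.le_of_dvd Nat.card_pos h16
      omega
    -- every element of the Sylow subgroup is in the four-group
    haveI : Fact (Nat.Prime 2) := ⟨Nat.prime_two⟩
    obtain ⟨P⟩ := (inferInstance : Nonempty (Sylow 2 (C ⧸ O)))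
    have hP16 : 16 ∣ Nat.card (P : Subgroup (C ⧸ O)) := by
      rw [P.card_eq_multiplicity]
      exact (pow_dvd_pow 2 ((Nat.prime_two.pow_dvd_iff_le_factorization (k := 4) Nat.card_pos.ne').1 h16))
    have hle : Nat.card (P : Subgroup (C ⧸ O)) ≤ 4 := by
      refine (Nat.card_le_card_of_surjective
        (fun i : {i : Fin 4 // ![1, z', v', v' * z'] i ∈ (P : Subgroup (C ⧸ O))} =>
          (⟨![1, z', v', v' * z'] i.1, i.2⟩ : (P : Subgroup (C ⧸ O)))) ?_).trans
        ((Nat.card_le_card_of_injective Subtype.val Subtype.val_injective).trans (by simp))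
      rintro ⟨x, hxP⟩
      obtain ⟨d, hd, hdv, hx⟩ := hcent x (hall x)
      obtain ⟨k, hk⟩ := P.2 ⟨x, hxP⟩
      have hx1 : x ^ 2 ^ k = 1 := congrArg Subtype.val hk
      have kill : ∀ a : C ⧸ O, a * a = 1 → a * f d = f d * a → x = a * f d → x = a := fun a ha hc hxa => by
        have h1 : (a * f d) ^ orderOf (f d) = a := hsame a (f d) (hfodd d hd) ha hc
        have h2 : f d = 1 := by
          have h3 : (f d) ^ 2 ^ (k + 1) = 1 := by
            have h4 : x ^ 2 ^ (k + 1) = 1 := by rw [pow_succ, pow_mul, hx1, one_pow]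
            rw [hxa, (show Commute a (f d) from hc).mul_pow, show a ^ 2 ^ (k + 1) = 1 by
              rw [pow_succ', pow_mul, pow_two, ha, one_pow], one_mul] at h4
            exact h4
          exact orderOf_eq_one_iff.1 (Nat.eq_one_of_dvd_coprimes
            ((Nat.coprime_two_left.2 (hfodd d hd)).pow_left (k + 1)) (orderOf_dvd_of_pow_eq_one h3) dvd_rfl)
        rw [hxa, h2, mul_one]
      have fin : ∀ i : Fin 4, x = ![1, z', v', v' * z'] i → ∃ j : {i : Fin 4 // ![1, z', v', v' * z'] i ∈ (P : Subgroup (C ⧸ O))},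
          (⟨![1, z', v', v' * z'] j.1, j.2⟩ : (P : Subgroup (C ⧸ O))) = ⟨x, hxP⟩ := fun i hi =>
        ⟨⟨i, hi ▸ hxP⟩, Subtype.ext hi.symm⟩
      rcases hx with h | h | h | h
      · exact fin 0 (kill 1 (one_mul 1) (by rw [one_mul, mul_one]) (by rw [h, one_mul]))
      · exact fin 1 (kill z' hzz (hz'c _).symm h)
      · exact fin 2 (kill v' hvv (hdv' d hdv) h)
      · refine fin 3 (kill (v' * z') ?_ ?_ h)
        · rw [show v' * z' * (v' * z') = v' * (z' * v') * z' by group, ← hz'c, ← mul_assoc, hvv, one_mul, hzz]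
        · rw [mul_assoc, ← hz'c, ← mul_assoc, hdv' d hdv, mul_assoc]
    have := Nat.le_of_dvd Nat.card_pos hP16
    omega
  have hmz : (m : C ⧸ O) = z' := by
    obtain ⟨d, hd, hdv, h⟩ := hcent _ (hmc v').symm
    have hmm' : (m : C ⧸ O) * m = 1 := congrArg Subtype.val hmm
    have key : ∀ a : C ⧸ O, a * a = 1 → a * f d = f d * a → (m : C ⧸ O) = a * f d → (m : C ⧸ O) = a :=
      fun a ha hc hma => by
        rw [← hsame a (f d) (hfodd d hd) ha hc, ← hma, odd_pow_self hmm' (hfodd d hd)]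
    rcases h with h | h | h | h
    · exact absurd (Subtype.ext (key 1 (one_mul 1) (by rw [one_mul, mul_one]) (by rw [h, one_mul]))) hm1
    · exact key z' hzz (hz'c _).symm h
    · have h' := key v' hvv (hdv' d hdv) h
      exact absurd (fun x => by rw [← h']; exact hmc x) hsmall
    · refine absurd (fun x => ?_) hsmall
      have h' := key (v' * z') (by
        rw [show v' * z' * (v' * z') = v' * (z' * v') * z' by group, ← hz'c, ← mul_assoc, hvv, one_mul, hzz])
        (by rw [mul_assoc, ← hz'c, ← mul_assoc, hdv' d hdv, mul_assoc]) h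
      have h2 : v' = (m : C ⧸ O) * z' := by rw [h', mul_assoc, hzz, mul_one]
      rw [h2, ← mul_assoc, hmc x, mul_assoc, hz'c x, ← mul_assoc]
  have hvL : v' ∉ L := by
    intro h
    rcases huniq ⟨v', h⟩ (Subtype.ext hvv) with e' | e'
    · exact hv'1 (congrArg Subtype.val e')
    · have : v' = z' := (congrArg Subtype.val e').trans hmz
      exact hvz' (by rw [this, hzz])
  -- the automorphism
  let α : MulAut (Matrix.SpecialLinearGroup (Fin 2) F) := (e.symm.trans (MulAut.conjNormal v')).trans e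
  have hα : α * α = 1 := by
    refine MulEquiv.ext fun g => ?_
    show e (MulAut.conjNormal v' (e.symm (e (MulAut.conjNormal v' (e.symm g))))) = g
    rw [e.symm_apply_apply, ← MulAut.mul_apply, ← map_mul, hvv, map_one, MulAut.one_apply, e.apply_symm_apply]
  have hαval : ∀ g, ((e.symm (α g) : L) : C ⧸ O) = v' * (e.symm g : C ⧸ O) * v' := fun g => by
    show ((e.symm (e (MulAut.conjNormal v' (e.symm g))) : L) : C ⧸ O) = _
    rw [e.symm_apply_apply, MulAut.conjNormal_apply, inv_eq_of_mul_eq_one_right hvv]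
  have hfixed : ∀ g, α g = g → (e.symm g : C ⧸ O) * v' = v' * e.symm g := fun g hg => by
    have h := hαval g
    rw [hg] at h
    calc (e.symm g : C ⧸ O) * v' = v' * (e.symm g : C ⧸ O) * v' * v' := by rw [← h]
      _ = v' * e.symm g := by rw [mul_assoc _ v' v', hvv, mul_one]
  have hneg : ∀ g : Matrix.SpecialLinearGroup (Fin 2) F, g * g = -1 →
      (e.symm g : C ⧸ O) * e.symm g = z' := fun g hg => by
    rw [← Subgroup.coe_mul, ← map_mul, hg, ← hm, hmz]
  have h4 : ∀ g : Matrix.SpecialLinearGroup (Fin 2) F, g * g = -1 → α g ≠ g := by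
    intro g hg hfix
    obtain ⟨d, hd, hdv, h⟩ := hcent _ (hfixed g hfix)
    have hl := hneg g hg
    have key : ∀ a : C ⧸ O, a * a = 1 → a * f d = f d * a → (e.symm g : C ⧸ O) = a * f d → False :=
      fun a ha hc hla => by
        rw [hla, (show Commute (f d) a from hc.symm).mul_mul_mul_comm, ha, one_mul] at hl
        refine hz'1 ?_
        rw [← odd_pow_self hzz (hfodd d hd), ← hl, ← pow_two, ← pow_mul, mul_comm, pow_mul, pow_orderOf_eq_one,
          one_pow]
    rcases h with h | h | h | h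
    · exact key 1 (one_mul 1) (by rw [one_mul, mul_one]) (by rw [h, one_mul])
    · exact key z' hzz (hz'c _).symm h
    · exact key v' hvv (hdv' d hdv) h
    · exact key (v' * z') (by
        rw [show v' * z' * (v' * z') = v' * (z' * v') * z' by group, ← hz'c, ← mul_assoc, hvv, one_mul, hzz])
        (by rw [mul_assoc, ← hz'c, ← mul_assoc, hdv' d hdv, mul_assoc]) h
  have h5 : ∀ Y g : Matrix.SpecialLinearGroup (Fin 2) F, Y * Y = -1 → α Y = -Y → α g = g → Commute Y g := by
    intro Y g hY hαY hg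
    set l : C ⧸ O := (e.symm Y : C ⧸ O) with hl
    have hll : l * l = z' := hneg Y hY
    have hvlv : v' * l * v' = z' * l := by
      rw [← hαval, hαY, show -Y = -1 * Y by rw [neg_mul, one_mul], map_mul, Subgroup.coe_mul, ← hm, hmz]
    obtain ⟨c, hc⟩ := QuotientGroup.mk'_surjective O (v' * l)
    change f c = v' * l at hc
    have hconj : c * v * c⁻¹ * (v * z) ∈ O := by
      rw [← QuotientGroup.eq_one_iff]
      show f (c * v * c⁻¹ * (v * z)) = 1
      rw [map_mul, map_mul, map_mul, map_mul, map_inv, hc, ← hv', ← hz']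
      have h1 : v' * l * v' * (v' * l)⁻¹ = z' * v' := by
        rw [hvlv, mul_inv_rev, inv_eq_of_mul_eq_one_right hvv]; group
      rw [h1, show z' * v' * (v' * z') = z' * (v' * v') * z' by group, hvv, mul_one, hzz]
    have hvz2 : v * z * (v * z) = 1 := by
      rw [show v * z * (v * z) = v * (z * v) * z by group, ← Subgroup.mem_center_iff.1 hz v, ← mul_assoc, hv2,
        one_mul, hz2]
    obtain ⟨y, hy, hy'⟩ := exists_conj_of_mem hodd
      (show c * v * c⁻¹ * (c * v * c⁻¹) = 1 by
        rw [show c * v * c⁻¹ * (c * v * c⁻¹) = c * (v * v) * c⁻¹ by group, hv2, mul_one, mul_inv_cancel])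
      hvz2 hconj
    set c₁ := y * c with hc₁
    have hfc₁ : f c₁ = v' * l := by
      rw [hc₁, map_mul, hc, show f y = 1 from (QuotientGroup.eq_one_iff y).2 hy, one_mul]
    have hswap : c₁ * v * c₁⁻¹ = v * z := by rw [← hy', hc₁]; group
    have hzc : c₁ * z * c₁⁻¹ = z := by rw [Subgroup.mem_center_iff.1 hz c₁, mul_inv_cancel_right]
    have hsq : c₁ * c₁ * v * (c₁ * c₁)⁻¹ = v := by
      rw [show c₁ * c₁ * v * (c₁ * c₁)⁻¹ = c₁ * (c₁ * v * c₁⁻¹) * c₁⁻¹ by group, hswap,
        show c₁ * (v * z) * c₁⁻¹ = c₁ * v * c₁⁻¹ * (c₁ * z * c₁⁻¹) by group, hswap, hzc, mul_assoc, hz2, mul_one]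
    have hsqO : c₁ * c₁ ∈ O := by
      rw [← QuotientGroup.eq_one_iff]
      show f (c₁ * c₁) = 1
      rw [map_mul, hfc₁, show v' * l * (v' * l) = v' * l * v' * l by group, hvlv, mul_assoc, hll, hzz]
    obtain ⟨n, hn⟩ := hodd
    set w := c₁ ^ (Nat.card O) with hw
    have hw2 : w * w = 1 := by
      rw [hw, ← (Commute.refl c₁).mul_pow]
      exact congrArg Subtype.val (pow_card_eq_one' (x := (⟨c₁ * c₁, hsqO⟩ : O)))
    have hfw : f w = v' * l := by
      rw [hw, map_pow, hfc₁]
      exact odd_pow_self (by rw [show v' * l * (v' * l) = v' * l * v' * l by group, hvlv, mul_assoc, hll, hzz])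
        ⟨n, hn⟩
    have hwv : w * v * w = v * z := by
      have hcs : ∀ k : ℕ, (c₁ * c₁) ^ k * v * ((c₁ * c₁) ^ k)⁻¹ = v := fun k => by
        rw [((show Commute (c₁ * c₁) v from mul_inv_eq_iff_eq_mul.1 hsq).pow_left k).eq, mul_inv_cancel_right]
      have e1 : w = (c₁ * c₁) ^ n * c₁ := by rw [hw, hn, pow_succ, pow_mul, pow_two]
      have e2 : w * v * w⁻¹ = v * z := by
        rw [e1, show (c₁ * c₁) ^ n * c₁ * v * ((c₁ * c₁) ^ n * c₁)⁻¹ =
          (c₁ * c₁) ^ n * (c₁ * v * c₁⁻¹) * ((c₁ * c₁) ^ n)⁻¹ by group, hswap,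
          show (c₁ * c₁) ^ n * (v * z) * ((c₁ * c₁) ^ n)⁻¹ =
            (c₁ * c₁) ^ n * v * ((c₁ * c₁) ^ n)⁻¹ * ((c₁ * c₁) ^ n * z * ((c₁ * c₁) ^ n)⁻¹) by group, hcs,
          Subgroup.mem_center_iff.1 hz, mul_inv_cancel_right]
      rwa [inv_eq_of_mul_eq_one_right hw2] at e2
    obtain ⟨d, hd, hdv, h⟩ := hcent _ (hfixed g hg)
    have hdl : l * f d = f d * l := by
      have h1 : f d * (v' * l) = v' * l * f d := by rw [← hfw, ← map_mul, ← map_mul, hcen w hw2 hwv d hd hdv]
      calc l * f d = v' * (v' * l * f d) := by rw [← mul_assoc, ← mul_assoc, hvv, one_mul]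
        _ = v' * (f d * (v' * l)) := by rw [h1]
        _ = v' * v' * f d * l := by rw [← mul_assoc, ← mul_assoc, mul_assoc v', ← hdv' d hdv, mul_assoc v' v']
        _ = f d * l := by rw [hvv, one_mul]
    have hgl : l * (e.symm g : C ⧸ O) = (e.symm g : C ⧸ O) * l := by
      have noL : ∀ a : C ⧸ O, a * a = 1 → a * f d = f d * a → (e.symm g : C ⧸ O) = a * f d → a ∈ L :=
        fun a ha hc hla => by
          rw [← hsame a (f d) (hfodd d hd) ha hc, ← hla]
          exact pow_mem (e.symm g).2 _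
      rcases h with h | h | h | h <;> rw [h]
      · exact hdl
      · calc l * (z' * f d) = z' * (l * f d) := by rw [← mul_assoc, hz'c l, mul_assoc]
          _ = _ := by rw [hdl, mul_assoc]
      · exact absurd (noL v' hvv (hdv' d hdv) h) hvL
      · refine absurd ?_ hvL
        have h1 := noL (v' * z') (by
          rw [show v' * z' * (v' * z') = v' * (z' * v') * z' by group, ← hz'c, ← mul_assoc, hvv, one_mul, hzz])
          (by rw [mul_assoc, ← hz'c, ← mul_assoc, hdv' d hdv, mul_assoc]) h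
        have h2 := mul_mem h1 m.2
        rwa [hmz, mul_assoc, hzz, mul_one] at h2
    exact e.symm.injective (by rw [map_mul, map_mul]; exact Subtype.ext hgl)
  have h3 : Fintype.card F = 3 := card_eq_three_of_fixed hF hα h4 h5
  obtain ⟨σ⟩ := CfsgLib.GWConseq.QDCentre.sl_three_equiv h3
  let ε : L ≃* SL3 := e.trans σ
  have hσneg : σ (-1) = -1 := by
    have hs : σ (-1) * σ (-1) = 1 := by rw [← map_mul, neg_mul_neg, one_mul, map_one]
    have hne : σ (-1) ≠ 1 := fun h => hm1 (by
      rw [hm, σ.injective (h.trans (map_one σ).symm), map_one])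
    revert hs hne
    generalize σ (-1) = x
    revert x
    decide +kernel
  let act : (C ⧸ O) →* MulAut SL3 := (MulAut.congr ε).toMonoidHom.comp MulAut.conjNormal
  have hact : ∀ x g, ((ε.symm (act x g) : L) : C ⧸ O) = x * (ε.symm g : C ⧸ O) * x⁻¹ := fun x g => by
    show ((ε.symm (ε (MulAut.conjNormal x (ε.symm g))) : L) : C ⧸ O) = _
    rw [ε.symm_apply_apply, MulAut.conjNormal_apply]
  have h4' : ∀ g : SL3, g * g = -1 → act v' g ≠ g := by
    intro g hg hfix
    refine h4 (σ.symm g) (σ.injective (by rw [map_mul, σ.apply_symm_apply, hg, hσneg])) ?_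
    apply e.symm.injective
    apply Subtype.ext
    rw [hαval]
    have h := hact v' g
    rw [hfix, inv_eq_of_mul_eq_one_right hvv] at h
    exact h.symm
  have hcentL : ∀ d : C, Odd (orderOf d) → d * v = v * d →
      ∀ l : L, (l : C ⧸ O) * f d = f d * l := by
    intro d hd hdv l
    have hone : act (f d) = 1 := by
      refine sl3_odd_aut (α := act v') ?_ h4' ((show Commute v' (f d) from hdv' d hdv).map act) ?_
      · rw [← map_mul, hvv, map_one]
      · exact (hfodd d hd).of_dvd_nat (orderOf_map_dvd act (f d))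
    have h := hact (f d) (ε l)
    rw [hone, MulAut.one_apply, ε.symm_apply_apply] at h
    exact (mul_inv_eq_iff_eq_mul.1 h.symm).symm
  -- the centraliser of the commutator subgroup
  set M := Subgroup.centralizer (L : Set (C ⧸ O)) with hM
  have hcomm : ∀ a b : M, ((a * b * a⁻¹ * b⁻¹ : M) : C ⧸ O) = 1 ∨ ((a * b * a⁻¹ * b⁻¹ : M) : C ⧸ O) = m := by
    intro a b
    have hL : ((a * b * a⁻¹ * b⁻¹ : M) : C ⧸ O) ∈ L := by
      have h : ⁅(a : C ⧸ O), (b : C ⧸ O)⁆ ∈ L := Subgroup.commutator_mem_commutator (Subgroup.mem_top _) (Subgroup.mem_top _)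
      rwa [commutatorElement_def] at h
    set c : L := ⟨_, hL⟩ with hc
    have hall : ∀ l : L, c * l = l * c := fun l => Subtype.ext
      ((Subgroup.mem_centralizer_iff.1 (a * b * a⁻¹ * b⁻¹ : M).2 l l.2).symm)
    obtain ⟨x, y, hx, hy, h1, h2⟩ := sl3_exists
    rcases sl3_cent x y (ε c) hx hy h1 h2
      (by rw [← ε.apply_symm_apply x, ← map_mul, ← map_mul, hall])
      (by rw [← ε.apply_symm_apply y, ← map_mul, ← map_mul, hall]) with h | h
    · left
      have : c = 1 := ε.injective (h.trans (map_one ε).symm)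
      exact congrArg Subtype.val this
    · right
      have : c = m := ε.injective (h.trans (by
        show -1 = σ (e (e.symm (-1)))
        rw [e.apply_symm_apply, hσneg]))
      exact congrArg Subtype.val this
  have hoddc : ∀ x : M, Odd (orderOf x) → ∀ y : M, x * y = y * x := by
    intro x hx y
    refine odd_central (fun a b c => Subtype.ext ?_) (fun a b => Subtype.ext ?_) hx y
    · show ((a * b * a⁻¹ * b⁻¹ : M) : C ⧸ O) * (c : C ⧸ O) = (c : C ⧸ O) * ((a * b * a⁻¹ * b⁻¹ : M) : C ⧸ O)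
      rcases hcomm a b with h | h <;> rw [h]
      · rw [one_mul, mul_one]
      · exact (hmc c).symm
    · show ((a * b * a⁻¹ * b⁻¹ : M) : C ⧸ O) * ((a * b * a⁻¹ * b⁻¹ : M) : C ⧸ O) = 1
      rcases hcomm a b with h | h <;> rw [h]
      · rw [one_mul]
      · exact congrArg Subtype.val hmm
  let N : Subgroup (C ⧸ O) :=
    { carrier := {x | x ∈ M ∧ Odd (orderOf x)}
      one_mem' := ⟨one_mem _, by rw [orderOf_one]; exact odd_one⟩
      mul_mem' := fun {a b} ha hb => ⟨mul_mem ha.1 hb.1, by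
        have hc : Commute a b := congrArg Subtype.val (hoddc ⟨a, ha.1⟩ (by rw [Subgroup.orderOf_mk]; exact ha.2) ⟨b, hb.1⟩)
        exact (ha.2.mul hb.2).of_dvd_nat hc.orderOf_mul_dvd_mul_orderOf⟩
      inv_mem' := fun {a} ha => ⟨inv_mem ha.1, by rw [orderOf_inv]; exact ha.2⟩ }
  haveI : N.Normal := ⟨fun x hx g => ⟨(inferInstance : M.Normal).conj_mem x hx.1 g, by
    rw [show g * x * g⁻¹ = MulAut.conj g x from rfl, MulEquiv.orderOf_eq]; exact hx.2⟩⟩
  have hNodd : Odd (Nat.card N) := by
    rw [← Nat.not_even_iff_odd, even_iff_two_dvd]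
    intro h2
    haveI : Fact (Nat.Prime 2) := ⟨Nat.prime_two⟩
    obtain ⟨x, hx⟩ := exists_prime_orderOf_dvd_card' 2 h2
    have := x.2.2
    rw [Subgroup.orderOf_coe, hx] at this
    exact absurd this (by decide)
  have hpre : Odd (Nat.card (N.comap f)) := by
    have h1 : O ≤ N.comap f := fun x hx => by
      rw [Subgroup.mem_comap, show f x = 1 from (QuotientGroup.eq_one_iff x).2 hx]; exact one_mem _
    have h2 := Subgroup.card_mul_index (O.subgroupOf (N.comap f))
    rw [Nat.card_congr (Subgroup.subgroupOfEquivOfLe h1).toEquiv] at h2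
    rw [← h2, show (O.subgroupOf (N.comap f)).index = O.relIndex (N.comap f) from rfl]
    refine hodd.mul ?_
    have h3 : O.relIndex (N.comap f) = Nat.card N := by
      have h4 : O = (⊥ : Subgroup (C ⧸ O)).comap f := by rw [MonoidHom.comap_bot, QuotientGroup.ker_mk']
      refine (congrArg (fun X : Subgroup C => X.relIndex (N.comap f)) h4).trans ?_
      rw [Subgroup.relIndex_comap, Subgroup.map_comap_eq_self_of_surjective (QuotientGroup.mk'_surjective O),
        Subgroup.relIndex_bot_left]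
    rw [h3]
    exact hNodd
  have hDO : ∀ d : C, Odd (orderOf d) → d * v = v * d → d ∈ O := fun d hd hdv =>
    hmax _ inferInstance hpre ⟨Subgroup.mem_centralizer_iff.2 fun l hl => hcentL d hd hdv ⟨l, hl⟩, hfodd d hd⟩
  refine ⟨hDO, ?_⟩
  let q₀ : (C ⧸ O) ⧸ (⊥ : Subgroup (C ⧸ O)) ≃* C ⧸ O := QuotientGroup.quotientBot
  have hq : (commutator (C ⧸ O)).map q₀.symm.toMonoidHom = commutator ((C ⧸ O) ⧸ (⊥ : Subgroup (C ⧸ O))) := by
    rw [_root_.commutator_def, _root_.commutator_def, Subgroup.map_commutator,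
      Subgroup.map_top_of_surjective _ q₀.symm.surjective]
  obtain ⟨⟨ψ⟩, h48⟩ := CfsgLib.SuborbitGroups.SD.quotient_gl (C := C ⧸ O) (⊥ : Subgroup (C ⧸ O)) (by simp)
    (z := z') (v := v') (Subgroup.mem_center_iff.2 hz'c) (by simpa using hz'1) hvv hzz (by simpa using hv'1)
    (by simpa using hvz')
    (fun x hx => by
      obtain ⟨d, hd, hdv, h⟩ := hcent x hx
      have h1 : f d = 1 := (QuotientGroup.eq_one_iff d).2 (hDO d hd hdv)
      simpa [h1] using h)
    (by rw [Nat.card_congr q₀.toEquiv]; exact h16) hF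
    (((commutator (C ⧸ O)).equivMapOfInjective q₀.symm.toMonoidHom q₀.symm.injective |>.trans
      (MulEquiv.subgroupCongr hq)).symm.trans e)
  exact ⟨⟨q₀.symm.trans ψ⟩, by rw [← h48, Nat.card_congr q₀.toEquiv]⟩

end CfsgLib.OvalPlane.SD
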