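import Cfsg.Agent.Lib.OvalPlane.SDEndModel
import Cfsg.Agent.Lib.Basic

/-!
Automorphisms of odd order of `SL(2,3)` commuting with an involutory automorphism without fixed element of
order four; lifting of involutions through a normal subgroup of odd order.
-/

set_option autoImplicit false
set_option linter.style.haveILetI false
set_option linter.unusedSectionVars false

namespace CfsgLib.OvalPlane.SD

abbrev SL3 := Matrix.SpecialLinearGroup (Fin 2) (ZMod 3)

set_option maxRecDepth 20000 in
set_option synthInstance.maxSize 1000 in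
theorem sl3_pairs : ∀ x y g : SL3, x * x = -1 → y * y = -1 → y ≠ x → y ≠ -x → g * g = -1 →
    g = x ∨ g = -x ∨ g = y ∨ g = -y ∨ g = x * y ∨ g = -(x * y) := by decide +kernel

set_option maxRecDepth 20000 in
set_option synthInstance.maxSize 1000 in
theorem sl3_cent : ∀ x y g : SL3, x * x = -1 → y * y = -1 → y ≠ x → y ≠ -x → g * x = x * g → g * y = y * g →
    g = 1 ∨ g = -1 := by decide +kernel

set_option maxRecDepth 20000 in
set_option synthInstance.maxSize 1000 in
theorem sl3_prod : ∀ x y : SL3, x * x = -1 → y * y = -1 → y ≠ x → y ≠ -x →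
    x * y * (x * y) = -1 ∧ y * x = -(x * y) := by decide +kernel

set_option maxRecDepth 20000 in
set_option synthInstance.maxSize 1000 in
theorem sl3_exists : ∃ x y : SL3, x * x = -1 ∧ y * y = -1 ∧ y ≠ x ∧ y ≠ -x := by decide +kernel

/-- A point of two-power period of an automorphism of odd order is fixed. -/
theorem fixed_of_period {M : Type*} [Group M] {β : MulAut M} (hodd : Odd (orderOf β)) {x : M} {n : ℕ}
    (h : (β ^ 2 ^ n) x = x) : β x = x := by
  have hper : ∀ k : ℕ, ((β ^ 2 ^ n) ^ k) x = x := fun k => by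
    induction k with
    | zero => rfl
    | succ k ih => rw [pow_succ, MulAut.mul_apply, h, ih]
  obtain ⟨k, hk⟩ := exists_pow_eq_self_of_coprime (x := β)
    ((Nat.coprime_two_left.2 hodd).pow_left n)
  rw [← hk]
  exact hper k

theorem sl3_neg_ne (x : SL3) : -x ≠ x := by
  intro h
  have h1 : (-1 : SL3) = 1 := mul_right_cancel (b := x) (by rw [neg_mul, one_mul]; exact h)
  revert h1
  decide

/-- An automorphism of odd order commuting with an involutory one without fixed element of order four is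
trivial. -/
theorem sl3_odd_aut {α β : MulAut SL3} (hα : α * α = 1) (h4 : ∀ g : SL3, g * g = -1 → α g ≠ g)
    (hc : Commute α β) (hodd : Odd (orderOf β)) : β = 1 := by
  have hαα : ∀ g, α (α g) = g := fun g => by rw [← MulAut.mul_apply, hα, MulAut.one_apply]
  have hneg : ∀ (γ : MulAut SL3) g, γ (-g) = -γ g := fun γ g => map_neg' (by decide) γ g
  obtain ⟨i, hii, hi⟩ : ∃ i, i * i = -1 ∧ α i = -i := by
    obtain ⟨x, y, hx, hy, h1, h2⟩ := sl3_exists
    have hax : α x * α x = -1 := by rw [← map_mul, hx, hneg, map_one]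
    rcases sl3_pairs x y (α x) hx hy h1 h2 hax with e | e | e | e | e | e
    · exact absurd e (h4 x hx)
    · exact ⟨x, hx, e⟩
    all_goals
      have hyinv : y⁻¹ = -y := inv_eq_of_mul_eq_one_right (by rw [mul_neg, hy, neg_neg])
    · refine ⟨x * y, (sl3_prod x y hx hy h1 h2).1, ?_⟩
      have ey : α y = x := by rw [← e, hαα]
      rw [map_mul, e, ey, (sl3_prod x y hx hy h1 h2).2]
    · refine ⟨x * y, (sl3_prod x y hx hy h1 h2).1, ?_⟩
      have ey : α y = -x := by
        have := congrArg α e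
        rw [hαα, hneg] at this
        exact (neg_eq_iff_eq_neg.1 this.symm)
      rw [map_mul, e, ey, neg_mul_neg, (sl3_prod x y hx hy h1 h2).2]
    · refine ⟨y, hy, ?_⟩
      have e' : α (x * y) = x := by rw [← e, hαα]
      rw [map_mul, e, ← eq_inv_mul_iff_mul_eq] at e'
      rw [e', mul_inv_rev, mul_assoc, inv_mul_cancel, mul_one, hyinv]
    · refine ⟨y, hy, ?_⟩
      have e' : α (x * y) = -x := by
        have := congrArg α e
        rw [hαα, hneg] at this
        exact neg_eq_iff_eq_neg.1 this.symm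
      rw [map_mul, e, ← eq_inv_mul_iff_mul_eq] at e'
      rw [e', ← neg_mul_neg (-(x * y))⁻¹, neg_neg, ← hyinv]
      rw [show -(-(x * y))⁻¹ = (x * y)⁻¹ by
        refine (inv_eq_of_mul_eq_one_right ?_).symm
        rw [mul_neg, ← neg_mul, mul_inv_cancel], mul_inv_rev, mul_assoc, inv_mul_cancel, mul_one]
  have huniq : ∀ j, j * j = -1 → α j = -j → j = i ∨ j = -i := by
    intro j hjj hj
    by_contra h
    push Not at h
    exact h4 (i * j) (sl3_prod i j hii hjj h.1 h.2).1 (by rw [map_mul, hi, hj, neg_mul_neg])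
  have hcomm : ∀ g, α (β g) = β (α g) := fun g => congrArg (fun γ : MulAut SL3 => γ g) hc.eq
  have hβi : β i = i := by
    refine fixed_of_period hodd (n := 1) ?_
    show (β ^ 2) i = i
    rw [pow_two, MulAut.mul_apply]
    rcases huniq (β i) (by rw [← map_mul, hii, hneg, map_one]) (by rw [hcomm, hi, hneg]) with e | e <;> rw [e]
    · exact e
    · rw [hneg, e, neg_neg]
  obtain ⟨j, hjj, hj1, hj2⟩ : ∃ j : SL3, j * j = -1 ∧ j ≠ i ∧ j ≠ -i := by
    obtain ⟨x, y, hx, hy, h1, h2⟩ := sl3_exists
    by_cases h : x = i ∨ x = -i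
    · refine ⟨y, hy, ?_, ?_⟩ <;> rcases h with rfl | rfl
      · exact h1
      · exact fun e => h2 (by rw [neg_neg]; exact e)
      · exact h2
      · exact h1
    · push Not at h
      exact ⟨x, hx, h.1, h.2⟩
  have hβj : β j = j := by
    have hbb : β j * β j = -1 := by rw [← map_mul, hjj, hneg, map_one]
    rcases sl3_pairs i j (β j) hii hjj hj1 hj2 hbb with e | e | e | e | e | e
    · exact absurd (β.injective (e.trans hβi.symm)) hj1
    · exact absurd (β.injective (e.trans (by rw [hneg, hβi]))) hj2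
    · exact e
    · exact absurd (fixed_of_period hodd (n := 1) (by
        show (β ^ 2) j = j
        rw [pow_two, MulAut.mul_apply, e, hneg, e, neg_neg])) (by rw [e]; exact sl3_neg_ne j)
    all_goals
      have h2 : β (β j) = -j := by
        rw [e]
        simp only [hneg, map_mul, hβi, e, mul_neg, neg_neg]
        rw [← mul_assoc, hii, neg_one_mul]
      refine fixed_of_period hodd (n := 2) ?_
      show (β ^ (2 * 2)) j = j
      rw [pow_mul, pow_two (β ^ 2), MulAut.mul_apply, pow_two β, MulAut.mul_apply, MulAut.mul_apply, h2, hneg, hneg,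
        h2, neg_neg]
  refine MulEquiv.ext fun g => ?_
  have hcon : ∀ x, x * x = -1 → β x = x → g * x * g⁻¹ * (g * x * g⁻¹) = -1 → β (g * x * g⁻¹) = g * x * g⁻¹ := by
    intro x hx hfix h
    rcases sl3_pairs i j _ hii hjj hj1 hj2 h with e | e | e | e | e | e <;> rw [e] <;>
      simp only [hneg, map_mul, hβi, hβj]
  have hsq : ∀ x : SL3, x * x = -1 → g * x * g⁻¹ * (g * x * g⁻¹) = -1 := fun x hx => by
    calc g * x * g⁻¹ * (g * x * g⁻¹) = g * (x * x) * g⁻¹ := by group
      _ = -1 := by rw [hx, mul_neg, mul_one, neg_mul, mul_inv_cancel]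
  have key : ∀ x, x * x = -1 → β x = x → (g⁻¹ * β g) * x = x * (g⁻¹ * β g) := by
    intro x hx hfix
    have h := hcon x hx hfix (hsq x hx)
    rw [map_mul, map_mul, hfix, map_inv] at h
    calc g⁻¹ * β g * x = g⁻¹ * (β g * x * (β g)⁻¹) * β g := by group
      _ = g⁻¹ * (g * x * g⁻¹) * β g := by rw [h]
      _ = x * (g⁻¹ * β g) := by group
  show β g = g
  rcases sl3_cent i j _ hii hjj hj1 hj2 (key i hii hβi) (key j hjj hβj) with e | e
  · exact (inv_mul_eq_one.1 e).symm
  · refine fixed_of_period hodd (n := 1) ?_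
    show (β ^ 2) g = g
    rw [inv_mul_eq_iff_eq_mul, mul_neg, mul_one] at e
    rw [pow_two, MulAut.mul_apply, e, hneg, e, neg_neg]

/-- Two involutions differing by an element of a normal subgroup of odd order are conjugate by one. -/
theorem exists_conj_of_mem {C : Type*} [Group C] [Finite C] {K : Subgroup C} (hodd : Odd (Nat.card K))
    {u w : C} (hu : u * u = 1) (hw : w * w = 1) (h : u * w ∈ K) : ∃ y ∈ K, y * u * y⁻¹ = w := by
  set x := u * w with hx
  obtain ⟨j, hj⟩ := hodd.of_dvd_nat (Subgroup.orderOf_dvd_natCard K h)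
  have hux : u * x * u⁻¹ = x⁻¹ := by
    rw [inv_eq_of_mul_eq_one_right hu, hx, mul_inv_rev, inv_eq_of_mul_eq_one_right hu,
      inv_eq_of_mul_eq_one_right hw, ← mul_assoc u u w, hu, one_mul]
  refine ⟨x ^ j, pow_mem h j, ?_⟩
  have h1 : x ^ j * u * (x ^ j)⁻¹ = x ^ (2 * j) * u := by
    have h2 : u * (x ^ j)⁻¹ = x ^ j * u := by
      rw [← inv_pow, ← hux, conj_pow]
      calc u * (u * x ^ j * u⁻¹) = (u * u) * x ^ j * u⁻¹ := by group
        _ = x ^ j * u := by rw [hu, one_mul, inv_eq_of_mul_eq_one_right hu]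
    rw [mul_assoc, h2, ← mul_assoc, two_mul, pow_add]
  have h3 : x ^ (2 * j) = x⁻¹ := eq_inv_of_mul_eq_one_left (by rw [← pow_succ, ← hj, pow_orderOf_eq_one])
  rw [h1, h3, hx, mul_inv_rev, inv_eq_of_mul_eq_one_right hu, inv_eq_of_mul_eq_one_right hw, mul_assoc, hu, mul_one]

/-- In a group whose commutators lie in a central subgroup of order at most two the elements of odd order are
central. -/
theorem odd_central {M : Type*} [Group M] (hcomm : ∀ a b : M, ∀ c, (a * b * a⁻¹ * b⁻¹) * c = c * (a * b * a⁻¹ * b⁻¹))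
    (hsq : ∀ a b : M, (a * b * a⁻¹ * b⁻¹) * (a * b * a⁻¹ * b⁻¹) = 1) {x : M} (hx : Odd (orderOf x)) (y : M) :
    x * y = y * x := by
  set c := y * x * y⁻¹ * x⁻¹ with hc
  obtain ⟨j, hj⟩ := hx
  have hcx : Commute c x := hcomm y x x
  have h1 : y * x * y⁻¹ = c * x := by rw [hc, inv_mul_cancel_right]
  have h2 : (c * x) ^ (2 * j + 1) = 1 := by rw [← h1, conj_pow, ← hj, pow_orderOf_eq_one, mul_one, mul_inv_cancel]
  rw [hcx.mul_pow, ← hj, pow_orderOf_eq_one, mul_one, hj, pow_succ, pow_mul, pow_two, hc, hsq, one_pow, one_mul] at h2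
  rw [← hc] at h2
  have := h1
  rw [h2, one_mul, mul_inv_eq_iff_eq_mul] at this
  exact this.symm

end CfsgLib.OvalPlane.SD
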