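import Cfsg.Agent.Lib.OvalPlane.Pairs
import Cfsg.Agent.Lib.OvalPlane.Group
import Cfsg.Agent.S0111

set_option autoImplicit false
set_option linter.unusedSectionVars false
set_option linter.unusedVariables false
set_option linter.style.haveILetI false

/-!
A Sylow 2-subgroup has a central homology and another homology.
-/

namespace CfsgLib.OvalPlane

open CfsgLib.TTP

universe u v w

variable {P : Type u} {L : Type v} {π : Pl P L} {G : Type w} [Group G] [Finite P] [Finite L]
variable {A : Act π G} {O : Oval A}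

/-- A central homology of a Sylow 2-subgroup. -/
structure Setup (M : Mod1 O) (S : Sylow 2 G) (h : G) : Prop where
  mem : h ∈ (S : Subgroup G)
  hom : IsHom A h
  central : ∀ g ∈ (S : Subgroup G), g * h = h * g

/-- A 2-group leaves a pair of points of the oval invariant. -/
theorem exists_pair (M : Mod1 O) {R : Subgroup G} (hR : IsPGroup 2 R) :
    ∃ x y, x ≠ y ∧ x ∈ O.pts ∧ y ∈ O.pts ∧ ∀ g ∈ R, A.p g x = x ∧ A.p g y = y ∨ A.p g x = y ∧ A.p g y = x := by
  classical
  haveI : Fact (Nat.Prime 2) := ⟨Nat.prime_two⟩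
  haveI := A.finite
  letI : MulAction R O.pts :=
    { smul := fun g x => ⟨A.p g x, O.inv g x x.2⟩
      one_smul := fun x => Subtype.ext (show A.p ((1 : R) : G) x = x by simp)
      mul_smul := fun g k x => Subtype.ext (A.p_mul _ _ _) }
  have hpair : ∃ X : O.pts, Nat.card (MulAction.orbit R X) ≤ 2 := by
    by_contra! hbig
    haveI := Fintype.ofFinite ↥O.pts
    haveI := Fintype.ofFinite (MulAction.orbitRel.Quotient R O.pts)
    haveI : ∀ ω : MulAction.orbitRel.Quotient R O.pts, Fintype (MulAction.orbit R (Quotient.out ω)) :=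
      fun ω => Fintype.ofFinite _
    have h4 : 4 ∣ Nat.card O.pts := by
      rw [Nat.card_congr (MulAction.selfEquivSigmaOrbits R O.pts), Nat.card_sigma]
      refine Finset.dvd_sum fun ω _ => ?_
      obtain ⟨k, hk⟩ := hR.card_orbit (Quotient.out ω)
      have h := hbig (Quotient.out ω)
      rw [hk] at h ⊢
      rw [show 4 = 2 ^ 2 from rfl]
      refine pow_dvd_pow 2 ?_
      by_contra hcon
      have h' : k = 0 ∨ k = 1 := by omega
      rcases h' with rfl | rfl <;> simp at h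
    rw [Nat.card_coe_set_eq, O.card] at h4
    have := M.mod
    omega
  obtain ⟨X, hX⟩ := hpair
  have hmemorb : ∀ g : R, g • X ∈ MulAction.orbit R X := fun g => MulAction.mem_orbit X g
  by_cases hfix : ∀ g : R, g • X = X
  · have hmod := hR.card_modEq_card_fixedPoints O.pts
    rw [Nat.card_coe_set_eq O.pts, O.card] at hmod
    obtain ⟨Y, hY, hYX⟩ : ∃ Y : O.pts, (∀ g : R, g • Y = Y) ∧ Y ≠ X := by
      by_contra! hc
      have h1 : Nat.card (MulAction.fixedPoints R O.pts) = 1 :=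
        Nat.card_eq_one_iff_exists.mpr ⟨⟨X, hfix⟩, fun Z => Subtype.ext (hc Z.1 Z.2)⟩
      rw [h1] at hmod
      have := M.mod
      unfold Nat.ModEq at hmod
      omega
    exact ⟨X, Y, fun e => hYX (Subtype.ext e.symm), X.2, Y.2, fun g hg =>
      Or.inl ⟨congrArg Subtype.val (hfix ⟨g, hg⟩), congrArg Subtype.val (hY ⟨g, hg⟩)⟩⟩
  push Not at hfix
  obtain ⟨g₀, hg₀⟩ := hfix
  have horb : MulAction.orbit R X = {X, g₀ • X} := by
    refine (Set.eq_of_subset_of_ncard_le (Set.insert_subset (MulAction.mem_orbit_self X)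
      (Set.singleton_subset_iff.mpr (hmemorb g₀))) ?_).symm
    rw [Set.ncard_pair (Ne.symm hg₀), ← Nat.card_coe_set_eq]
    exact hX
  refine ⟨X, (g₀ • X).1, fun e => hg₀ (Subtype.ext e.symm), X.2, (g₀ • X).2, fun g hg => ?_⟩
  have h1 := hmemorb ⟨g, hg⟩
  rw [horb] at h1
  rcases h1 with h1 | h1
  · refine Or.inl ⟨congrArg Subtype.val h1, ?_⟩
    have h2 := hmemorb (⟨g, hg⟩ * g₀)
    rw [horb, mul_smul] at h2
    rcases h2 with h2 | h2
    · exact absurd (MulAction.injective _ (h2.trans h1.symm)) hg₀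
    · exact congrArg Subtype.val h2
  · refine Or.inr ⟨congrArg Subtype.val h1, ?_⟩
    have h2 := hmemorb (⟨g, hg⟩ * g₀)
    rw [horb, mul_smul] at h2
    rcases h2 with h2 | h2
    · exact congrArg Subtype.val h2
    · exact absurd (MulAction.injective _ (h2.trans h1.symm)) hg₀

/-- A central homology exists in every Sylow 2-subgroup. -/
theorem Setup.exists [Finite G] [IsSimpleGroup G] (M : Mod1 O) (hG : ¬ IsMulCommutative G) (S : Sylow 2 G) :
    ∃ h, Setup M S h := by
  classical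
  haveI : Fact (Nat.Prime 2) := ⟨Nat.prime_two⟩
  obtain ⟨x, y, hxy, hx, hy, hS⟩ := exists_pair M S.2
  obtain ⟨a, ha, b, hb, ha2, hb2, ha1, hb1, hab, habc⟩ := exists_klein hG S
  obtain ⟨k, hk, hkh⟩ : ∃ k ∈ (S : Subgroup G), IsHom A k := by
    rcases M.klein_hom ha2 ha1 hb2 hb1 hab habc with h | h | h
    exacts [⟨a, ha, h⟩, ⟨b, hb, h⟩, ⟨_, mul_mem ha hb, h⟩]
  have hboth : ∀ g ∈ (S : Subgroup G), A.p g x = x → A.p g y = y := fun g hg hgx => by
    rcases hS g hg with h | h
    exacts [h.2, absurd (hgx.symm.trans h.1) hxy]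
  obtain ⟨h, hhS, hhh, hhx⟩ : ∃ h ∈ (S : Subgroup G), IsHom A h ∧ A.p h x = x := by
    by_cases hkx : A.p k x = x
    · exact ⟨k, hk, hkh, hkx⟩
    set Q := (S : Subgroup G) ⊓ A.stP x with hQ
    have hQi : Q.relIndex (S : Subgroup G) = 2 := by
      rw [Subgroup.relIndex, Subgroup.index_eq_two_iff]
      refine ⟨⟨k, hk⟩, fun g => ?_⟩
      have e : ∀ g : (S : Subgroup G), g ∈ Q.subgroupOf (S : Subgroup G) ↔ A.p (g : G) x = x := fun g =>
        ⟨fun h => h.2, fun h => ⟨g.2, h⟩⟩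
      obtain ⟨e1, e2⟩ := (hS k hk).resolve_left fun h => hkx h.1
      rw [e, e, Subgroup.coe_mul, A.p_mul, e1]
      rcases hS g g.2 with ⟨hgx, -⟩ | ⟨hgx, hgy⟩
      · refine Or.inr ⟨hgx, fun h => hxy ((A.p (g : G)).injective (hgx.trans h.symm))⟩
      · exact Or.inl ⟨hgy, fun h => hxy (h.symm.trans hgx)⟩
    have hk2 : orderOf k = 2 := Act.inv_order hkh.sq hkh.ne
    rcases Cfsg.Agent.S0111.result S Q inf_le_left hQi k hk2 hk (fun h => hkx h.2) with ⟨N, hN, hi, -⟩ | ⟨g, hg⟩
    · rcases hN.eq_bot_or_eq_top with e | e <;> rw [e] at hi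
      · rw [Subgroup.index_bot] at hi
        have := four_le_card hG
        omega
      · rw [Subgroup.index_top] at hi; omega
    · exact ⟨_, hg.1, hkh.map g, hg.2⟩
  have hhy : A.p h y = y := hboth h hhS hhx
  have hpair : O.fixO h = {x, y} := (Set.eq_of_subset_of_ncard_le
    (Set.insert_subset (show x ∈ O.fixO h from ⟨hx, hhx⟩) (Set.singleton_subset_iff.mpr (show y ∈ O.fixO h from ⟨hy, hhy⟩)))
    (by rw [M.ncard_fixO hhh, Set.ncard_pair hxy])).symm
  refine ⟨h, hhS, hhh, fun g hg => ?_⟩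
  have e : g * h * g⁻¹ = h := by
    refine M.eq_of_fixO (hhh.map g) hhh ?_
    refine (Set.eq_of_subset_of_ncard_le ?_ (by rw [M.ncard_fixO (hhh.map g), M.ncard_fixO hhh])).symm
    intro z hz
    have hz' : A.p g⁻¹ z ∈ O.fixO h := by
      rw [hpair] at hz ⊢
      rcases hS g⁻¹ (inv_mem hg) with ⟨hgx, -⟩ | ⟨hgx, hgy⟩
      · rcases hz with rfl | rfl
        exacts [Or.inl hgx, Or.inr (hboth _ (inv_mem hg) hgx)]
      · rcases hz with rfl | rfl
        exacts [Or.inr hgx, Or.inl hgy]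
    have := (O.map_fixO h g).mpr hz'
    rwa [A.p_apply_inv] at this
  calc g * h = g * h * g⁻¹ * g := by group
    _ = h * g := by rw [e]

/-- The other homologies of the Sylow subgroup. -/
theorem Setup.exists_other [Finite G] [IsSimpleGroup G] {M : Mod1 O} {S : Sylow 2 G} {h : G}
    (hG : ¬ IsMulCommutative G) (hs : Setup M S h) : ∃ u ∈ (S : Subgroup G), IsHom A u ∧ u ≠ h := by
  obtain ⟨g, hg, hne⟩ := exists_fused hG S (Act.inv_order hs.hom.sq hs.hom.ne) hs.mem
  exact ⟨_, hg, hs.hom.map g, hne⟩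

end CfsgLib.OvalPlane
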