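import Cfsg.Agent.Lib.OvalPlane.Invol
import Cfsg.Agent.Lib.OvalPlane.Group
import Cfsg.Agent.Lib.QuasiDihedralFusion

set_option autoImplicit false
set_option linter.unusedSectionVars false
set_option linter.unusedVariables false
set_option linter.style.haveILetI false

/-!
Simple groups fixing an oval in a plane of order `3` modulo `4`.
-/

namespace CfsgLib.OvalPlane

open CfsgLib.TTP

universe u v w

variable {P : Type u} {L : Type v} {π : Pl P L} {G : Type w} [Group G] [Finite P] [Finite L]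
variable {A : Act π G} (O : Oval A)

/-- Constant stabilisers give a divisibility. -/
theorem relIndex_dvd_of_stab (A : Act π G) (H K : Subgroup G) (T : Set P) (hT : ∀ h ∈ H, ∀ x ∈ T, A.p h x ∈ T)
    (hst : ∀ x ∈ T, ∀ h ∈ H, A.p h x = x ↔ h ∈ K) : K.relIndex H ∣ T.ncard := by
  classical
  haveI := A.finite
  letI : MulAction H T :=
    { smul := fun h x => ⟨A.p h x, hT h h.2 x x.2⟩
      one_smul := fun x => Subtype.ext (show A.p ((1 : H) : G) x = x by simp)
      mul_smul := fun h k x => Subtype.ext (A.p_mul _ _ _) }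
  haveI := Fintype.ofFinite ↥T
  haveI := Fintype.ofFinite (MulAction.orbitRel.Quotient H T)
  haveI : ∀ ω : MulAction.orbitRel.Quotient H T, Fintype (MulAction.orbit H (Quotient.out ω)) :=
    fun ω => Fintype.ofFinite _
  have horb : ∀ x : T, Nat.card (MulAction.orbit H x) = K.relIndex H := fun x => by
    rw [Nat.card_congr (MulAction.orbitEquivQuotientStabilizer H x), ← Subgroup.index_eq_card]
    refine congrArg Subgroup.index (Subgroup.ext fun h => ?_)
    rw [MulAction.mem_stabilizer_iff, Subgroup.mem_subgroupOf]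
    exact ⟨fun e => (hst x x.2 h h.2).mp (congrArg Subtype.val e),
      fun e => Subtype.ext ((hst x x.2 h h.2).mpr e)⟩
  rw [← Nat.card_coe_set_eq, Nat.card_congr (MulAction.selfEquivSigmaOrbits H T), Nat.card_sigma]
  refine Finset.dvd_sum fun ω _ => ?_
  rw [horb]

/-- A power of order four. -/
theorem exists_four {G : Type w} [Group G] {S : Subgroup G} (hS : IsPGroup 2 S) {g : G} (hg : g ∈ S)
    (hg2 : g * g ≠ 1) : ∃ m : ℕ, g ^ m * g ^ m * (g ^ m * g ^ m) = 1 ∧ g ^ m * g ^ m ≠ 1 := by
  obtain ⟨e, he⟩ := IsPGroup.iff_orderOf.mp hS ⟨g, hg⟩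
  rw [Subgroup.orderOf_mk] at he
  obtain ⟨j, rfl⟩ : ∃ j, e = j + 2 := by
    refine ⟨e - 2, ?_⟩
    by_contra hcon
    have he' : e = 0 ∨ e = 1 := by omega
    refine hg2 ?_
    rw [← pow_two, ← orderOf_dvd_iff_pow_eq_one, he]
    rcases he' with rfl | rfl <;> norm_num
  refine ⟨2 ^ j, ?_, fun h => ?_⟩
  · rw [← pow_add, ← pow_add, ← orderOf_dvd_iff_pow_eq_one, he,
      show 2 ^ (j + 2) = 2 ^ j + 2 ^ j + (2 ^ j + 2 ^ j) by rw [pow_add]; ring]
  · rw [← pow_add, ← orderOf_dvd_iff_pow_eq_one, he, ← two_mul, ← pow_succ'] at h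
    have := (Nat.pow_dvd_pow_iff_le_right (show 1 < 2 by norm_num)).mp h
    omega

section Three

variable [Finite G] (hperf : commutator G = ⊤) (hn : π.n % 4 = 3)

include O hperf hn in
theorem all_hom {u : G} (hu : u * u = 1) (hu1 : u ≠ 1) : IsHom A u :=
  (hom_or_baer O hu hu1).resolve_right fun h => by have := h.n_mod O; omega

include O hperf hn in
theorem no_fix {u : G} (hu : u * u = 1) (hu1 : u ≠ 1) {x : P} (hx : x ∈ O.pts) : A.p u x ≠ x := fun h => by
  obtain ⟨c, a, hh⟩ := all_hom O hperf hn hu hu1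
  have : x ∈ O.cont c := ⟨hx, (hh.fix_iff O hx).mp h⟩
  rw [(O.hom_fix hperf hh).1 hn] at this
  exact this

include O hperf hn in
/-- Three commuting involutions: the third is the product of the others. -/
theorem third {s t w : G} (hs : s * s = 1) (hs1 : s ≠ 1) (ht : t * t = 1) (ht1 : t ≠ 1) (hw : w * w = 1)
    (hw1 : w ≠ 1) (hst : s ≠ t) (hws : w ≠ s) (hwt : w ≠ t) (c₁ : s * t = t * s) (c₂ : s * w = w * s)
    (c₃ : t * w = w * t) : w = s * t := by
  obtain ⟨cs, as, Hs⟩ := all_hom O hperf hn hs hs1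
  obtain ⟨ct, at', Ht⟩ := all_hom O hperf hn ht ht1
  obtain ⟨cw, aw, Hw⟩ := all_hom O hperf hn hw hw1
  have hp : s * t * (s * t) = 1 := by rw [mul_assoc, ← mul_assoc t s t, ← c₁, mul_assoc s t t, ht, mul_one, hs]
  have hp1 : s * t ≠ 1 := fun e => hst (by rw [eq_inv_of_mul_eq_one_left e, inv_eq_self ht])
  obtain ⟨cp, ap, Hp⟩ := all_hom O hperf hn hp hp1
  have hps : s * t ≠ s := fun e => ht1 (mul_left_cancel (e.trans (mul_one s).symm))
  have hpt : s * t ≠ t := fun e => hs1 (mul_right_cancel (e.trans (one_mul t).symm))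
  have hne : as ≠ at' := fun e => hst (Hs.eq_of_axis O (e ▸ Ht))
  have h1 := Hs.centre_on O Hw hws.symm c₂
  have h2 := Ht.centre_on O Hw hwt.symm c₃
  have h3 := Hs.centre_on O Hp hps.symm (by rw [mul_assoc s t s, ← c₁])
  have h4 := Ht.centre_on O Hp hpt.symm (by rw [← mul_assoc, ← c₁])
  have e : cw = cp := π.eq_of_two_lines hne h1 h3 h2 h4
  exact Hw.eq_of_centre O (e ▸ Hp)

include O hperf hn in
/-- An element of order four commutes only with its square. -/
theorem four {s w : G} (h4 : s * s * (s * s) = 1) (h2 : s * s ≠ 1) (hw : w * w = 1) (hw1 : w ≠ 1)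
    (hc : s * w = w * s) : w = s * s := by
  by_contra hne
  obtain ⟨ct, at', Ht⟩ := all_hom O hperf hn h4 h2
  obtain ⟨cw, aw, Hw⟩ := all_hom O hperf hn hw hw1
  have hct : π.I cw at' := Ht.centre_on O Hw (Ne.symm hne) (by rw [mul_assoc, hc, ← mul_assoc, hc, mul_assoc])
  have hsw : A.p s cw = cw := (Hw.comm_iff_fix O).mp hc
  have hst : A.p s ct = ct := (Ht.comm_iff_fix O).mp (by group)
  have hne' : ct ≠ cw := fun e => Ht.off (e ▸ hct)
  set j := π.join ct cw with hj
  have hsj : A.l s j = j := A.fix_join hne' hst hsw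
  have hja : j ≠ at' := fun e => Ht.off (e ▸ π.join_left ct cw)
  set T := {x | π.I x j ∧ x ≠ ct ∧ x ≠ cw} with hT
  have hcard : T.ncard = π.n - 1 := by
    have h1 : T = {x | π.I x j ∧ x ≠ ct} \ {cw} := by ext x; simp [hT, and_assoc]
    rw [h1, Set.ncard_sdiff_singleton_of_mem (show cw ∈ {x | π.I x j ∧ x ≠ ct} from ⟨π.join_right ct cw, hne'.symm⟩),
      ← Nat.card_coe_set_eq]
    exact congrArg (· - 1) (π.card_line_erase (π.join_left ct cw))
  have hord : orderOf s = 4 := orderOf_eq_prime_pow (p := 2) (n := 1)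
    (by rw [pow_one, pow_two]; exact h2) (by rw [show 2 ^ (1 + 1) = 2 + 2 from rfl, pow_add, pow_two]; exact h4)
  have hdvd : Nat.card (Subgroup.zpowers s) ∣ Nat.card T := by
    refine A.card_dvd_of_free _ T (fun g hg x hx => ?_) fun g hg x hx hfix => ?_
    · have hgj : g ∈ A.stL j := Subgroup.zpowers_le.mpr (show s ∈ A.stL j from hsj) hg
      have hgt : g ∈ A.stP ct := Subgroup.zpowers_le.mpr (show s ∈ A.stP ct from hst) hg
      have hgw : g ∈ A.stP cw := Subgroup.zpowers_le.mpr (show s ∈ A.stP cw from hsw) hg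
      refine ⟨?_, fun e => hx.2.1 ((A.p g).injective (e.trans hgt.symm)), fun e => hx.2.2 ((A.p g).injective (e.trans hgw.symm))⟩
      have := (A.inc g x j).mpr hx.1
      rwa [show A.l g j = j from hgj] at this
    · by_contra hg1
      obtain ⟨i, rfl⟩ := hg
      have hfix2 : A.p (s * s) x = x := by
        obtain ⟨k, rfl | rfl⟩ := Int.even_or_odd' i
        · obtain ⟨l, rfl | rfl⟩ := Int.even_or_odd' k
          · exfalso
            refine hg1 (show s ^ (2 * (2 * l)) = 1 from ?_)
            rw [show (2 : ℤ) * (2 * l) = ((4 : ℕ) : ℤ) * l by push_cast; ring, zpow_mul, zpow_natCast, ← hord,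
              pow_orderOf_eq_one, one_zpow]
          · have e : s ^ (2 * (2 * l + 1)) = s * s := by
              rw [show (2 : ℤ) * (2 * l + 1) = ((4 : ℕ) : ℤ) * l + 2 by push_cast; ring, zpow_add, zpow_mul,
                zpow_natCast, ← hord, pow_orderOf_eq_one, one_zpow, one_mul, zpow_two]
            rw [← e]; exact hfix
        · have e : (s ^ (2 * k + 1)) * (s ^ (2 * k + 1)) = s * s := by
            rw [← zpow_add, show (2 * k + 1 + (2 * k + 1)) = ((4 : ℕ) : ℤ) * k + 2 by push_cast; ring, zpow_add,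
              zpow_mul, zpow_natCast, ← hord, pow_orderOf_eq_one, one_zpow, one_mul, zpow_two]
          rw [← e, A.p_mul]
          exact (congrArg _ hfix).trans hfix
      rcases Ht.fix_cases hfix2 with e | e
      · exact hx.2.1 e
      · exact hx.2.2 (π.eq_of_two_lines hja hx.1 (π.join_right ct cw) e hct)
  rw [Nat.card_zpowers, hord, Nat.card_coe_set_eq, hcard] at hdvd
  omega

include O hperf hn in
/-- The centraliser of a second involution in a Sylow subgroup is a four-group. -/
theorem small_centralizer (S : Sylow 2 G) {z u : G} (hz : z * z = 1) (hz1 : z ≠ 1)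
    (hzc : ∀ g ∈ (S : Subgroup G), g * z = z * g) (hu : u * u = 1) (hu1 : u ≠ 1) (huz : u ≠ z)
    (huS : u ∈ (S : Subgroup G)) :
    ∀ x ∈ (S : Subgroup G), x * u = u * x → x = 1 ∨ x = u ∨ x = z ∨ x = u * z := by
  haveI : Fact (Nat.Prime 2) := ⟨Nat.prime_two⟩
  intro x hx hxu
  have hinvol : ∀ y ∈ (S : Subgroup G), y * y = 1 → y * u = u * y → y = 1 ∨ y = u ∨ y = z ∨ y = u * z := by
    intro y hy hy2 hyu
    by_cases h1 : y = 1
    · exact Or.inl h1
    by_cases h3 : y = u
    · exact Or.inr (Or.inl h3)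
    by_cases h4 : y = z
    · exact Or.inr (Or.inr (Or.inl h4))
    exact Or.inr (Or.inr (Or.inr
      (third O hperf hn hu hu1 hz hz1 hy2 h1 huz h3 h4 (hzc u huS) hyu.symm (hzc y hy).symm)))
  by_cases hx2 : x * x = 1
  · exact hinvol x hx hx2 hxu
  exfalso
  obtain ⟨m, h4, h2⟩ := exists_four S.2 hx hx2
  set s := x ^ m with hs
  have hsS : s ∈ (S : Subgroup G) := pow_mem hx _
  have hsu : s * u = u * s := ((show Commute x u from hxu).pow_left m).eq
  exact huz ((four O hperf hn h4 h2 hu hu1 hsu).trans (four O hperf hn h4 h2 hz hz1 (hzc s hsS)).symm)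

include O hperf hn in
/-- The Sylow subgroups are not semidihedral. -/
theorem not_quasiDihedral (S : Sylow 2 G) (hQD : Cfsg.IsQuasiDihedral (S : Subgroup G)) : False := by
  classical
  haveI : Fact (Nat.Prime 2) := ⟨Nat.prime_two⟩
  obtain ⟨k, -, -, d, -⟩ := CfsgLib.QD.exists_data hQD
  set z : G := ((d.z : (S : Subgroup G)) : G) with hzdef
  have hzS : z ∈ (S : Subgroup G) := (d.z : (S : Subgroup G)).2
  have hz2 : z * z = 1 := congrArg Subtype.val
    (CfsgLib.Involutions.mul_self_eq_one_of_orderOf (CfsgLib.QD.orderOf_z d))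
  have hz1 : z ≠ 1 := fun e => CfsgLib.QD.z_ne_one d (Subtype.ext e)
  have hzc : ∀ g ∈ (S : Subgroup G), g * z = z * g := fun g hg =>
    congrArg Subtype.val (Subgroup.mem_center_iff.mp (CfsgLib.QD.z_central d) ⟨g, hg⟩)
  obtain ⟨cz, az, Hz⟩ := all_hom O hperf hn hz2 hz1
  have hSc : ∀ g ∈ (S : Subgroup G), A.l g az = az := fun g hg => (Hz.comm_iff_fix_axis O).mp (hzc g hg)
  -- the centres of the other involutions
  set N : Set P := {c | ∃ g ∈ (S : Subgroup G), g ≠ z ∧ ∃ a, Hom A g c a} with hN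
  set T : Set P := {x | π.I x az} \ N with hT
  have hNsub : N ⊆ {x | π.I x az} := by
    rintro c ⟨g, hg, hgz, a, Hg⟩
    exact Hz.centre_on O Hg (Ne.symm hgz) (hzc g hg).symm
  have hTS : ∀ g ∈ (S : Subgroup G), ∀ x ∈ T, A.p g x ∈ T := by
    rintro g hg x ⟨hxa, hxN⟩
    refine ⟨?_, ?_⟩
    · have := (A.inc g x az).mpr hxa
      rwa [hSc g hg] at this
    · rintro ⟨s, hs, hsz, a, Hs⟩
      refine hxN ⟨g⁻¹ * s * g, mul_mem (mul_mem (inv_mem hg) hs) hg, fun e => hsz ?_, A.l g⁻¹ a, ?_⟩
      · calc s = g * (g⁻¹ * s * g) * g⁻¹ := by group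
          _ = g * z * g⁻¹ := by rw [e]
          _ = z := by rw [hzc g hg, mul_inv_cancel_right]
      · have := Hs.map g⁻¹
        rwa [inv_inv, A.p_inv_apply] at this
  have hinvT : ∀ g ∈ (S : Subgroup G), g * g = 1 → g ≠ 1 → g ≠ z → ∀ x ∈ T, A.p g x ≠ x := by
    intro g hg hg2 hg1 hgz x hx he
    obtain ⟨c, a, Hg⟩ := all_hom O hperf hn hg2 hg1
    rcases Hg.fix_cases he with e | e
    · exact hx.2 ⟨g, hg, hgz, a, e ▸ Hg⟩
    -- the product with `z` has the same fixed point as centre
    have hp2 : g * z * (g * z) = 1 := by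
      rw [mul_assoc, ← mul_assoc z g z, ← hzc g hg, mul_assoc g z z, hz2, mul_one, hg2]
    have hp1 : g * z ≠ 1 := fun e' => hgz (by rw [eq_inv_of_mul_eq_one_left e', inv_eq_self hz2])
    obtain ⟨cp, ap, Hp⟩ := all_hom O hperf hn hp2 hp1
    have hpz : g * z ≠ z := fun e' => hg1 (mul_right_cancel (e'.trans (one_mul z).symm))
    have hpg : g * z ≠ g := fun e' => hz1 (mul_left_cancel (e'.trans (mul_one g).symm))
    have e' : x = cp := π.eq_of_two_lines (fun e'' => hgz (Hg.eq_of_axis O (e''.symm ▸ Hz))) e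
      (Hg.centre_on O Hp hpg.symm (by rw [mul_assoc g z g, ← hzc g hg])) hx.1
      (Hz.centre_on O Hp hpz.symm (by rw [← mul_assoc, ← hzc g hg]))
    exact hx.2 ⟨g * z, mul_mem hg hzS, hpz, ap, e' ▸ Hp⟩
  have hsq : ∀ g ∈ (S : Subgroup G), g * g ≠ 1 → ∃ m : ℕ, g ^ m = z := by
    intro g hg hg2
    obtain ⟨m, h4, h2⟩ := exists_four S.2 hg hg2
    refine ⟨m + m, ?_⟩
    rw [pow_add]
    exact (four O hperf hn h4 h2 hz2 hz1 (hzc _ (pow_mem hg _))).symm
  have hdvd1 : (Subgroup.zpowers z).relIndex (S : Subgroup G) ∣ T.ncard := by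
    refine relIndex_dvd_of_stab A _ _ T hTS fun x hx g hg => ⟨fun he => ?_, fun hgz => ?_⟩
    · by_cases hg2 : g * g = 1
      · by_contra hgz
        exact hinvT g hg hg2 (fun e => hgz (e ▸ one_mem _)) (fun e => hgz (e ▸ Subgroup.mem_zpowers z)) x hx he
      · exfalso
        -- a power of order four fixes the point
        obtain ⟨m, h4, h2⟩ := exists_four S.2 hg hg2
        set s := g ^ m with hs
        have hzs : z = s * s := four O hperf hn h4 h2 hz2 hz1 (hzc s (pow_mem hg _))
        have hsx : A.p s x = x := by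
          have : g ∈ A.stP x := he
          exact pow_mem this m
        -- `s` fixes a point of the axis of its square
        set jl := π.join cz x with hjl
        have hne : cz ≠ x := fun e => Hz.off (e ▸ hx.1)
        have hscz : A.p s cz = cz := (Hz.comm_iff_fix O).mp (hzc s (pow_mem hg _))
        have hsjl : A.l s jl = jl := A.fix_join hne hscz hsx
        have hcard : {y | π.I y jl ∧ y ≠ cz ∧ y ≠ x}.ncard = π.n - 1 := by
          have h1 : {y | π.I y jl ∧ y ≠ cz ∧ y ≠ x} = {y | π.I y jl ∧ y ≠ cz} \ {x} := by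
            ext y; simp [and_assoc]
          rw [h1, Set.ncard_sdiff_singleton_of_mem
            (show x ∈ {y | π.I y jl ∧ y ≠ cz} from ⟨π.join_right cz x, hne.symm⟩), ← Nat.card_coe_set_eq]
          exact congrArg (· - 1) (π.card_line_erase (π.join_left cz x))
        have hdvd : Nat.card (Subgroup.zpowers s) ∣ Nat.card {y | π.I y jl ∧ y ≠ cz ∧ y ≠ x} := by
          refine A.card_dvd_of_free _ _ (fun q hq y hy => ?_) fun q hq y hy hfix => ?_
          · have hqj : q ∈ A.stL jl := Subgroup.zpowers_le.mpr (show s ∈ A.stL jl from hsjl) hq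
            have hqc : q ∈ A.stP cz := Subgroup.zpowers_le.mpr (show s ∈ A.stP cz from hscz) hq
            have hqx : q ∈ A.stP x := Subgroup.zpowers_le.mpr (show s ∈ A.stP x from hsx) hq
            refine ⟨?_, fun e => hy.2.1 ((A.p q).injective (e.trans hqc.symm)),
              fun e => hy.2.2 ((A.p q).injective (e.trans hqx.symm))⟩
            have := (A.inc q y jl).mpr hy.1
            rwa [show A.l q jl = jl from hqj] at this
          · by_contra hq1
            have hzy : A.p z y ≠ y := fun e => by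
              rcases Hz.fix_cases e with e' | e'
              · exact hy.2.1 e'
              · exact hy.2.2 (π.eq_of_two_lines (fun (e'' : jl = az) => Hz.off (e'' ▸ π.join_left cz x))
                  hy.1 (π.join_right cz x) e' hx.1)
            obtain ⟨m, hm⟩ : ∃ m : ℕ, q ^ m = z := by
              by_cases hq2 : q * q = 1
              · refine ⟨1, ?_⟩
                rw [pow_one]
                obtain ⟨i, rfl⟩ := hq
                exact ((four O hperf hn h4 h2 hq2 hq1 (Commute.self_zpow s i).eq).trans hzs.symm)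
              · exact hsq q (Subgroup.zpowers_le.mpr (pow_mem hg _) hq) hq2
            refine hzy (hm ▸ ?_)
            have : q ∈ A.stP y := hfix
            exact pow_mem this m
        have hord : orderOf s = 4 := orderOf_eq_prime_pow (p := 2) (n := 1)
          (by rw [pow_one, pow_two]; exact h2) (by rw [show 2 ^ (1 + 1) = 2 + 2 from rfl, pow_add, pow_two]; exact h4)
        rw [Nat.card_zpowers, hord, Nat.card_coe_set_eq, hcard] at hdvd
        omega
    · have : Subgroup.zpowers z ≤ A.stP x := Subgroup.zpowers_le.mpr (Hz.fix_on hx.1)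
      exact this hgz
  -- arithmetic
  have hz2' : Nat.card (Subgroup.zpowers z) = 2 := by rw [Nat.card_zpowers, Act.inv_order hz2 hz1]
  have hrel : (Subgroup.zpowers z).relIndex (S : Subgroup G) * 2 = 16 * d.M := by
    have h := Subgroup.card_mul_index ((Subgroup.zpowers z).subgroupOf (S : Subgroup G))
    rw [Nat.card_congr (Subgroup.subgroupOfEquivOfLe (Subgroup.zpowers_le.mpr hzS)).toEquiv, hz2', d.hcard,
      mul_comm] at h
    exact h
  have hdvd2 : Nat.card (S : Subgroup G) ∣ Nat.card O.pts := by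
    refine A.card_dvd_of_free _ _ (fun g _ x hx => O.inv g x hx) fun g hg x hx he => ?_
    by_contra hg1
    by_cases hg2 : g * g = 1
    · exact no_fix O hperf hn hg2 hg1 hx he
    · obtain ⟨m, hm⟩ := hsq g hg hg2
      refine no_fix O hperf hn hz2 hz1 hx (hm ▸ ?_)
      have : g ∈ A.stP x := he
      exact pow_mem this m
  rw [Nat.card_coe_set_eq, O.card, d.hcard] at hdvd2
  have hsplit : T.ncard + N.ncard = π.n + 1 := by
    rw [Set.ncard_sdiff_add_ncard_of_subset hNsub, ← Nat.card_coe_set_eq]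
    exact π.card_line az
  have hNbound : 0 < N.ncard ∧ N.ncard < 8 * d.M := by
    constructor
    · refine (Set.ncard_pos).mpr ?_
      have hy2 : ((d.y : (S : Subgroup G)) : G) * d.y = 1 := congrArg Subtype.val (CfsgLib.QD.hyy d)
      have hy1 : ((d.y : (S : Subgroup G)) : G) ≠ 1 := fun e =>
        CfsgLib.QD.y_not_mem d ((show d.y = 1 from Subtype.ext e) ▸ one_mem _)
      obtain ⟨c, a, H⟩ := all_hom O hperf hn hy2 hy1
      exact ⟨c, _, (d.y : (S : Subgroup G)).2,
        fun e => CfsgLib.QD.y_not_mem d ((show d.y = d.z from Subtype.ext e) ▸ CfsgLib.QD.z_mem_X d), a, H⟩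
    · set D : Subgroup G := d.D.map (S : Subgroup G).subtype
      have hD : (D : Set G).ncard = 8 * d.M := by
        rw [← Nat.card_coe_set_eq]
        exact (Subgroup.card_map_of_injective (S : Subgroup G).subtype_injective).trans (CfsgLib.QD.card_D d)
      set Iv := {g | g ∈ (S : Subgroup G) ∧ g ≠ z ∧ g * g = 1 ∧ g ≠ 1}
      have hsub : Iv ⊆ (D : Set G) \ {1} := by
        rintro g ⟨hg, hgz, hg2, hg1⟩
        refine ⟨?_, hg1⟩
        have hgo : orderOf (⟨g, hg⟩ : (S : Subgroup G)) = 2 := by rw [Subgroup.orderOf_mk]; exact Act.inv_order hg2 hg1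
        rcases CfsgLib.QD.involution_cases d hgo with e | ⟨j, e⟩
        · exact absurd (congrArg Subtype.val e) hgz
        · exact ⟨⟨g, hg⟩, e ▸ CfsgLib.QD.xy_even_mem_D d j, rfl⟩
      have h1 : N.ncard ≤ Iv.ncard := by
        choose f hf using fun (g : G) (hg : g ∈ Iv) => all_hom O hperf hn hg.2.2.1 hg.2.2.2
        refine (Set.ncard_le_ncard (t := (fun g => if hg : g ∈ Iv then f g hg else cz) '' Iv) ?_).trans
          (Set.ncard_image_le (Set.toFinite _))
        rintro c ⟨g, hg, hgz, a, H⟩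
        have hgI : g ∈ Iv := ⟨hg, hgz, H.sq, H.ne⟩
        refine ⟨g, hgI, ?_⟩
        simp only [dif_pos hgI]
        obtain ⟨a', H'⟩ := hf g hgI
        exact H.centre_unique H'
      have h2 := h1.trans (Set.ncard_le_ncard hsub)
      rw [Set.ncard_sdiff_singleton_of_mem (one_mem D : (1 : G) ∈ (D : Set G)), hD] at h2
      have := d.hM
      omega
  have hrel' : (Subgroup.zpowers z).relIndex (S : Subgroup G) = 8 * d.M := by omega
  rw [hrel'] at hdvd1
  have hdN : 8 * d.M ∣ N.ncard := by
    have h := dvd_trans (dvd_mul_left (8 * d.M) 2) (show 2 * (8 * d.M) ∣ T.ncard + N.ncard by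
      rw [hsplit, ← mul_assoc]; exact hdvd2)
    exact (Nat.dvd_add_right hdvd1).mp h
  have := Nat.le_of_dvd hNbound.1 hdN
  omega

end Three

end CfsgLib.OvalPlane
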