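import Cfsg.Agent.Lib.OvalPlane.Reflections
import Mathlib.GroupTheory.Transfer
import Mathlib.GroupTheory.GroupAction.FixedPoints

set_option autoImplicit false
set_option linter.unusedSectionVars false
set_option linter.unusedVariables false
set_option linter.style.haveILetI false

/-!
The centraliser of a noncentral homology in a Sylow 2-subgroup is a four-group (transfer).
-/

namespace CfsgLib.OvalPlane

open CfsgLib.TTP

universe u v w

/-- An invariant function with values squaring to one has the product of its values at the fixed points. -/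
theorem prod_eq_fixed {ι : Type u} {C : Type v} [CommGroup C] [DecidableEq ι] (s : Finset ι) (σ : ι → ι)
    (hs : ∀ i ∈ s, σ i ∈ s) (hσ : ∀ i ∈ s, σ (σ i) = i) (f : ι → C) (hinv : ∀ i ∈ s, f (σ i) = f i)
    (hsq : ∀ i ∈ s, f i * f i = 1) : ∏ i ∈ s, f i = ∏ i ∈ s.filter (fun i => σ i = i), f i := by
  rw [← Finset.prod_filter_mul_prod_filter_not s (fun i => σ i = i)]
  refine mul_eq_left.mpr ?_
  refine Finset.prod_involution (fun i _ => σ i) ?_ ?_ ?_ ?_
  · intro i hi
    have hi' := (Finset.mem_filter.mp hi).1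
    rw [hinv i hi', hsq i hi']
  · intro i hi _
    exact (Finset.mem_filter.mp hi).2
  · intro i hi
    obtain ⟨hi', hne⟩ := Finset.mem_filter.mp hi
    refine Finset.mem_filter.mpr ⟨hs i hi', fun e => hne ?_⟩
    rw [hσ i hi'] at e
    exact e.symm
  · intro i hi
    exact hσ i (Finset.mem_filter.mp hi).1

/-- A cyclic group has at most one involution. -/
theorem involution_unique {G : Type w} [Group G] [Finite G] {z a b : G} (ha : a ∈ Subgroup.zpowers z)
    (hb : b ∈ Subgroup.zpowers z) (ha2 : orderOf a = 2) (hb2 : orderOf b = 2) : a = b := by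
  classical
  haveI := Fintype.ofFinite (Subgroup.zpowers z)
  by_contra hne
  have h := IsCyclic.card_pow_eq_one_le (α := Subgroup.zpowers z) (n := 2) two_pos
  have hsub : ({1, ⟨a, ha⟩, ⟨b, hb⟩} : Finset (Subgroup.zpowers z)) ⊆ Finset.univ.filter fun x => x ^ 2 = 1 := by
    intro x hx
    simp only [Finset.mem_insert, Finset.mem_singleton] at hx
    refine Finset.mem_filter.mpr ⟨Finset.mem_univ _, Subtype.ext ?_⟩
    rcases hx with rfl | rfl | rfl
    · simp
    · rw [Subgroup.coe_pow, ← ha2]; exact pow_orderOf_eq_one a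
    · rw [Subgroup.coe_pow, ← hb2]; exact pow_orderOf_eq_one b
  have ha1 : a ≠ 1 := fun e => by rw [e, orderOf_one] at ha2; omega
  have hb1 : b ≠ 1 := fun e => by rw [e, orderOf_one] at hb2; omega
  have hle := (Finset.card_le_card hsub).trans h
  rw [Finset.card_insert_of_notMem (by simp [Subtype.ext_iff, Ne.symm ha1, Ne.symm hb1]),
    Finset.card_pair (fun e => hne (congrArg Subtype.val e))] at hle
  omega

variable {P : Type u} {L : Type v} {π : Pl P L} {G : Type w} [Group G] [Finite P] [Finite L]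
variable {A : Act π G} {O : Oval A} {M : Mod1 O} {S : Sylow 2 G} {h : G} {hs : Setup M S h} {u z : G}

namespace Refl

variable (R : Refl hs u z)
include R

theorem huz (i : ℤ) : u * z ^ i = z ^ (-i) * u := by
  have h1 : u * z * u⁻¹ = z⁻¹ := by rw [inv_eq_self R.base.2.1.sq]; exact R.inv
  have h2 := _root_.conj_zpow (a := u) (b := z) (i := i)
  rw [h1, inv_zpow] at h2
  rw [zpow_neg, h2]; group

/-- The dihedral subgroup. -/
def T : Subgroup G where
  carrier := {g | (∃ i : ℤ, g = z ^ i) ∨ ∃ i : ℤ, g = z ^ i * u}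
  one_mem' := Or.inl ⟨0, by rw [zpow_zero]⟩
  mul_mem' := by
    rintro g k (⟨i, rfl⟩ | ⟨i, rfl⟩) (⟨j, rfl⟩ | ⟨j, rfl⟩)
    · exact Or.inl ⟨i + j, (zpow_add z i j).symm⟩
    · exact Or.inr ⟨i + j, by rw [zpow_add, mul_assoc]⟩
    · exact Or.inr ⟨i - j, by rw [mul_assoc (z ^ i) u, R.huz, ← mul_assoc, ← zpow_add, sub_eq_add_neg]⟩
    · refine Or.inl ⟨i - j, ?_⟩
      rw [mul_assoc (z ^ i) u, ← mul_assoc u, R.huz, mul_assoc _ u u, R.base.2.1.sq, mul_one, ← zpow_add,
        sub_eq_add_neg]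
  inv_mem' := by
    rintro g (⟨i, rfl⟩ | ⟨i, rfl⟩)
    · exact Or.inl ⟨-i, (zpow_neg z i).symm⟩
    · exact Or.inr ⟨i, by rw [mul_inv_rev, inv_eq_self R.base.2.1.sq, ← zpow_neg, R.huz, neg_neg]⟩

theorem mem_T_zpow (i : ℤ) : z ^ i ∈ R.T := Or.inl ⟨i, rfl⟩

theorem mem_T_refl (i : ℤ) : z ^ i * u ∈ R.T := Or.inr ⟨i, rfl⟩

theorem T_le : R.T ≤ (S : Subgroup G) := by
  rintro g (⟨i, rfl⟩ | ⟨i, rfl⟩)
  exacts [zpow_mem R.memz i, (R.refl i).1]

/-- Elements of the Sylow subgroup act on the rotations by odd powers. -/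
theorem conj_z [Finite G] {g : G} (hg : g ∈ (S : Subgroup G)) :
    ∃ r : ℤ, Odd r ∧ ∀ i : ℤ, g * z ^ i * g⁻¹ = z ^ (r * i) := by
  obtain ⟨a, ha⟩ := R.shape _ (hs.other_conj (R.refl 1) hg)
  obtain ⟨b, hb⟩ := R.shape _ (hs.other_conj R.base hg)
  have hr : g * z * g⁻¹ = z ^ (a - b) := by
    rw [zpow_one] at ha
    calc g * z * g⁻¹ = g * (z * u) * g⁻¹ * (g * u * g⁻¹)⁻¹ := by group
      _ = z ^ a * u * (z ^ b * u)⁻¹ := by rw [ha, hb]
      _ = z ^ (a - b) := by
        rw [mul_inv_rev, inv_eq_self R.base.2.1.sq, ← zpow_neg, mul_assoc (z ^ a) u, ← mul_assoc u u,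
          R.base.2.1.sq, one_mul, ← zpow_add, sub_eq_add_neg]
  have hz : ∀ i : ℤ, g * z ^ i * g⁻¹ = z ^ ((a - b) * i) := fun i => by rw [← _root_.conj_zpow, hr, ← zpow_mul]
  refine ⟨a - b, ?_, hz⟩
  by_contra hev
  rw [Int.not_odd_iff_even] at hev
  obtain ⟨q, hq⟩ := hev
  -- the image of `z` would have smaller order
  obtain ⟨e, he⟩ : ∃ e : ℕ, orderOf z = 2 ^ (e + 1) := by
    obtain ⟨e, he⟩ := IsPGroup.iff_orderOf.mp S.2 ⟨z, R.memz⟩
    rw [Subgroup.orderOf_mk] at he
    refine ⟨e - 1, ?_⟩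
    rcases e with _ | e
    · exfalso
      rw [pow_zero, orderOf_eq_one_iff] at he
      have := R.hmem
      rw [he, Subgroup.zpowers_one_eq_bot, Subgroup.mem_bot] at this
      exact hs.hom.ne this
    · rw [he, Nat.add_sub_cancel]
  have h1 : orderOf (z ^ (a - b)) = orderOf z := by
    rw [← hr]
    have := MulEquiv.orderOf_eq (MulAut.conj g) z
    rwa [MulAut.conj_apply] at this
  have h2 : (z ^ (a - b)) ^ (2 ^ e) = 1 := by
    rw [← zpow_natCast, ← zpow_mul, hq, show (q + q) * ((2 ^ e : ℕ) : ℤ) = ((2 ^ (e + 1) : ℕ) : ℤ) * q by push_cast; ring,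
      zpow_mul, zpow_natCast, ← he, pow_orderOf_eq_one, one_zpow]
  have h3 := orderOf_dvd_of_pow_eq_one h2
  rw [h1, he, Nat.pow_dvd_pow_iff_le_right (by norm_num)] at h3
  omega

theorem T_conj {g t : G} (hg : g ∈ (S : Subgroup G)) (ht : t ∈ R.T) : g * t * g⁻¹ ∈ R.T := by
  have key : ∀ w, hs.Other w → g * w * g⁻¹ ∈ R.T := fun w hw => by
    obtain ⟨i, e⟩ := R.shape _ (hs.other_conj hw hg)
    exact e ▸ R.mem_T_refl i
  rcases ht with ⟨i, rfl⟩ | ⟨i, rfl⟩
  · have h1 := mul_mem (key _ (R.refl i)) (key _ R.base)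
    rwa [show g * (z ^ i * u) * g⁻¹ * (g * u * g⁻¹) = g * (z ^ i * (u * u)) * g⁻¹ by group, R.base.2.1.sq,
      mul_one] at h1
  · exact key _ (R.refl i)

/-- The elements of the dihedral group centralising a reflection and fixing six points. -/
theorem T_inf_Dv [Finite G] {w t : G} (hw : hs.Other w) (ht : t ∈ R.T) (hd : t ∈ (hs.four hw).Dv O) : t = 1 := by
  haveI : Fact (Nat.Prime 2) := ⟨Nat.prime_two⟩
  obtain ⟨m, rfl⟩ := R.shape w hw
  obtain ⟨h1, h2, h3⟩ := (hs.four hw).mem_Dv.mp hd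
  have key : ∀ i : ℤ, z ^ i * (z ^ m * u) = z ^ m * u * z ^ i → z ^ i = 1 ∨ z ^ i = h := by
    intro i hi
    rw [mul_assoc (z ^ m) u, R.huz, ← mul_assoc, ← mul_assoc, ← zpow_add, ← zpow_add] at hi
    have h4 : z ^ (i + m) = z ^ (m + -i) := mul_right_cancel hi
    have h5 : z ^ i * z ^ i = 1 := by
      rw [← zpow_add, ← zpow_zero z]
      have := congrArg (fun x => x * z ^ (i - m)) h4
      simp only [← zpow_add] at this
      rw [show i + m + (i - m) = i + i by ring, show m + -i + (i - m) = 0 by ring] at this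
      exact this
    by_cases hi1 : z ^ i = 1
    · exact Or.inl hi1
    refine Or.inr ?_
    have ho1 : orderOf (z ^ i) = 2 := Act.inv_order h5 hi1
    have ho2 : orderOf h = 2 := Act.inv_order hs.hom.sq hs.hom.ne
    exact involution_unique (Subgroup.zpow_mem _ (Subgroup.mem_zpowers z) i) R.hmem ho1 ho2
  obtain ⟨x, hx⟩ := (Set.ncard_pos).mp (show 0 < (O.fixO h).ncard by rw [M.ncard_fixO hs.hom]; norm_num)
  rcases ht with ⟨i, rfl⟩ | ⟨i, rfl⟩
  · rcases key i h2 with e | e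
    · exact e
    · exfalso
      obtain ⟨y, hy⟩ := (Set.ncard_pos).mp
        (show 0 < (O.fixO (z ^ m * u)).ncard by rw [M.ncard_fixO hw.2.1]; norm_num)
      refine M.disjoint_fixO hw.2.1 hs.hom hw.2.2 (hs.central _ hw.1) hy ⟨hy.1, ?_⟩
      rw [← e]
      exact h3 y (Or.inl (Or.inr hy))
  · exfalso
    refine hs.other_moves (R.refl i) x hx ?_
    exact h3 x (Or.inl (Or.inl hx))

end Refl

end CfsgLib.OvalPlane
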