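import Cfsg.Agent.Lib.OvalPlane.TransferKill

set_option autoImplicit false
set_option linter.unusedSectionVars false
set_option linter.unusedVariables false
set_option linter.style.haveILetI false

/-!
The transfer shows that a noncentral homology of a Sylow 2-subgroup has a four-group as centraliser.
-/

namespace CfsgLib.OvalPlane

open CfsgLib.TTP MulAction

universe u v w

/-- A homomorphism of a perfect group into a commutative group is trivial. -/
theorem hom_eq_one_of_perfect {G : Type w} [Group G] {C : Type v} [CommGroup C] (hp : commutator G = ⊤)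
    (f : G →* C) (g : G) : f g = 1 :=
  MonoidHom.mem_ker.mp ((hp ▸ Abelianization.commutator_subset_ker f : (⊤ : Subgroup G) ≤ f.ker) (Subgroup.mem_top g))

variable {P : Type u} {L : Type v} {π : Pl P L} {G : Type w} [Group G] [Finite P] [Finite L]
variable {A : Act π G} {O : Oval A} {M : Mod1 O} {S : Sylow 2 G} {h : G} {hs : Setup M S h} {u z : G}

namespace Refl

/-- The stabiliser of a class of reflections. -/
def Cls (_ : Refl hs u z) (g : G) : Prop := ∃ j : ℤ, g * u * g⁻¹ = z ^ (2 * j) * u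

variable (R : Refl hs u z)
include R

theorem cls_decomp [Finite G] {g : G} (hg : g ∈ (S : Subgroup G)) (hc : R.Cls g) :
    ∃ t ∈ R.T, ∃ y ∈ (hs.four R.base).Dv O, y ∈ (S : Subgroup G) ∧ g = t * y := by
  obtain ⟨j, hj⟩ := hc
  set y := (z ^ j)⁻¹ * g with hy
  have hyS : y ∈ (S : Subgroup G) := mul_mem (inv_mem (zpow_mem R.memz j)) hg
  have hyu : y * u = u * y := by
    have e : y * u * y⁻¹ = u := by
      rw [hy, show (z ^ j)⁻¹ * g * u * ((z ^ j)⁻¹ * g)⁻¹ = (z ^ j)⁻¹ * (g * u * g⁻¹) * z ^ j by group, hj,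
        mul_assoc _ (z ^ (2 * j) * u) (z ^ j), mul_assoc (z ^ (2 * j)), R.huz, ← mul_assoc, ← mul_assoc,
        ← zpow_neg, ← zpow_add, ← zpow_add, show -j + 2 * j + -j = 0 by ring, zpow_zero, one_mul]
    exact mul_inv_eq_iff_eq_mul.mp e
  obtain ⟨v, hv, hd⟩ := (hs.four R.base).exists_fix_six M (hs.central y hyS) hyu
  obtain ⟨i, hi⟩ := R.hmem
  have hvT : v ∈ R.T := by
    have hhT : h ∈ R.T := hi ▸ R.mem_T_zpow i
    have huT : u ∈ R.T := by simpa using R.mem_T_refl 0
    rcases hv with rfl | rfl | rfl | rfl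
    exacts [one_mem _, hhT, huT, mul_mem hhT huT]
  refine ⟨g * (y * v)⁻¹, ?_, y * v, hd, mul_mem hyS (R.T_le hvT), by group⟩
  rw [hy, show g * ((z ^ j)⁻¹ * g * v)⁻¹ = g * v⁻¹ * g⁻¹ * z ^ j by group]
  exact mul_mem (R.T_conj hg (inv_mem hvT)) (R.mem_T_zpow j)

theorem cls_of_comm [Finite G] {w g : G} (hw : hs.Other w) (hg : g ∈ (S : Subgroup G)) (hc : g * w = w * g) :
    R.Cls g := by
  obtain ⟨i, rfl⟩ := R.shape w hw
  obtain ⟨m, hm⟩ := R.shape _ (hs.other_conj R.base hg)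
  obtain ⟨r, ⟨q, hq⟩, hr⟩ := R.conj_z hg
  have e : z ^ (r * i + m) * u = z ^ i * u := by
    rw [zpow_add, ← hr, mul_assoc, ← hm]
    calc g * z ^ i * g⁻¹ * (g * u * g⁻¹) = g * (z ^ i * u) * g⁻¹ := by group
      _ = _ := by rw [hc, mul_inv_cancel_right]
  refine ⟨-(q * i), ?_⟩
  rw [hm]
  congr 1
  have h1 : z ^ (r * i + m) = z ^ i := mul_right_cancel e
  calc z ^ m = z ^ (-(r * i)) * z ^ (r * i + m) := by rw [← zpow_add]; congr 1; ring
    _ = _ := by rw [h1, ← zpow_add, hq]; congr 1; ring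

theorem cls_mul_not [Finite G] {g k : G} (hg : g ∈ (S : Subgroup G)) (hk : k ∈ (S : Subgroup G))
    (h1 : ¬ R.Cls g) (h2 : ¬ R.Cls k) : R.Cls (g * k) := by
  obtain ⟨m, hm⟩ := R.shape _ (hs.other_conj R.base hg)
  obtain ⟨m', hm'⟩ := R.shape _ (hs.other_conj R.base hk)
  obtain ⟨r, hr', hr⟩ := R.conj_z hg
  have odd_of : ∀ {g : G} {m : ℤ}, g * u * g⁻¹ = z ^ m * u → ¬ R.Cls g → Odd m := fun he hn => by
    by_contra hev
    obtain ⟨q, hq⟩ := Int.not_odd_iff_even.mp hev
    exact hn ⟨q, by rw [he, hq]; congr 2; ring⟩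
  obtain ⟨q, hq⟩ := (hr'.mul (odd_of hm' h2)).add_odd (odd_of hm h1)
  refine ⟨q, ?_⟩
  calc g * k * u * (g * k)⁻¹ = g * (k * u * k⁻¹) * g⁻¹ := by group
    _ = g * z ^ m' * g⁻¹ * (g * u * g⁻¹) := by rw [hm']; group
    _ = _ := by rw [hr, hm, ← mul_assoc, ← zpow_add, hq]; congr 2; ring

/-- The centraliser of a reflection in the Sylow subgroup has order four. -/
theorem centralizer [Finite G] [IsSimpleGroup G] (hG : ¬ IsMulCommutative G) :
    ∀ y ∈ (S : Subgroup G), y * u = u * y → y = 1 ∨ y = h ∨ y = u ∨ y = h * u := by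
  classical
  haveI : Fact (Nat.Prime 2) := ⟨Nat.prime_two⟩
  set F := hs.four R.base
  set DR : Subgroup G := (S : Subgroup G) ⊓ F.Dv O with hDR
  have hDRp : IsPGroup 2 DR := S.2.to_le inf_le_left
  haveI : IsCyclic DR := F.isCyclic_Dv M hDRp inf_le_right
  obtain ⟨⟨x, hx⟩, hgen⟩ := IsCyclic.exists_generator (α := DR)
  have hxS : x ∈ (S : Subgroup G) := hx.1
  have hxgen : ∀ y, y ∈ (S : Subgroup G) → y ∈ F.Dv O → ∃ i : ℤ, y = x ^ i := fun y hy hy' => by
    obtain ⟨i, hi⟩ := hgen ⟨y, hy, hy'⟩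
    exact ⟨i, (congrArg Subtype.val hi).symm⟩
  by_cases hx1 : x = 1
  · intro y hy hyu
    obtain ⟨v, hv, hd⟩ := F.exists_fix_six M (hs.central y hy) hyu
    have hvS : v ∈ (S : Subgroup G) := by
      rcases hv with rfl | rfl | rfl | rfl
      exacts [one_mem _, hs.mem, R.base.1, mul_mem hs.mem R.base.1]
    obtain ⟨i, hi⟩ := hxgen _ (mul_mem hy hvS) hd
    rw [hx1, one_zpow] at hi
    have hyv : y = v := by
      rw [eq_inv_of_mul_eq_one_left hi]
      rcases hv with rfl | rfl | rfl | rfl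
      exacts [inv_one, inv_eq_self hs.hom.sq, inv_eq_self R.base.2.1.sq, inv_eq_self (F.hom_prod M).sq]
    exact hyv ▸ hv
  exfalso
  -- the order of `x`
  obtain ⟨e, he⟩ : ∃ e : ℕ, orderOf x = 2 ^ (e + 1) := by
    obtain ⟨e, he⟩ := IsPGroup.iff_orderOf.mp S.2 ⟨x, hxS⟩
    rw [Subgroup.orderOf_mk] at he
    refine ⟨e - 1, ?_⟩
    rcases e with _ | e
    · exact absurd (orderOf_eq_one_iff.mp (by rw [he, pow_zero])) hx1
    · rw [he, Nat.add_sub_cancel]
  have hnorm : ∀ i : ℤ, ∀ t ∈ R.T, x ^ i * t * (x ^ i)⁻¹ ∈ R.T := fun i t ht => R.T_conj (zpow_mem hxS i) ht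
  have hxT : ∀ i : ℤ, x ^ i ∈ R.T → x ^ i = 1 := fun i hi =>
    R.T_inf_Dv R.base hi (Subgroup.zpow_mem _ hx.2 i)
  have heven : ∀ i : ℤ, x ^ i ∈ R.T → Even i := fun i hi => by
    have h1 := hxT i hi
    rw [← orderOf_dvd_iff_zpow_eq_one, he] at h1
    obtain ⟨q, hq⟩ := h1
    exact ⟨2 ^ e * q, by rw [hq]; push_cast; ring⟩
  have hsplit : ∀ {g : G}, g ∈ (S : Subgroup G) → R.Cls g → ∃ t ∈ R.T, ∃ i : ℤ, g = t * x ^ i := fun hg hc => by
    obtain ⟨t, ht, y, hy, hyS, rfl⟩ := R.cls_decomp hg hc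
    obtain ⟨i, rfl⟩ := hxgen y hyS hy
    exact ⟨t, ht, i, rfl⟩
  -- the normal subgroup
  let N : Subgroup G :=
    { carrier := {g | ∃ t ∈ R.T, ∃ i : ℤ, g = t * x ^ (2 * i)}
      one_mem' := ⟨1, one_mem _, 0, by simp⟩
      mul_mem' := by
        rintro _ _ ⟨t, ht, i, rfl⟩ ⟨t', ht', j, rfl⟩
        exact ⟨t * (x ^ (2 * i) * t' * (x ^ (2 * i))⁻¹), mul_mem ht (hnorm _ _ ht'), i + j, by
          rw [mul_add 2 i j, zpow_add]; group⟩
      inv_mem' := by
        rintro _ ⟨t, ht, i, rfl⟩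
        exact ⟨x ^ (-(2 * i)) * t⁻¹ * (x ^ (-(2 * i)))⁻¹, hnorm _ _ (inv_mem ht), -i, by
          rw [mul_neg]; group⟩ }
  have hTN : ∀ t ∈ R.T, t ∈ N := fun t ht => ⟨t, ht, 0, by simp⟩
  have hxN2 : ∀ i : ℤ, x ^ (2 * i) ∈ N := fun i => ⟨1, one_mem _, i, by rw [one_mul]⟩
  have hnot : ∀ {t : G} {i : ℤ}, t ∈ R.T → t * x ^ i ∈ N → Even i := by
    rintro t i ht ⟨t', ht', j, e'⟩
    have h1 : x ^ (i - 2 * j) ∈ R.T := by
      have : x ^ (i - 2 * j) = t⁻¹ * t' := by
        rw [zpow_sub, eq_inv_mul_iff_mul_eq, ← mul_assoc, e', mul_inv_cancel_right]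
      rw [this]; exact mul_mem (inv_mem ht) ht'
    obtain ⟨q, hq⟩ := heven _ h1
    exact ⟨q + j, by linarith⟩
  have hxcls : R.Cls x := R.cls_of_comm R.base hxS ((F.mem_Dv.mp hx.2).2.1)
  have hconjx : ∀ g ∈ (S : Subgroup G), ∃ t ∈ R.T, ∃ i : ℤ, g * x * g⁻¹ = t * x ^ i := fun g hg => by
    refine hsplit (mul_mem (mul_mem hg hxS) (inv_mem hg)) (R.cls_of_comm (hs.other_conj R.base hg)
      (mul_mem (mul_mem hg hxS) (inv_mem hg)) ?_)
    rw [show g * x * g⁻¹ * (g * u * g⁻¹) = g * (x * u) * g⁻¹ by group, (F.mem_Dv.mp hx.2).2.1]; group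
  have hNconj : ∀ g ∈ (S : Subgroup G), ∀ n ∈ N, g * n * g⁻¹ ∈ N := by
    rintro g hg _ ⟨t, ht, i, rfl⟩
    obtain ⟨t', ht', k, hk⟩ := hconjx g hg
    have h2 : g * x * x * g⁻¹ ∈ N := by
      rw [show g * x * x * g⁻¹ = g * x * g⁻¹ * (g * x * g⁻¹) by group, hk]
      exact ⟨t' * (x ^ k * t' * (x ^ k)⁻¹), mul_mem ht' (hnorm _ _ ht'), k, by rw [two_mul, zpow_add]; group⟩
    rw [show g * (t * x ^ (2 * i)) * g⁻¹ = g * t * g⁻¹ * (g * (x * x) * g⁻¹) ^ i by
      rw [_root_.conj_zpow, zpow_mul, zpow_two]; group]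
    exact mul_mem (hTN _ (R.T_conj hg ht)) (zpow_mem (by rw [← mul_assoc g x x]; exact h2) i)
  set Ns := N.subgroupOf (S : Subgroup G) with hNs
  haveI : Ns.Normal := ⟨fun n hn g => Subgroup.mem_subgroupOf.mpr (hNconj g g.2 n (Subgroup.mem_subgroupOf.mp hn))⟩
  let q : (S : Subgroup G) →* (S : Subgroup G) ⧸ Ns := QuotientGroup.mk' Ns
  set X₀ : (S : Subgroup G) ⧸ Ns := q ⟨x, hxS⟩ with hX0
  have hker : ∀ g : (S : Subgroup G), q g = 1 ↔ (g : G) ∈ N := fun g =>
    (QuotientGroup.eq_one_iff g).trans Subgroup.mem_subgroupOf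
  have hX1 : X₀ ≠ 1 := fun e => by
    have := hnot (i := 1) (one_mem _) (by rw [one_mul, zpow_one]; exact (hker _).mp e)
    exact Int.not_even_one this
  have hX2 : X₀ * X₀ = 1 := by
    rw [← map_mul, hker]
    have := hxN2 1
    rwa [mul_one, zpow_two] at this
  have hcls : ∀ g : (S : Subgroup G), R.Cls (g : G) → q g = 1 ∨ q g = X₀ := fun g hc => by
    obtain ⟨t, ht, i, hi⟩ := hsplit g.2 hc
    obtain ⟨j, rfl | rfl⟩ := Int.even_or_odd' i
    · exact Or.inl ((hker g).mpr ⟨t, ht, j, hi⟩)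
    · right
      rw [← mul_inv_eq_one, ← map_inv, ← map_mul, hker]
      refine ⟨t, ht, j, ?_⟩
      show (g : G) * x⁻¹ = _
      rw [hi, zpow_add, zpow_one]; group
  have hcent : ∀ a : (S : Subgroup G) ⧸ Ns, a * X₀ = X₀ * a := fun a => by
    induction a using QuotientGroup.induction_on with
    | _ g =>
      have h1 : q g * X₀ * (q g)⁻¹ = q (g * ⟨x, hxS⟩ * g⁻¹) := by rw [hX0, map_mul, map_mul, map_inv]
      rcases hcls (g * ⟨x, hxS⟩ * g⁻¹) (R.cls_of_comm (hs.other_conj R.base g.2)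
        (g * ⟨x, hxS⟩ * g⁻¹).2 (by
          show (g : G) * x * (g : G)⁻¹ * _ = _
          rw [show (g : G) * x * (g : G)⁻¹ * ((g : G) * u * (g : G)⁻¹) = (g : G) * (x * u) * (g : G)⁻¹ by group,
            (F.mem_Dv.mp hx.2).2.1]
          show _ = _ * ((g : G) * x * (g : G)⁻¹)
          group)) with h2 | h2
      · rw [h2] at h1
        exact absurd (conj_eq_one_iff.mp h1) hX1
      · rw [h2] at h1
        exact mul_inv_eq_iff_eq_mul.mp h1
  have hcomm : ∀ a b : (S : Subgroup G) ⧸ Ns, a * b = b * a := fun a b => by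
    induction a using QuotientGroup.induction_on with
    | _ g =>
      induction b using QuotientGroup.induction_on with
      | _ k =>
        change q g * q k = q k * q g
        by_cases hg : R.Cls (g : G)
        · rcases hcls g hg with e' | e' <;> rw [e']
          exacts [by rw [one_mul, mul_one], (hcent _).symm]
        by_cases hk : R.Cls (k : G)
        · rcases hcls k hk with e' | e' <;> rw [e']
          exacts [by rw [one_mul, mul_one], hcent _]
        -- both outside: they differ by the central element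
        have h1 := hcls (g * k) (R.cls_mul_not g.2 k.2 hg hk)
        have h2 := hcls (k * k) (R.cls_mul_not k.2 k.2 hk hk)
        have h3 : q g = q (g * k) * (q (k * k))⁻¹ * q k := by rw [map_mul, map_mul]; group
        rw [h3]
        rcases h1 with e1 | e1 <;> rcases h2 with e2 | e2 <;> rw [e1, e2] <;>
          simp [inv_eq_self hX2, hcent, hX2, ← mul_assoc]
  letI : CommGroup ((S : Subgroup G) ⧸ Ns) := { (inferInstance : Group ((S : Subgroup G) ⧸ Ns)) with mul_comm := hcomm }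
  have hpow : ∀ {t : G} {i : ℤ}, t ∈ R.T → ∀ n : ℕ, ∃ t' ∈ R.T, (t * x ^ i) ^ n = t' * x ^ (i * n) := by
    intro t i ht n
    induction n with
    | zero => exact ⟨1, one_mem _, by simp⟩
    | succ n ih =>
      obtain ⟨t', ht', e'⟩ := ih
      exact ⟨t' * (x ^ (i * n) * t * (x ^ (i * n))⁻¹), mul_mem ht' (hnorm _ _ ht), by
        rw [pow_succ, e', Nat.cast_succ, mul_add, mul_one, zpow_add]; group⟩
  -- elements of small order have values squaring to one
  have hsmall : ∀ g : (S : Subgroup G), (g : G) ^ 2 ^ (e + 1) = 1 → q g * q g = 1 := by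
    intro g hg
    by_cases hc : R.Cls (g : G)
    · rcases hcls g hc with e' | e' <;> rw [e']
      exacts [one_mul 1, hX2]
    obtain ⟨t, ht, i, hi⟩ := hsplit (g * g).2 (R.cls_mul_not g.2 g.2 hc hc)
    rw [← map_mul]
    refine (hker _).mpr ?_
    rw [hi]
    obtain ⟨t', ht', e'⟩ := hpow (i := i) ht (2 ^ e)
    have h1 : t' * x ^ (i * (2 ^ e : ℕ)) = 1 := by
      rw [← e', ← hi, Subgroup.coe_mul, ← pow_two, ← pow_mul, ← pow_succ']
      exact hg
    have h2 : x ^ (i * (2 ^ e : ℕ)) = 1 := hxT _ (by rw [eq_inv_of_mul_eq_one_right h1]; exact inv_mem ht')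
    rw [← orderOf_dvd_iff_zpow_eq_one, he] at h2
    obtain ⟨m, hm⟩ := h2
    have hi2 : i = 2 * m := by
      refine mul_right_cancel₀ (pow_ne_zero e (two_ne_zero : (2 : ℤ) ≠ 0)) ?_
      push_cast at hm
      rw [pow_succ] at hm
      linarith
    exact ⟨t, ht, m, by rw [hi2]⟩
  -- values at the orbit points
  let val : G ⧸ (S : Subgroup G) → (S : Subgroup G) ⧸ Ns := fun p =>
    q ⟨p.out⁻¹ * x ^ Function.minimalPeriod (x • ·) p * p.out,
      QuotientGroup.out_conj_pow_minimalPeriod_mem (S : Subgroup G) x p⟩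
  have hval : ∀ {k : G}, k * x = x * k → ∀ p, val (k • p) = val p := by
    intro k hk p
    have hcomm' : ∀ n : ℕ, x ^ n * k = k * x ^ n := fun n => ((show Commute x k from hk.symm).pow_left n).eq
    have hper : Function.minimalPeriod (x • ·) (k • p) = Function.minimalPeriod (x • ·) p := by
      refine Function.minimalPeriod_eq_minimalPeriod_iff.mpr fun n => ?_
      simp only [Function.IsPeriodicPt, Function.IsFixedPt, smul_iterate]
      rw [smul_smul, hcomm', ← smul_smul, smul_left_cancel_iff]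
    have hmem : (k * p.out)⁻¹ * (k • p).out ∈ (S : Subgroup G) := by
      refine QuotientGroup.eq.mp ?_
      rw [QuotientGroup.out_eq']
      conv_rhs => rw [← QuotientGroup.out_eq' p]
      rfl
    show q _ = q _
    set s' : (S : Subgroup G) := ⟨_, hmem⟩ with hs'
    set y : (S : Subgroup G) := ⟨p.out⁻¹ * x ^ Function.minimalPeriod (x • ·) p * p.out,
      QuotientGroup.out_conj_pow_minimalPeriod_mem (S : Subgroup G) x p⟩
    have e1 : (⟨(k • p).out⁻¹ * x ^ Function.minimalPeriod (x • ·) (k • p) * (k • p).out,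
        QuotientGroup.out_conj_pow_minimalPeriod_mem (S : Subgroup G) x (k • p)⟩ : (S : Subgroup G)) = s'⁻¹ * y * s' := by
      refine Subtype.ext ?_
      show (k • p).out⁻¹ * x ^ Function.minimalPeriod (x • ·) (k • p) * (k • p).out = _
      rw [hper]
      simp only [Subgroup.coe_mul, Subgroup.coe_inv, hs', y]
      calc (k • p).out⁻¹ * x ^ Function.minimalPeriod (x • ·) p * (k • p).out
          = (k • p).out⁻¹ * (x ^ Function.minimalPeriod (x • ·) p * k) * (p.out * ((k * p.out)⁻¹ * (k • p).out)) := by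
            group
        _ = _ := by rw [hcomm']; group
    rw [e1, map_mul, map_mul, map_inv, mul_right_comm, inv_mul_cancel, one_mul]
  -- the homologies fixing an orbit point
  have hX0pow : ∀ {n : ℕ}, Even n → X₀ ^ n = 1 := fun ⟨j, hj⟩ => by rw [hj, pow_add, ← mul_pow, hX2, one_pow]
  have hX0pow' : ∀ {n : ℕ}, Odd n → X₀ ^ n = X₀ := fun ⟨j, hj⟩ => by
    rw [hj, pow_succ, hX0pow ⟨j, by ring⟩, one_mul]
  have hstab : ∀ {k : G} {p : G ⧸ (S : Subgroup G)}, k • p = p → p.out⁻¹ * k * p.out ∈ (S : Subgroup G) := by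
    intro k p hk
    rw [mul_assoc]
    refine QuotientGroup.eq.mp ?_
    rw [QuotientGroup.out_eq']
    conv_lhs => rw [← hk, ← QuotientGroup.out_eq' p]
    rfl
  have hfixed : ∀ (p : G ⧸ (S : Subgroup G)), h • p = p → u • p = p → ∀ (n : ℕ) (hn : x ^ n • p = p),
      q ⟨p.out⁻¹ * x ^ n * p.out, hstab hn⟩ = X₀ ^ n := by
    intro p hph hpu n hn
    set g := p.out with hg
    set y : (S : Subgroup G) := ⟨g⁻¹ * x ^ n * g, hstab hn⟩
    set h1 := g⁻¹ * h * g
    set u1 := g⁻¹ * u * g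
    have H1 : IsHom A h1 := by have := hs.hom.map g⁻¹; rwa [inv_inv] at this
    have U1 : IsHom A u1 := by have := R.base.2.1.map g⁻¹; rwa [inv_inv] at this
    have F1 : Four A h1 u1 := ⟨H1, U1, fun e' => F.ne (mul_left_cancel (mul_right_cancel e')), by
      show g⁻¹ * h * g * (g⁻¹ * u * g) = g⁻¹ * u * g * (g⁻¹ * h * g)
      rw [show g⁻¹ * h * g * (g⁻¹ * u * g) = g⁻¹ * (h * u) * g by group, F.comm]; group⟩
    have hxD : x ^ n ∈ F.Dv O := pow_mem hx.2 n
    obtain ⟨d1, d2, d3⟩ := F.mem_Dv.mp hxD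
    have hfix : ∀ {k : G}, (∀ a ∈ O.fixO k, A.p (x ^ n) a = a) →
        ∀ a ∈ O.fixO (g⁻¹ * k * g), A.p (g⁻¹ * x ^ n * g) a = a := by
      intro k hk a ha
      have h1' := (O.map_fixO (g⁻¹ * k * g) g).mpr ha
      rw [show g * (g⁻¹ * k * g) * g⁻¹ = k by group] at h1'
      rw [A.p_mul, A.p_mul, hk _ h1', A.p_inv_apply]
    have fh : ∀ a ∈ O.fixO h1, A.p (y : G) a = a := hfix fun a ha => d3 a (Or.inl (Or.inl ha))
    have fu : ∀ a ∈ O.fixO u1, A.p (y : G) a = a := hfix fun a ha => d3 a (Or.inl (Or.inr ha))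
    have fhu : ∀ a ∈ O.fixO (h1 * u1), A.p (y : G) a = a := by
      rw [show h1 * u1 = g⁻¹ * (h * u) * g by simp only [h1, u1]; group]
      exact hfix fun a ha => d3 a (Or.inr ha)
    have cy : ∀ {k : G}, x ^ n * k = k * x ^ n → (y : G) * (g⁻¹ * k * g) = g⁻¹ * k * g * (y : G) := by
      intro k hk
      show g⁻¹ * x ^ n * g * (g⁻¹ * k * g) = g⁻¹ * k * g * (g⁻¹ * x ^ n * g)
      rw [show g⁻¹ * x ^ n * g * (g⁻¹ * k * g) = g⁻¹ * (x ^ n * k) * g by group, hk]; group
    obtain ⟨w, hw, cw, fw, fhw⟩ : ∃ w, hs.Other w ∧ (y : G) * w = w * (y : G) ∧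
        (∀ a ∈ O.fixO w, A.p (y : G) a = a) ∧
        (∀ a ∈ O.fixO h, A.p (y : G) a = a) ∧ (∀ a ∈ O.fixO (h * w), A.p (y : G) a = a) := by
      by_cases e1 : h1 = h
      · refine ⟨u1, ⟨hstab hpu, U1, fun e' => F1.ne (e1.trans e'.symm)⟩, cy d2, fu, ?_, ?_⟩
        · exact e1 ▸ fh
        · exact e1 ▸ fhu
      by_cases e2 : u1 = h
      · refine ⟨h1, ⟨hstab hph, H1, e1⟩, cy d1, fh, e2 ▸ fu, ?_⟩
        rw [← e2, ← F1.comm]; exact fhu
      have e3 : h1 * u1 = h := hs.hom_fix_eq (mul_mem (hstab hph) (hstab hpu)) (F1.hom_prod M)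
        (hs.mul_fixes (hstab hph) (hstab hpu) (hs.other_moves ⟨hstab hph, H1, e1⟩)
          (hs.other_moves ⟨hstab hpu, U1, e2⟩))
      refine ⟨u1, ⟨hstab hpu, U1, e2⟩, cy d2, fu, e3 ▸ fhu, ?_⟩
      rw [← e3, mul_assoc, U1.sq, mul_one]; exact fh
    have hyD : (y : G) ∈ (hs.four hw).Dv O := (hs.four hw).mem_Dv.mpr ⟨hs.central _ y.2, cw, by
      rintro a ((ha | ha) | ha)
      exacts [fhw.1 a ha, fw a ha, fhw.2 a ha]⟩
    have hyT : ∀ j : ℕ, (y : G) ^ j ∈ R.T → (y : G) ^ j = 1 := fun j hj => R.T_inf_Dv hw hj (pow_mem hyD j)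
    obtain ⟨t, ht, i, hi⟩ := hsplit y.2 (R.cls_of_comm hw y.2 cw)
    have hyn : ∀ j : ℕ, (y : G) ^ j = g⁻¹ * x ^ (n * j) * g := fun j => by
      have h := conj_pow (a := g⁻¹) (b := x ^ n) (i := j)
      rw [inv_inv, ← pow_mul] at h
      exact h
    obtain ⟨t', ht', he'⟩ := hpow (i := i) ht (2 ^ e)
    rw [← hi] at he'
    obtain ⟨j, rfl | rfl⟩ := Int.even_or_odd' i
    · have h1' : x ^ (2 * j * (2 ^ e : ℕ)) = 1 := by
        rw [← orderOf_dvd_iff_zpow_eq_one, he]
        exact ⟨j, by push_cast; ring⟩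
      rw [h1', mul_one] at he'
      have h2 := hyT _ (he' ▸ ht')
      rw [hyn] at h2
      have h3 : x ^ (n * 2 ^ e) = 1 := by
        calc x ^ (n * 2 ^ e) = g * (g⁻¹ * x ^ (n * 2 ^ e) * g) * g⁻¹ := by group
          _ = 1 := by rw [h2]; group
      have h4 := orderOf_dvd_of_pow_eq_one h3
      rw [he, pow_succ'] at h4
      have hn2 : 2 ∣ n := Nat.dvd_of_mul_dvd_mul_right (Nat.two_pow_pos e) h4
      rw [hX0pow (even_iff_two_dvd.mpr hn2)]
      exact (hker y).mpr ⟨t, ht, j, hi⟩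
    · have hn2 : Odd n := by
        by_contra hev
        obtain ⟨m, hm⟩ := Nat.not_odd_iff_even.mp hev
        have h1' : (y : G) ^ 2 ^ e = 1 := by
          rw [hyn, hm, show (m + m) * 2 ^ e = orderOf x * m by rw [he]; ring, pow_mul, pow_orderOf_eq_one,
            one_pow]; group
        rw [h1'] at he'
        have h2 : x ^ ((2 * j + 1) * (2 ^ e : ℕ)) = 1 := hxT _ (by
          rw [eq_inv_of_mul_eq_one_right he'.symm]; exact inv_mem ht')
        rw [← orderOf_dvd_iff_zpow_eq_one, he] at h2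
        obtain ⟨c, hc⟩ := h2
        push_cast at hc
        rw [pow_succ] at hc
        have : 2 * j + 1 = 2 * c := mul_right_cancel₀ (pow_ne_zero e (two_ne_zero : (2 : ℤ) ≠ 0))
          (by linarith)
        omega
      rw [hX0pow' hn2, ← mul_inv_eq_one, hX0, ← map_inv, ← map_mul, hker]
      refine ⟨t, ht, j, ?_⟩
      show (y : G) * x⁻¹ = _
      rw [hi, zpow_add, zpow_one]; group
  -- the transfer of `x`
  haveI : Fintype (G ⧸ (S : Subgroup G)) := Fintype.ofFinite _
  let Ω := Quotient (orbitRel (Subgroup.zpowers x) (G ⧸ (S : Subgroup G)))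
  haveI : Fintype Ω := Fintype.ofFinite _
  have hxk : ∀ {k : G}, k * x = x * k → ∀ a b : G ⧸ (S : Subgroup G),
      (orbitRel (Subgroup.zpowers x) (G ⧸ (S : Subgroup G))).r a b →
      (orbitRel (Subgroup.zpowers x) (G ⧸ (S : Subgroup G))).r (k • a) (k • b) := by
    rintro k hk a b ⟨⟨c, i, rfl⟩, rfl⟩
    refine ⟨⟨x ^ i, i, rfl⟩, ?_⟩
    show x ^ i • k • b = k • (x ^ i • b)
    rw [smul_smul, smul_smul, ((show Commute x k from hk.symm).zpow_left i).eq]
  have hhx : h * x = x * h := (hs.central x hxS).symm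
  have hux : u * x = x * u := (F.mem_Dv.mp hx.2).2.1.symm
  have hxorb : ∀ a b : G ⧸ (S : Subgroup G), (Quotient.mk _ a : Ω) = Quotient.mk _ b → ∃ i : ℤ, a = x ^ i • b := by
    intro a b hab
    obtain ⟨⟨c, i, rfl⟩, hc⟩ := Quotient.exact hab
    exact ⟨i, hc.symm⟩
  let σ : ∀ k : G, k * x = x * k → Ω → Ω := fun k hk => Quotient.map (fun a => k • a) (hxk hk)
  have hσσ : ∀ (k : G) (hk : k * x = x * k), k * k = 1 → ∀ w, σ k hk (σ k hk w) = w := fun k hk hk2 w => by
    induction w using Quotient.inductionOn with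
    | _ a => exact congrArg (Quotient.mk _) (by show k • k • a = a; rw [smul_smul, hk2, one_smul])
  let f : Ω → (S : Subgroup G) ⧸ Ns := fun w => val w.out
  have hfσ : ∀ (k : G) (hk : k * x = x * k) (w : Ω), f (σ k hk w) = f w := by
    intro k hk w
    obtain ⟨i, hi⟩ := hxorb (σ k hk w).out (k • w.out) (by
      rw [Quotient.out_eq]
      conv_lhs => rw [← Quotient.out_eq w]
      rfl)
    show val _ = val _
    rw [hi, hval (Commute.self_zpow x i).symm.eq, hval hk]
  have hxord : x ^ 2 ^ (e + 1) = 1 := by rw [← he, pow_orderOf_eq_one]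
  have hsq : ∀ w : Ω, f w * f w = 1 := fun w => hsmall _ (by
    have h := conj_pow (a := w.out.out⁻¹) (b := x ^ Function.minimalPeriod (x • ·) w.out) (i := 2 ^ (e + 1))
    rw [inv_inv, ← pow_mul, mul_comm, pow_mul, hxord, one_pow, mul_one, inv_mul_cancel] at h
    exact h)
  have htr : ∏ w : Ω, f w = 1 := by
    have h1 := MonoidHom.transfer_eq_prod_quotient_orbitRel_zpowers_quot q x
    rw [hom_eq_one_of_perfect M.perfect] at h1
    exact h1.symm
  rw [prod_eq_fixed Finset.univ (σ h hhx) (fun w _ => Finset.mem_univ _) (fun w _ => hσσ h hhx hs.hom.sq w) f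
    (fun w _ => hfσ h hhx w) (fun w _ => hsq w)] at htr
  have hσcomm : ∀ w, σ h hhx (σ u hux w) = σ u hux (σ h hhx w) := fun w => by
    induction w using Quotient.inductionOn with
    | _ a => exact congrArg (Quotient.mk _) (by show h • u • a = u • h • a; rw [smul_smul, smul_smul, F.comm])
  rw [prod_eq_fixed _ (σ u hux) (fun w hw => Finset.mem_filter.mpr ⟨Finset.mem_univ _, by
      rw [hσcomm, (Finset.mem_filter.mp hw).2]⟩) (fun w _ => hσσ u hux R.base.2.1.sq w) f
    (fun w _ => hfσ u hux w) (fun w _ => hsq w), Finset.filter_filter] at htr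
  have hf2 : ∀ w, σ h hhx w = w → σ u hux w = w → f w = if x • w.out = w.out then X₀ else 1 := by
    intro w hwh hwu
    set p := w.out with hp
    set r := Function.minimalPeriod (x • ·) p with hr
    have hrp : x ^ r • p = p := pow_smul_eq_iff_minimalPeriod_dvd.mpr dvd_rfl
    by_cases hxp : x • p = p
    · have hr1 : r = 1 := Nat.dvd_one.mp (pow_smul_eq_iff_minimalPeriod_dvd.mp (by rwa [pow_one]))
      have hfx : ∀ (k : G) (hk : k * x = x * k), σ k hk w = w → k • p = p := by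
        intro k hk hkw
        obtain ⟨i, hi⟩ := hxorb (k • p) p (by
          rw [Quotient.out_eq]
          conv_rhs => rw [← hkw, ← Quotient.out_eq w]
          rfl)
        have : x ^ i ∈ stabilizer G p := zpow_mem (show x ∈ stabilizer G p from hxp) i
        exact hi.trans this
      rw [if_pos hxp]
      refine (hfixed p (hfx h hhx hwh) (hfx u hux hwu) r hrp).trans ?_
      rw [hr1, pow_one]
    rw [if_neg hxp]
    obtain ⟨d, hd, hrd⟩ := (Nat.dvd_prime_pow Nat.prime_two).mp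
      ((pow_smul_eq_iff_minimalPeriod_dvd.mp (by rw [hxord, one_smul]) : r ∣ 2 ^ (e + 1)))
    change r = 2 ^ d at hrd
    have hd1 : d ≠ 0 := fun h0 => hxp (by
      rw [h0, pow_zero] at hrd
      rw [hrd, pow_one] at hrp
      exact hrp)
    have hreven : Even r := by rw [hrd]; exact (Nat.even_pow).mpr ⟨even_two, hd1⟩
    -- a homology moving `p` inside its orbit
    have hmove : ∀ (k : G) (hk : k * x = x * k), k * k = 1 → σ k hk w = w → k • p ≠ p → f w = 1 := by
      intro k hk hk2 hkw hkp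
      obtain ⟨i, hi⟩ := hxorb (k • p) p (by
        rw [Quotient.out_eq]
        conv_rhs => rw [← hkw, ← Quotient.out_eq w]
        rfl)
      have hii : x ^ (i + i) • p = p := by
        rw [zpow_add, ← smul_smul, ← hi, smul_smul, ← ((show Commute x k from hk.symm).zpow_left i).eq.symm,
          ← smul_smul, ← hi, smul_smul, hk2, one_smul]
      have hdvd := zpow_smul_eq_iff_minimalPeriod_dvd.mp hii
      obtain ⟨m, hm⟩ := hdvd
      have hm2 : Odd m := by
        by_contra hev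
        obtain ⟨m', rfl⟩ := Int.not_odd_iff_even.mp hev
        refine hkp ?_
        rw [hi]
        exact zpow_smul_eq_iff_minimalPeriod_dvd.mpr ⟨m', by linarith⟩
      set k' := x ^ (-i) * k with hk'
      have hk'p : k' • p = p := by
        rw [hk', ← smul_smul, hi, smul_smul, ← zpow_add, neg_add_cancel, zpow_zero, one_smul]
      have hcxk : Commute (x ^ (-i)) k := (show Commute x k from hk.symm).zpow_left _
      set y' : (S : Subgroup G) := ⟨p.out⁻¹ * k' * p.out, hstab hk'p⟩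
      have hy'2 : y' * y' = (⟨p.out⁻¹ * x ^ r * p.out, hstab hrp⟩ : (S : Subgroup G)) ^ (-m) := by
        refine Subtype.ext ?_
        rw [Subgroup.coe_zpow]
        show p.out⁻¹ * k' * p.out * (p.out⁻¹ * k' * p.out) = (p.out⁻¹ * x ^ r * p.out) ^ (-m)
        have h := _root_.conj_zpow (a := p.out⁻¹) (b := x ^ r) (i := -m)
        rw [inv_inv] at h
        rw [h, show p.out⁻¹ * k' * p.out * (p.out⁻¹ * k' * p.out) = p.out⁻¹ * (k' * k') * p.out by group, hk',
          show x ^ (-i) * k * (x ^ (-i) * k) = x ^ (-i) * (k * x ^ (-i)) * k by group, ← hcxk.eq,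
          show x ^ (-i) * (x ^ (-i) * k) * k = x ^ (-i) * x ^ (-i) * (k * k) by group, hk2, mul_one, ← zpow_add,
          ← zpow_natCast x r, ← zpow_mul]
        congr 3
        rw [← hr] at hm
        linarith
      have hy'o : (y' : G) ^ 2 ^ (e + 1) = 1 := by
        show (p.out⁻¹ * k' * p.out) ^ 2 ^ (e + 1) = 1
        have h := conj_pow (a := p.out⁻¹) (b := k') (i := 2 ^ (e + 1))
        rw [inv_inv] at h
        rw [h, hk', hcxk.mul_pow, ← zpow_natCast, ← zpow_mul, mul_comm, zpow_mul, zpow_natCast, hxord, one_zpow,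
          one_mul, pow_succ', pow_mul, pow_two, hk2, one_pow, mul_one, inv_mul_cancel]
      have h1 := hsmall y' hy'o
      rw [← map_mul, hy'2, map_zpow] at h1
      obtain ⟨m', hm'⟩ := hm2.neg
      rw [hm', zpow_add, zpow_mul, zpow_two, zpow_one] at h1
      have h2 : f w * f w = 1 := hsq w
      change ((f w * f w) ^ m') * f w = 1 at h1
      rwa [h2, one_zpow, one_mul] at h1
    by_cases hh' : h • p = p
    swap
    · exact hmove h hhx hs.hom.sq hwh hh'
    by_cases hu' : u • p = p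
    swap
    · exact hmove u hux R.base.2.1.sq hwu hu'
    exact (hfixed p hh' hu' r hrp).trans (hX0pow hreven)
  rw [Finset.prod_congr rfl fun w hw => hf2 w (Finset.mem_filter.mp hw).2.1 (Finset.mem_filter.mp hw).2.2,
    Finset.prod_ite, Finset.prod_const, Finset.prod_const_one, mul_one, Finset.filter_filter] at htr
  -- the common fixed points
  set Rg : Subgroup G := Subgroup.closure {x, u, h} with hRg
  have hRle : Rg ≤ (S : Subgroup G) := (Subgroup.closure_le _).mpr (by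
    rintro a (rfl | rfl | rfl)
    exacts [hxS, R.base.1, hs.mem])
  have hmod := (S.2.to_le hRle).card_modEq_card_fixedPoints (G ⧸ (S : Subgroup G))
  have hodd : Odd (Nat.card (G ⧸ (S : Subgroup G))) := by
    rw [← Subgroup.index_eq_card, Nat.odd_iff]
    have := S.not_dvd_index
    omega
  have hfp : ∀ p : G ⧸ (S : Subgroup G), p ∈ fixedPoints Rg (G ⧸ (S : Subgroup G)) ↔
      x • p = p ∧ u • p = p ∧ h • p = p := by
    intro p
    refine ⟨fun hp => ⟨hp ⟨x, Subgroup.subset_closure (by simp)⟩, hp ⟨u, Subgroup.subset_closure (by simp)⟩,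
      hp ⟨h, Subgroup.subset_closure (by simp)⟩⟩, fun ⟨a, b, c⟩ g => ?_⟩
    have : Rg ≤ stabilizer G p := (Subgroup.closure_le _).mpr (by
      rintro s (rfl | rfl | rfl)
      exacts [a, b, c])
    exact this g.2
  have hsingle : ∀ p : G ⧸ (S : Subgroup G), x • p = p → (Quotient.mk _ p : Ω).out = p := by
    intro p hp
    obtain ⟨i, hi⟩ := hxorb (Quotient.mk _ p : Ω).out p (Quotient.out_eq _)
    have : x ^ i ∈ stabilizer G p := zpow_mem (show x ∈ stabilizer G p from hp) i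
    exact hi.trans this
  have hcard : (Finset.univ.filter fun w : Ω => (σ h hhx w = w ∧ σ u hux w = w) ∧ x • w.out = w.out).card =
      Nat.card (fixedPoints Rg (G ⧸ (S : Subgroup G))) := by
    rw [← Nat.card_eq_finsetCard]
    refine Nat.card_congr
      { toFun := fun w => ⟨w.1.out, (hfp _).mpr ?_⟩
        invFun := fun p => ⟨Quotient.mk _ p.1, Finset.mem_filter.mpr ⟨Finset.mem_univ _, ?_⟩⟩
        left_inv := fun w => Subtype.ext (Quotient.out_eq w.1)
        right_inv := fun p => Subtype.ext (hsingle p.1 ((hfp _).mp p.2).1) }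
    · obtain ⟨-, ⟨wh, wu⟩, wx⟩ := Finset.mem_filter.mp w.2
      have key : ∀ (k : G) (hk : k * x = x * k), σ k hk w.1 = w.1 → k • w.1.out = w.1.out := by
        intro k hk hkw
        obtain ⟨i, hi⟩ := hxorb (k • w.1.out) w.1.out (by
          rw [Quotient.out_eq]
          conv_rhs => rw [← hkw, ← Quotient.out_eq w.1]
          rfl)
        have : x ^ i ∈ stabilizer G w.1.out := zpow_mem (show x ∈ stabilizer G w.1.out from wx) i
        exact hi.trans this
      exact ⟨wx, key u hux wu, key h hhx wh⟩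
    · obtain ⟨a, b, c⟩ := (hfp _).mp p.2
      refine ⟨⟨congrArg (Quotient.mk _) c, congrArg (Quotient.mk _) b⟩, ?_⟩
      rw [hsingle p.1 a]; exact a
  rw [hcard, hX0pow' ?_] at htr
  · exact hX1 htr
  · rw [Nat.odd_iff] at hodd ⊢
    rw [← hodd]
    exact hmod.symm

end Refl

end CfsgLib.OvalPlane
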